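import Mathlib.RingTheory.Flat.FaithfullyFlat.Algebra
import Mathlib.RingTheory.IntegralClosure.IntegrallyClosed
import Mathlib.RingTheory.Noetherian.Basic
import Mathlib.RingTheory.Localization.FractionRing

/-!
# Descent of Noetherian, domain and normal along faithfully flat maps
-/

namespace Groth.Agent.HenselLib

variable (R S : Type*) [CommRing R] [CommRing S] [Algebra R S] [Module.FaithfullyFlat R S]

theorem isNoetherianRing_of_faithfullyFlat [IsNoetherianRing S] : IsNoetherianRing R := by
  have hinj : ∀ I J : Ideal R, I.map (algebraMap R S) ≤ J.map (algebraMap R S) → I ≤ J :=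
    fun I J h => by
      have := Ideal.comap_mono (f := algebraMap R S) h
      rwa [Ideal.comap_map_eq_self_of_faithfullyFlat, Ideal.comap_map_eq_self_of_faithfullyFlat] at this
  refine isNoetherian_iff.mpr (RelEmbedding.wellFounded (r := (· > ·))
    ⟨⟨Ideal.map (algebraMap R S), fun I J h => le_antisymm (hinj I J h.le) (hinj J I h.ge)⟩,
      fun {I J} => ⟨fun h => ⟨hinj _ _ h.le, fun h' => h.not_ge (Ideal.map_mono h')⟩,
        fun h => ⟨Ideal.map_mono h.le, fun h' => h.not_ge (hinj _ _ h')⟩⟩⟩
    (isNoetherian_iff.mp inferInstance))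

theorem isDomain_of_faithfullyFlat [IsDomain S] : IsDomain R :=
  (FaithfulSMul.algebraMap_injective R S).isDomain (algebraMap R S)

theorem isIntegrallyClosed_of_faithfullyFlat [IsDomain S] [IsIntegrallyClosed S] :
    IsIntegrallyClosed R := by
  have := isDomain_of_faithfullyFlat R S
  have inj := IsFractionRing.injective R (FractionRing R)
  let f : FractionRing R →+* FractionRing S :=
    IsFractionRing.lift (g := (algebraMap S (FractionRing S)).comp (algebraMap R S))
      ((IsFractionRing.injective S (FractionRing S)).comp (FaithfulSMul.algebraMap_injective R S))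
  have hf : ∀ r, f (algebraMap R (FractionRing R) r) =
      algebraMap S (FractionRing S) (algebraMap R S r) := fun r => IsLocalization.lift_eq _ r
  refine (isIntegrallyClosed_iff (FractionRing R)).mpr fun {z} hz => ?_
  obtain ⟨a, b, hb, rfl⟩ := IsFractionRing.div_surjective (A := R) z
  have hint : IsIntegral S (f (algebraMap R (FractionRing R) a / algebraMap R (FractionRing R) b)) := by
    obtain ⟨p, hp, hpz⟩ := hz
    refine ⟨p.map (algebraMap R S), hp.map _, ?_⟩
    rw [Polynomial.eval₂_map, ← show f.comp (algebraMap R (FractionRing R)) =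
      (algebraMap S (FractionRing S)).comp (algebraMap R S) from RingHom.ext hf,
      ← Polynomial.hom_eval₂, hpz, map_zero]
  obtain ⟨y, hy⟩ := IsIntegrallyClosed.isIntegral_iff.mp hint
  have hb0 := nonZeroDivisors.ne_zero hb
  have hbS : algebraMap R S b * y = algebraMap R S a := by
    apply IsFractionRing.injective S (FractionRing S)
    rw [map_mul, hy, ← hf, ← hf, ← map_mul, mul_div_cancel₀ _ ((map_ne_zero_iff _ inj).mpr hb0)]
  have hab : a ∈ Ideal.span {b} := by
    rw [← Ideal.comap_map_eq_self_of_faithfullyFlat (B := S) (Ideal.span {b}), Ideal.mem_comap,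
      Ideal.map_span, Set.image_singleton, Ideal.mem_span_singleton]
    exact ⟨y, hbS.symm⟩
  obtain ⟨c, rfl⟩ := Ideal.mem_span_singleton.mp hab
  exact ⟨c, by rw [map_mul, mul_div_assoc, mul_div_cancel₀ _ ((map_ne_zero_iff _ inj).mpr hb0)]⟩

end Groth.Agent.HenselLib
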