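import Groth.Agent.HenselLib.Ops
import Mathlib.RingTheory.Idempotents
import Mathlib.RingTheory.Artinian.Module
import Mathlib.RingTheory.Spectrum.Prime.Noetherian
import Mathlib.RingTheory.Spectrum.Maximal.Localization
import Mathlib.RingTheory.Ideal.Quotient.Operations

/-!
# Finite algebras over local rings: products of local rings and idempotents
-/

universe u v w

namespace Groth.Agent.HenselLib

/-- In a product of local rings idempotents lift modulo every ideal in the radical. -/
theorem surjOn_idem_of_prod_local {B : Type v} [CommRing B] {ι : Type w} {C : ι → Type*}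
    [∀ j, CommRing (C j)] (hloc : ∀ j, IsLocalRing (C j)) (ε : B ≃+* ∀ j, C j) {J : Ideal B}
    (hJ : J ≤ Ideal.jacobson ⊥) :
    Set.SurjOn (Ideal.Quotient.mk J) {e : B | IsIdempotentElem e} {e | IsIdempotentElem e} := by
  classical
  intro ē hē
  obtain ⟨x, rfl⟩ := Ideal.Quotient.mk_surjective ē
  have hx : x * x - x ∈ J := Ideal.Quotient.eq.mp (by rw [map_mul]; exact hē)
  let f : ∀ j, C j := fun j => if IsUnit (ε x j) then 1 else 0
  have hex : ∀ j, ∃ u : C j, ε x j - f j = ε (x * x - x) j * u := by
    intro j
    haveI := hloc j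
    simp only [f, map_sub, map_mul, Pi.sub_apply, Pi.mul_apply]
    split_ifs with h
    · obtain ⟨u, hu⟩ := h
      exact ⟨↑u⁻¹, by rw [← hu]; linear_combination -((u : C j) - 1) * u.mul_inv⟩
    · obtain ⟨u, hu⟩ := (IsLocalRing.isUnit_or_isUnit_one_sub_self (ε x j)).resolve_left h
      refine ⟨-↑u⁻¹, ?_⟩
      have := u.mul_inv
      rw [hu] at this
      linear_combination -(ε x j) * this
  choose u hu using hex
  refine ⟨ε.symm f, ε.injective ?_, Ideal.Quotient.eq.mpr ?_⟩
  · rw [map_mul, RingEquiv.apply_symm_apply]
    funext j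
    simp only [f, Pi.mul_apply]
    split_ifs <;> simp
  · rw [← Ideal.neg_mem_iff, neg_sub,
      show x - ε.symm f = (x * x - x) * ε.symm u from ε.injective (funext fun j => by
        simpa using hu j)]
    exact J.mul_mem_right _ hx

variable {A : Type u} [CommRing A] [IsLocalRing A] {B : Type v} [CommRing B] [Algebra A B]
  [Module.Finite A B]

/-- Maximal ideals of a finite algebra lie over the maximal ideal. -/
theorem map_maximalIdeal_le (M : Ideal B) [M.IsMaximal] :
    (IsLocalRing.maximalIdeal A).map (algebraMap A B) ≤ M :=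
  Ideal.map_le_iff_le_comap.mpr (IsLocalRing.eq_maximalIdeal
    (Ideal.isMaximal_comap_of_isIntegral_of_isMaximal M)).ge

instance isArtinian_quotient_maximalIdeal :
    IsArtinianRing (B ⧸ (IsLocalRing.maximalIdeal A).map (algebraMap A B)) := by
  letI := Ideal.Quotient.field (IsLocalRing.maximalIdeal A)
  haveI : Module.Finite (A ⧸ IsLocalRing.maximalIdeal A)
      (B ⧸ (IsLocalRing.maximalIdeal A).map (algebraMap A B)) :=
    Module.Finite.of_restrictScalars_finite A _ _
  exact IsArtinianRing.of_finite (A ⧸ IsLocalRing.maximalIdeal A) _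

theorem finite_maximalSpectrum_of_finite (A : Type u) [CommRing A] [IsLocalRing A] {B : Type v}
    [CommRing B] [Algebra A B] [Module.Finite A B] : Finite (MaximalSpectrum B) := by
  set J := (IsLocalRing.maximalIdeal A).map (algebraMap A B)
  refine Finite.of_injective (β := MaximalSpectrum (B ⧸ J))
    (fun M => ⟨M.asIdeal.map (Ideal.Quotient.mk J), ?_⟩) fun M N h => ?_
  · haveI := M.isMaximal
    exact Ideal.IsMaximal.map_of_surjective_of_ker_le Ideal.Quotient.mk_surjective
      (Ideal.mk_ker.trans_le (map_maximalIdeal_le M.asIdeal))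
  · haveI := M.isMaximal
    haveI := N.isMaximal
    have h' := congrArg (fun K => Ideal.comap (Ideal.Quotient.mk J) K.asIdeal) h
    simp only [Ideal.comap_map_of_surjective _ Ideal.Quotient.mk_surjective,
      ← RingHom.ker_eq_comap_bot, Ideal.mk_ker] at h'
    rw [sup_eq_left.mpr (show J ≤ M.asIdeal from map_maximalIdeal_le M.asIdeal),
      sup_eq_left.mpr (show J ≤ N.asIdeal from map_maximalIdeal_le N.asIdeal)] at h'
    exact MaximalSpectrum.ext h'

/-- If idempotents lift, every maximal ideal is singled out by an idempotent. -/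
theorem exists_separating_idem
    (h : Set.SurjOn (Ideal.Quotient.mk ((IsLocalRing.maximalIdeal A).map (algebraMap A B)))
      {e : B | IsIdempotentElem e} {e | IsIdempotentElem e}) (M : Ideal B) [M.IsMaximal] :
    ∃ e : B, IsIdempotentElem e ∧ e ∉ M ∧ ∀ N : Ideal B, N.IsMaximal → N ≠ M → e ∈ N := by
  set J := (IsLocalRing.maximalIdeal A).map (algebraMap A B) with hJdef
  set π := Ideal.Quotient.mk J
  have hprime : ∀ N : Ideal B, N.IsMaximal → (N.map π).IsPrime := fun N hN =>
    Ideal.map_isPrime_of_surjective Ideal.Quotient.mk_surjective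
      (Ideal.mk_ker.trans_le (by haveI := hN; exact map_maximalIdeal_le N))
  have hcomap : ∀ N : Ideal B, N.IsMaximal → (N.map π).comap π = N := fun N hN => by
    haveI := hN
    rw [Ideal.comap_map_of_surjective _ Ideal.Quotient.mk_surjective, ← RingHom.ker_eq_comap_bot,
      Ideal.mk_ker, sup_eq_left.mpr (map_maximalIdeal_le N)]
  let P : PrimeSpectrum (B ⧸ J) := ⟨M.map π, hprime M inferInstance⟩
  obtain ⟨ē, hē, hP⟩ := PrimeSpectrum.isClopen_iff.mp (isClopen_discrete ({P} : Set _))
  obtain ⟨e, he, rfl⟩ := h hē
  refine ⟨e, he, fun heM => ?_, fun N hN hne => ?_⟩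
  · exact (hP.subset rfl : P ∈ PrimeSpectrum.basicOpen (π e)) (Ideal.mem_map_of_mem π heM)
  · by_contra heN
    have : (⟨N.map π, hprime N hN⟩ : PrimeSpectrum (B ⧸ J)) ∈ ({P} : Set _) := by
      rw [hP]
      intro hc
      exact heN (hcomap N hN ▸ hc)
    have h' := congrArg (fun p => Ideal.comap π p.asIdeal) (Set.mem_singleton_iff.mp this)
    simp only [P, hcomap N hN, hcomap M inferInstance] at h'
    exact hne h'

/-- The map to the product of the local rings at maximal ideals is bijective when idempotents
separate maximal ideals. -/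
theorem bijective_pi_localization [Finite (MaximalSpectrum B)]
    (h : ∀ M : MaximalSpectrum B, ∃ e : B, IsIdempotentElem e ∧ e ∉ M.asIdeal ∧
      ∀ N : Ideal B, N.IsMaximal → N ≠ M.asIdeal → e ∈ N) :
    Function.Bijective
      (RingHom.pi fun M : MaximalSpectrum B => algebraMap B (Localization.AtPrime M.asIdeal)) := by
  classical
  cases nonempty_fintype (MaximalSpectrum B)
  choose e he heM heN using h
  refine ⟨MaximalSpectrum.toPiLocalization_injective B, fun b => ?_⟩
  choose r hr using fun M : MaximalSpectrum B =>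
    IsLocalization.exists_mk'_eq M.asIdeal.primeCompl (b M)
  choose s hs using hr
  have hunit : ∀ M, IsUnit ((s M : B) * e M + (1 - e M)) := by
    intro M
    by_contra hnu
    obtain ⟨N, hN, hmem⟩ := exists_max_ideal_of_mem_nonunits hnu
    rcases eq_or_ne N M.asIdeal with rfl | hne
    · have : (s M : B) * (e M * e M) ∈ M.asIdeal := by
        have := M.asIdeal.mul_mem_right (e M) hmem
        rwa [add_mul, sub_mul, one_mul, (he M).eq, sub_self, add_zero, mul_assoc] at this
      rw [(he M).eq] at this
      exact (M.isMaximal.isPrime.mem_or_mem this).elim (s M).2 (heM M)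
    · exact hN.ne_top ((Ideal.eq_top_iff_one _).mpr (by
        have := N.add_mem hmem (N.mul_mem_left (1 - (s M : B)) (heN M N hN hne))
        ring_nf at this
        exact this))
  choose t ht using fun M => (hunit M).exists_left_inv
  refine ⟨∑ M, e M * r M * t M, funext fun M => ?_⟩
  set φ := algebraMap B (Localization.AtPrime M.asIdeal)
  have hφe : φ (e M) = 1 := by
    have hu : IsUnit (φ (e M)) := IsLocalization.map_units _ (⟨e M, heM M⟩ : M.asIdeal.primeCompl)
    have h1 : φ (e M) * φ (e M) = φ (e M) * 1 := by rw [mul_one, ← map_mul, (he M).eq]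
    exact hu.mul_left_cancel h1
  have hφe' : ∀ N, N ≠ M → φ (e N) = 0 := fun N hne => by
    have hmem : 1 - e N ∈ M.asIdeal.primeCompl := fun hc => M.isMaximal.ne_top
      ((Ideal.eq_top_iff_one _).mpr (by
        have := M.asIdeal.add_mem hc (heN N M.asIdeal M.isMaximal fun hc' => hne
          (MaximalSpectrum.ext hc'.symm))
        rwa [sub_add_cancel] at this))
    exact (IsLocalization.map_eq_zero_iff M.asIdeal.primeCompl _ _).mpr
      ⟨⟨1 - e N, hmem⟩, by rw [sub_mul, one_mul, (he N).eq, sub_self]⟩
  show φ (∑ N, e N * r N * t N) = b M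
  rw [map_sum, Finset.sum_eq_single M (fun N _ hne => by simp [hφe' N hne]) (by simp),
    ← hs M, IsLocalization.eq_mk'_iff_mul_eq]
  rw [map_mul, map_mul, hφe, one_mul, mul_assoc]
  show φ (r M) * (φ (t M) * φ (s M : B)) = φ (r M)
  have h1 := congrArg φ (ht M)
  simp only [map_mul, map_add, map_sub, hφe, map_one, mul_one, sub_self, add_zero] at h1
  rw [h1, mul_one]

/-- The product decomposition. -/
theorem exists_prod_local_of_bijective {B : Type u} [CommRing B] [Finite (MaximalSpectrum B)]
    (h : Function.Bijective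
      (RingHom.pi fun M : MaximalSpectrum B => algebraMap B (Localization.AtPrime M.asIdeal))) :
    ∃ (ι : Type u) (_ : Fintype ι) (C : ι → Type u) (_ : ∀ j, CommRing (C j)),
      (∀ j, IsLocalRing (C j)) ∧ Nonempty (B ≃+* (∀ j, C j)) :=
  ⟨MaximalSpectrum B, Fintype.ofFinite _, fun M => Localization.AtPrime M.asIdeal, inferInstance,
    fun _ => inferInstance, ⟨RingEquiv.ofBijective _ h⟩⟩

/-- A finite algebra over a local ring in which idempotents lift is a product of local rings. -/
theorem exists_prod_local_of_surjOn {B : Type v} [CommRing B] [Algebra A B] [Module.Finite A B]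
    (h : Set.SurjOn (Ideal.Quotient.mk ((IsLocalRing.maximalIdeal A).map (algebraMap A B)))
      {e : B | IsIdempotentElem e} {e | IsIdempotentElem e}) :
    ∃ (ι : Type v) (_ : Fintype ι) (C : ι → Type v) (_ : ∀ j, CommRing (C j)),
      (∀ j, IsLocalRing (C j)) ∧ Nonempty (B ≃+* (∀ j, C j)) := by
  haveI := finite_maximalSpectrum_of_finite A (B := B)
  exact exists_prod_local_of_bijective (bijective_pi_localization fun M => by
    haveI := M.isMaximal
    exact exists_separating_idem h M.asIdeal)

/-- A local ring is henselian when the algebras `A[T]/(F)` are products of local rings. -/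
theorem henselianLocalRing_of_prod_local
    (h : ∀ F : Polynomial A, F.Monic →
      ∃ (ι : Type u) (_ : Fintype ι) (C : ι → Type u) (_ : ∀ i, CommRing (C i)),
        (∀ i, IsLocalRing (C i)) ∧ Nonempty (AdjoinRoot F ≃+* (∀ i, C i))) :
    HenselianLocalRing A := by
  haveI : HenselianRing A (IsLocalRing.maximalIdeal A) :=
    henselianRing_of_liftsIdem (IsLocalRing.maximalIdeal_le_jacobson _)
      (liftsIdem_of_surjOn (IsLocalRing.maximalIdeal_le_jacobson _) fun m p hp _ => by
        haveI := hp.finite_adjoinRoot
        obtain ⟨ι, _, C, _, hloc, ⟨ε⟩⟩ := h p hp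
        exact surjOn_idem_of_prod_local hloc ε
          (map_le_jacobson (IsLocalRing.maximalIdeal_le_jacobson _)))
  exact henselianLocalRing_of_henselianRing

end Groth.Agent.HenselLib
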