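import Groth.Agent.HenselLib.Etale
import Mathlib.RingTheory.Polynomial.UniversalFactorizationRing

/-!
# Equivalent characterisations of henselian pairs

The main API: `liftsEtale`, `liftsFactor`, `liftsIdem` for `[HenselianRing A I]`, and the converse
constructors `henselianRing_of_liftsEtale`, `henselianRing_of_liftsIdem`,
`henselianRing_of_gabber`, `henselianRing_of_idem_finite`.
-/

universe u v

open Polynomial

namespace Groth.Agent.HenselLib

variable {A : Type u} [CommRing A] {I : Ideal A}

/-- Coprime monic factorizations lift. -/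
def LiftsFactor (A : Type u) [CommRing A] (I : Ideal A) : Prop :=
  ∀ f : A[X], f.Monic → ∀ g₀ h₀ : (A ⧸ I)[X], g₀.Monic → h₀.Monic → IsCoprime g₀ h₀ →
    f.map (Ideal.Quotient.mk I) = g₀ * h₀ →
      ∃ g h : A[X], g.Monic ∧ h.Monic ∧ f = g * h ∧ IsCoprime g h ∧
        g.map (Ideal.Quotient.mk I) = g₀ ∧ h.map (Ideal.Quotient.mk I) = h₀

theorem LiftsEtale.le_jacobson (h : LiftsEtale A I) : I ≤ Ideal.jacobson ⊥ := by
  intro x hx
  rw [Ideal.mem_jacobson_bot]
  intro y
  haveI : Algebra.Etale A (Localization.Away (x * y + 1)) :=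
    Algebra.Etale.of_isLocalizationAway (x * y + 1)
  have hu : IsUnit ((Algebra.ofId A (A ⧸ I)) (x * y + 1)) := by
    rw [map_add, map_one, Algebra.ofId_apply, Ideal.Quotient.algebraMap_eq,
      Ideal.Quotient.eq_zero_iff_mem.mpr (I.mul_mem_right y hx), zero_add]
    exact isUnit_one
  obtain ⟨τ, -⟩ := h (Localization.Away (x * y + 1))
    (IsLocalization.Away.liftAlgHom (x * y + 1) (f := Algebra.ofId A (A ⧸ I)) hu)
  have := (IsLocalization.Away.algebraMap_isUnit (S := Localization.Away (x * y + 1))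
    (x * y + 1)).map τ
  rwa [AlgHom.commutes, Algebra.algebraMap_self, RingHom.id_apply] at this

theorem henselianRing_of_liftsEtale (h : LiftsEtale A I) : HenselianRing A I where
  jac := h.le_jacobson
  is_henselian f hf a₀ h₁ h₂ := by
    let P : StandardEtalePair A :=
      { f := f, monic_f := hf, g := derivative f, cond := ⟨1, 0, 1, by ring⟩ }
    have hmap : P.HasMap (Ideal.Quotient.mk I a₀) := by
      refine ⟨?_, ?_⟩
      · rw [← Ideal.Quotient.mkₐ_eq_mk A, aeval_algHom_apply, Ideal.Quotient.mkₐ_eq_mk,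
          coe_aeval_eq_eval, Ideal.Quotient.eq_zero_iff_mem]
        exact h₁
      · rw [← Ideal.Quotient.mkₐ_eq_mk A, aeval_algHom_apply, Ideal.Quotient.mkₐ_eq_mk,
          coe_aeval_eq_eval]
        exact h₂
    obtain ⟨τ, hτ⟩ := h P.Ring (P.lift _ hmap)
    refine ⟨τ P.X, ?_, ?_⟩
    · have := (P.hasMap_X.map τ).1
      rwa [coe_aeval_eq_eval] at this
    · rw [← Ideal.Quotient.eq]
      have := AlgHom.congr_fun hτ P.X
      rwa [P.lift_X] at this

theorem LiftsEtale.liftsFactor (h : LiftsEtale A I) : LiftsFactor A I := by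
  intro f hf g₀ h₀ hg hh hc heq
  rcases subsingleton_or_nontrivial (A ⧸ I) with hs | hs
  · have hI : I = ⊤ := Ideal.Quotient.subsingleton_iff.mp hs
    have hjac := h.le_jacobson
    rw [hI, top_le_iff, Ideal.jacobson_eq_top_iff] at hjac
    haveI : Subsingleton A := subsingleton_iff.mpr fun a b => by
      have ha : a - b ∈ (⊥ : Ideal A) := hjac ▸ Submodule.mem_top
      exact sub_eq_zero.mp (Ideal.mem_bot.mp ha)
    exact ⟨1, 1, monic_one, monic_one, Subsingleton.elim _ _, isCoprime_one_left,
      Subsingleton.elim _ _, Subsingleton.elim _ _⟩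
  have hn : f.natDegree = g₀.natDegree + h₀.natDegree := by
    rw [← hg.natDegree_mul hh, ← heq, hf.natDegree_map]
  let p : MonicDegreeEq A f.natDegree := .mk f hf rfl
  let σ : UniversalCoprimeFactorizationRing g₀.natDegree h₀.natDegree hn p →ₐ[A] A ⧸ I :=
    (UniversalCoprimeFactorizationRing.homEquiv _ _ _ hn p).symm
      ⟨(.mk g₀ hg rfl, .mk h₀ hh rfl), heq.symm, hc⟩
  obtain ⟨τ, hτ⟩ := h _ σ
  set q := UniversalCoprimeFactorizationRing.homEquiv A g₀.natDegree h₀.natDegree hn p τ with hq
  refine ⟨q.1.1.1, q.1.2.1, q.1.1.monic, q.1.2.monic, ?_, q.2.2, ?_, ?_⟩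
  · simpa [p] using q.2.1.symm
  · have := UniversalCoprimeFactorizationRing.homEquiv_comp_fst (R := A) (S := A)
      g₀.natDegree h₀.natDegree hn p τ (Ideal.Quotient.mkₐ A I)
    rw [hτ] at this
    simp only [σ, Equiv.apply_symm_apply] at this
    exact (congrArg Subtype.val this).symm
  · have := UniversalCoprimeFactorizationRing.homEquiv_comp_snd (R := A) (S := A)
      g₀.natDegree h₀.natDegree hn p τ (Ideal.Quotient.mkₐ A I)
    rw [hτ] at this
    simp only [σ, Equiv.apply_symm_apply] at this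
    exact (congrArg Subtype.val this).symm

theorem LiftsFactor.liftsIdem (h : LiftsFactor A I) (hI : I ≤ Ideal.jacobson ⊥) :
    LiftsIdem A I := by
  intro m p hpm hp
  rcases Nat.eq_zero_or_pos m with rfl | hm
  · rw [pow_zero, Polynomial.map_one] at hp
    refine ⟨X, ?_, by simp, by simp⟩
    rcases subsingleton_or_nontrivial (A ⧸ I) with hs | hs
    · have hA : ∀ a : A, a = 0 := fun a => by
        have hI' : I = ⊤ := Ideal.Quotient.subsingleton_iff.mp hs
        have hu : IsUnit (0 : A) := isUnit_of_sub_one_mem hI (hI' ▸ Submodule.mem_top)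
        have : (1 : A) = 0 := (isUnit_zero_iff.mp hu).symm
        rw [← mul_one a, this, mul_zero]
      exact ⟨0, Polynomial.ext fun i => (hA _).trans (hA _).symm⟩
    · have : p = 1 := hpm.natDegree_eq_zero.mp (by rw [← hpm.natDegree_map (Ideal.Quotient.mk I), hp, natDegree_one])
      rw [this]; exact one_dvd _
  · have hc : IsCoprime (X : (A ⧸ I)[X]) (X - 1) := ⟨1, -1, by ring⟩
    obtain ⟨g, k, hgm, hkm, hpeq, ⟨a, b, hab⟩, hg, hk⟩ := h p hpm ((X : (A ⧸ I)[X]) ^ m)
      ((X - 1) ^ m) (monic_X_pow m) ((monic_X_sub_C (1 : A ⧸ I)).pow m |> fun h => by simpa using h)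
      hc.pow (by rw [hp, ← mul_pow]; simp [Polynomial.map_pow, mul_sub, sq])
    refine ⟨a * g, ⟨-a * b, ?_⟩, ?_, ?_⟩
    · rw [hpeq]
      linear_combination (a * g) * hab
    · rw [eval_mul]
      refine I.mul_mem_left _ ?_
      have h1 := eval_sub_eval_mem (I := I) (B := A) (p := g) (q := (X : A[X]) ^ m)
        (by rw [hg, Polynomial.map_pow, map_X]) 0
      simpa [zero_pow hm.ne', Ideal.map_id] using h1
    · have h1 := eval_sub_eval_mem (I := I) (B := A) (p := k) (q := ((X : A[X]) - 1) ^ m)
        (by simp [hk]) 1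
      simp only [map_pow, map_sub, aeval_X, map_one, sub_self, zero_pow hm.ne', sub_zero,
        coe_aeval_eq_eval, Algebra.algebraMap_self, Ideal.map_id] at h1
      have h2 := congrArg (eval 1) hab
      simp only [eval_add, eval_mul, eval_one] at h2
      rw [eval_mul, show a.eval 1 * g.eval 1 - 1 = -(b.eval 1) * k.eval 1 by linear_combination h2]
      exact I.mul_mem_left _ h1

/-- The criterion through Gabber's property. -/
theorem henselianRing_of_gabber (hI : I ≤ Ideal.jacobson ⊥) (hG : GabberHensel A I) :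
    HenselianRing A I :=
  henselianRing_of_liftsEtale ((hG.liftsRankOne hI).liftsEtale hI)

/-- The criterion through idempotents of `A[T]/(p)`. -/
theorem henselianRing_of_liftsIdem (hI : I ≤ Ideal.jacobson ⊥) (h : LiftsIdem A I) :
    HenselianRing A I :=
  henselianRing_of_liftsEtale (h.liftsRankOne.liftsEtale hI)

/-- Henselian pairs lift points of étale algebras. -/
theorem liftsEtale (I : Ideal A) [H : HenselianRing A I] : LiftsEtale A I :=
  (GabberHensel.of_henselian.liftsRankOne H.jac).liftsEtale H.jac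

/-- Henselian pairs lift coprime factorizations. -/
theorem liftsFactor (I : Ideal A) [HenselianRing A I] : LiftsFactor A I :=
  (liftsEtale I).liftsFactor

/-- Henselian pairs lift idempotents. -/
theorem liftsIdem (I : Ideal A) [H : HenselianRing A I] : LiftsIdem A I :=
  (liftsFactor I).liftsIdem H.jac

/-- Idempotents lift along an integral algebra over a henselian pair. -/
theorem exists_idem (I : Ideal A) [HenselianRing A I] {B : Type v} [CommRing B] [Algebra A B]
    [Algebra.IsIntegral A B] {x : B} (hx : x ^ 2 - x ∈ I.map (algebraMap A B)) :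
    ∃ e : B, IsIdempotentElem e ∧ e - x ∈ I.map (algebraMap A B) :=
  (liftsIdem I).exists_idem hx

/-- The idempotent bijection for integral algebras. -/
theorem bijOn_idem (I : Ideal A) [H : HenselianRing A I] (B : Type v) [CommRing B] [Algebra A B]
    [Algebra.IsIntegral A B] :
    Set.BijOn (Ideal.Quotient.mk (I.map (algebraMap A B)))
      {e : B | IsIdempotentElem e} {e | IsIdempotentElem e} :=
  (liftsIdem I).bijOn H.jac B

/-- Surjectivity on idempotents of the algebras `A[T]/(p)`, `p ≡ (T²-T)^m`, gives `LiftsIdem`. -/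
theorem liftsIdem_of_surjOn (hI : I ≤ Ideal.jacobson ⊥)
    (h : ∀ (m : ℕ) (p : A[X]), p.Monic →
      p.map (Ideal.Quotient.mk I) = (((X : A[X]) ^ 2 - X) ^ m).map (Ideal.Quotient.mk I) →
      Set.SurjOn (Ideal.Quotient.mk (I.map (algebraMap A (AdjoinRoot p))))
        {e : AdjoinRoot p | IsIdempotentElem e} {e | IsIdempotentElem e}) :
    LiftsIdem A I := by
  intro m p hpm hp
  rcases Nat.eq_zero_or_pos m with rfl | hm
  · rcases subsingleton_or_nontrivial (A ⧸ I) with hs | hs
    · have hI' : I = ⊤ := Ideal.Quotient.subsingleton_iff.mp hs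
      have hu : IsUnit (0 : A) := isUnit_of_sub_one_mem hI (hI' ▸ Submodule.mem_top)
      haveI : Subsingleton A := isUnit_zero_iff.mp hu |> fun h01 => subsingleton_of_zero_eq_one h01
      exact ⟨X, ⟨0, Subsingleton.elim _ _⟩, by simp, by simp⟩
    · rw [pow_zero, Polynomial.map_one] at hp
      have : p = 1 := hpm.natDegree_eq_zero.mp (by rw [← hpm.natDegree_map (Ideal.Quotient.mk I), hp, natDegree_one])
      exact ⟨X, this ▸ one_dvd _, by simp, by simp⟩
  obtain ⟨a, b, hab⟩ : IsCoprime ((X : A[X]) ^ m) ((X - 1) ^ m) :=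
    IsCoprime.pow (⟨1, -1, by ring⟩ : IsCoprime (X : A[X]) (X - 1))
  set J := I.map (algebraMap A (AdjoinRoot p))
  set u₀ := a * X ^ m with hu₀
  have hp0 : AdjoinRoot.mk p (((X : A[X]) ^ 2 - X) ^ m) ∈ J := by
    have := eval_sub_eval_mem (I := I) (B := AdjoinRoot p) hp (AdjoinRoot.root p)
    rw [AdjoinRoot.aeval_eq, AdjoinRoot.aeval_eq, AdjoinRoot.mk_self, zero_sub, Ideal.neg_mem_iff]
      at this
    exact this
  have hidem : IsIdempotentElem (Ideal.Quotient.mk J (AdjoinRoot.mk p u₀)) := by
    rw [IsIdempotentElem, ← map_mul, Ideal.Quotient.eq, ← map_mul, ← map_sub]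
    have : u₀ * u₀ - u₀ = (-a * b) * (((X : A[X]) ^ 2 - X) ^ m) := by
      rw [hu₀, show ((X : A[X]) ^ 2 - X) = X * (X - 1) by ring, mul_pow]
      linear_combination (a * X ^ m) * hab
    rw [this, map_mul]
    exact J.mul_mem_left _ hp0
  obtain ⟨e, he, heu⟩ := h m p hpm hp hidem
  obtain ⟨u, rfl⟩ := AdjoinRoot.mk_surjective e
  have hue : AdjoinRoot.mk p u - AdjoinRoot.mk p u₀ ∈ J := Ideal.Quotient.eq.mp heu
  have he' : IsIdempotentElem (AdjoinRoot.mk p u) := he
  have hev : ∀ t : A, p.eval t ∈ I → u.eval t - u₀.eval t ∈ I := by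
    intro t ht
    let φ : AdjoinRoot p →ₐ[A] A ⧸ I := AdjoinRoot.liftAlgHom p _ (Ideal.Quotient.mk I t) (by
      show aeval (Ideal.Quotient.mk I t) p = 0
      rw [← Ideal.Quotient.mkₐ_eq_mk A, aeval_algHom_apply, Ideal.Quotient.mkₐ_eq_mk,
        coe_aeval_eq_eval, Ideal.Quotient.eq_zero_iff_mem]
      exact ht)
    have hφ : ∀ v : A[X], φ (AdjoinRoot.mk p v) = Ideal.Quotient.mk I (v.eval t) := by
      intro v
      rw [← AdjoinRoot.aeval_eq, ← aeval_algHom_apply, AdjoinRoot.liftAlgHom_root,
        ← Ideal.Quotient.mkₐ_eq_mk A, aeval_algHom_apply]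
      rfl
    have hJ : J ≤ RingHom.ker φ.toRingHom := Ideal.map_le_iff_le_comap.mpr fun z hz => by
      rw [Ideal.mem_comap, RingHom.mem_ker]
      exact (φ.commutes z).trans (Ideal.Quotient.eq_zero_iff_mem.mpr hz)
    have h3 : φ (AdjoinRoot.mk p u - AdjoinRoot.mk p u₀) = 0 := hJ hue
    rw [map_sub, hφ, hφ, ← map_sub, Ideal.Quotient.eq_zero_iff_mem] at h3
    exact h3
  have hval : ∀ t : A, t ^ 2 - t = 0 → p.eval t ∈ I := by
    intro t ht
    have := eval_sub_eval_mem (I := I) (B := A) hp t
    simpa [ht, zero_pow hm.ne', Ideal.map_id] using this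
  refine ⟨u, ?_, ?_, ?_⟩
  · rw [← AdjoinRoot.mk_eq_zero, map_sub, map_pow, sq, he', sub_self]
  · simpa [hu₀, zero_pow hm.ne'] using hev 0 (hval 0 (by ring))
  · have h0 := congrArg (eval 1) hab
    simp only [eval_add, eval_mul, eval_pow, eval_X, eval_sub, eval_one, sub_self,
      zero_pow hm.ne', mul_zero, add_zero, one_pow, mul_one] at h0
    have h1 := hev 1 (hval 1 (by ring))
    rw [h0] at h1
    exact h1

/-- The criterion through idempotents of finite algebras. -/
theorem henselianRing_of_idem_finite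
    (h : ∀ (B : Type u) [CommRing B] [Algebra A B], Module.Finite A B →
      Set.BijOn (Ideal.Quotient.mk (Ideal.map (algebraMap A B) I))
        {e : B | IsIdempotentElem e} {e | IsIdempotentElem e}) :
    HenselianRing A I := by
  have hI : I ≤ Ideal.jacobson ⊥ := by
    refine le_sInf fun M hM => ?_
    haveI : M.IsMaximal := hM.2
    by_contra hne
    have htop : I.map (algebraMap A (A ⧸ M)) = ⊤ := by
      rw [Ideal.Quotient.algebraMap_eq]
      haveI : IsSimpleOrder (Ideal (A ⧸ M)) := by
        letI := Ideal.Quotient.field M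
        infer_instance
      refine (IsSimpleOrder.eq_bot_or_eq_top _).resolve_left fun h0 => hne ?_
      rw [← Ideal.mk_ker (I := M)]
      exact Ideal.map_eq_bot_iff_le_ker _ |>.mp h0
    have h01 := (h (A ⧸ M) inferInstance).injOn IsIdempotentElem.zero IsIdempotentElem.one
      (Ideal.Quotient.eq.mpr (htop ▸ Submodule.mem_top))
    exact zero_ne_one h01
  exact henselianRing_of_liftsIdem hI (liftsIdem_of_surjOn hI fun m p hpm _ =>
    haveI := hpm.finite_adjoinRoot
    (h (AdjoinRoot p) inferInstance).surjOn)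

end Groth.Agent.HenselLib
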