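import Groth.Agent.EtStalk.Basic
import Mathlib.RingTheory.Smooth.IntegralClosure
import Mathlib.RingTheory.Smooth.NoetherianDescent
import Mathlib.RingTheory.Unramified.Field
import Mathlib.RingTheory.Artinian.Module

/-!
# Etale algebras over reduced and over normal rings
-/

universe u

open scoped TensorProduct

namespace Groth.Agent.HenselLib

/-- Etale algebras over reduced rings are reduced. -/
theorem isReduced_of_etale (R C : Type u) [CommRing R] [CommRing C] [Algebra R C]
    [Algebra.Etale R C] [IsReduced R] : IsReduced C := by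
  obtain ⟨A₀, B₀, _, _, hA₀, _, ⟨e⟩⟩ := Algebra.Etale.exists_subalgebra_fg ℤ R C
  have : Algebra.FiniteType ℤ A₀ := A₀.fg_iff_finiteType.mp hA₀
  have : IsNoetherianRing A₀ := Algebra.FiniteType.isNoetherianRing ℤ A₀
  have h : ∀ B : Subalgebra A₀ R, B.FG → IsReduced (B₀ ⊗[A₀] B) := by
    intro B hB
    have : Algebra.FiniteType A₀ B := B.fg_iff_finiteType.mp hB
    have : IsNoetherianRing B := Algebra.FiniteType.isNoetherianRing A₀ B
    have : IsReduced B := isReduced_of_injective B.val Subtype.val_injective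
    have : IsNoetherianRing (B ⊗[A₀] B₀) := Algebra.FiniteType.isNoetherianRing B (B ⊗[A₀] B₀)
    have : IsReduced (B ⊗[A₀] B₀) := Groth.Agent.EtStalk.isReduced B (B ⊗[A₀] B₀)
    exact isReduced_of_injective (Algebra.TensorProduct.comm A₀ B₀ B) (AlgEquiv.injective _)
  have := IsReduced.tensorProduct_of_flat_of_forall_fg h
  exact isReduced_of_injective
    ((Algebra.TensorProduct.comm A₀ R B₀).toRingHom.comp e.toAlgHom.toRingHom)
    ((Algebra.TensorProduct.comm A₀ R B₀).injective.comp e.injective)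

/-- In a reduced Artinian ring every element generates an idempotent ideal. -/
theorem exists_mul_self_mul_eq {A : Type*} [CommRing A] [IsArtinianRing A] [IsReduced A] (x : A) :
    ∃ y : A, x * x * y = x := by
  obtain ⟨n, y, hy⟩ := IsArtinian.exists_pow_succ_smul_dvd (R := A) (M := A) x 1
  simp only [smul_eq_mul, mul_one] at hy
  refine ⟨y, ?_⟩
  have h0 : x ^ n * (1 - x * y) = 0 := by
    rw [mul_sub, mul_one, ← mul_assoc, ← pow_succ, hy, sub_self]
  have h1 : IsNilpotent (x * (1 - x * y)) := ⟨n + 1, by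
    rw [mul_pow, pow_succ x n, pow_succ' (1 - x * y) n,
      show x ^ n * x * ((1 - x * y) * (1 - x * y) ^ n) =
        x ^ n * (1 - x * y) * (x * (1 - x * y) ^ n) by ring, h0, zero_mul]⟩
  linear_combination -h1.eq_zero

variable (R : Type u) [CommRing R] [IsDomain R] (C : Type u) [CommRing C] [Algebra R C]

omit [IsDomain R] in
theorem etale_tmul_eq_zero [Module.Flat R C] {c : C}
    (h : c ⊗ₜ[R] (1 : FractionRing R) = 0) : c = 0 := by
  refine Algebra.TensorProduct.includeLeft_injective (S := R)
    (IsFractionRing.injective R (FractionRing R)) ?_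
  simpa using h

omit [IsDomain R] in
/-- Etale algebras over normal domains are integrally closed in the generic fibre. -/
theorem exists_tmul_one_eq_of_isIntegral [IsIntegrallyClosed R] [Algebra.Etale R C]
    {z : C ⊗[R] FractionRing R} (hz : IsIntegral C z) : ∃ c : C, c ⊗ₜ[R] (1 : FractionRing R) = z := by
  obtain ⟨w, hw⟩ := (TensorProduct.toIntegralClosure_bijective_of_smooth
    (R := R) (S := C) (B := FractionRing R)).2 ⟨z, hz⟩
  replace hw : ((TensorProduct.toIntegralClosure R C (FractionRing R)) w : C ⊗[R] FractionRing R) = z :=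
    congrArg Subtype.val hw
  clear hz
  induction w generalizing z with
  | zero => exact ⟨0, by rw [TensorProduct.zero_tmul, ← hw, map_zero]; rfl⟩
  | tmul c k =>
    obtain ⟨r, hr⟩ := IsIntegrallyClosed.isIntegral_iff.mp k.2
    refine ⟨r • c, ?_⟩
    rw [← hw]
    show (r • c) ⊗ₜ[R] (1 : FractionRing R) = c ⊗ₜ[R] k.1
    rw [TensorProduct.smul_tmul, ← hr, Algebra.algebraMap_eq_smul_one]
  | add a b ha hb =>
    obtain ⟨ca, hca⟩ := ha rfl
    obtain ⟨cb, hcb⟩ := hb rfl
    exact ⟨ca + cb, by rw [TensorProduct.add_tmul, hca, hcb, ← hw, map_add]; rfl⟩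

/-- An element of an etale algebra over a normal domain splits off an idempotent. -/
theorem exists_idempotent_mul [IsIntegrallyClosed R] [Algebra.Etale R C] (x : C) :
    ∃ (e z : C) (r : R), r ≠ 0 ∧ IsIdempotentElem e ∧ e * x = x ∧
      x * z = algebraMap R C r * e := by
  let K := FractionRing R
  have : Module.Finite K (K ⊗[R] C) := Algebra.FormallyUnramified.finite_of_free K (K ⊗[R] C)
  have : IsArtinianRing (K ⊗[R] C) := IsArtinianRing.of_finite K (K ⊗[R] C)
  have : IsReduced (K ⊗[R] C) := Algebra.FormallyUnramified.isReduced_of_field K (K ⊗[R] C)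
  obtain ⟨y, hy⟩ := exists_mul_self_mul_eq ((1 : K) ⊗ₜ[R] x)
  replace hy := congrArg (Algebra.TensorProduct.comm R K C) hy
  simp only [map_mul, Algebra.TensorProduct.comm_tmul] at hy
  set y' := Algebra.TensorProduct.comm R K C y
  set X : C ⊗[R] K := x ⊗ₜ 1
  have he : IsIdempotentElem (X * y') := by
    show X * y' * (X * y') = _
    linear_combination y' * hy
  obtain ⟨e, heq⟩ := exists_tmul_one_eq_of_isIntegral R C (z := X * y')
    ⟨.X ^ 2 - .X, Polynomial.monic_X_pow_sub (Polynomial.degree_X_le.trans_lt (by norm_num)), by simp [pow_two, he.eq]⟩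
  have inj : ∀ a b : C, a ⊗ₜ[R] (1 : K) = b ⊗ₜ[R] 1 → a = b := fun a b h => sub_eq_zero.mp
    (etale_tmul_eq_zero R C (by rw [TensorProduct.sub_tmul, h, sub_self]))
  have hee : IsIdempotentElem e := inj _ _ (by
    rw [← one_mul (1 : K), ← Algebra.TensorProduct.tmul_mul_tmul, one_mul, heq, he.eq])
  have hex : e * x = x := inj _ _ (by
    rw [← one_mul (1 : K), ← Algebra.TensorProduct.tmul_mul_tmul, one_mul, heq]
    show X * y' * X = X
    linear_combination hy)
  obtain ⟨r, hr, z, hz⟩ : ∃ r : R, r ≠ 0 ∧ ∃ z : C, (algebraMap R C r) ⊗ₜ[R] (1 : K) * y' = z ⊗ₜ 1 := by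
    clear_value y'
    clear hy he heq
    induction y' using TensorProduct.induction_on with
    | zero => exact ⟨1, one_ne_zero, 0, by simp⟩
    | tmul c k =>
      obtain ⟨⟨a, b⟩, hab⟩ := IsLocalization.surj (nonZeroDivisors R) k
      refine ⟨b, nonZeroDivisors.ne_zero b.2, a • c, ?_⟩
      rw [Algebra.TensorProduct.tmul_mul_tmul, one_mul, ← Algebra.smul_def, TensorProduct.smul_tmul,
        TensorProduct.smul_tmul, Algebra.smul_def, mul_comm, hab, Algebra.algebraMap_eq_smul_one]
    | add a b ha hb =>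
      obtain ⟨r, hr, z, hz⟩ := ha
      obtain ⟨r', hr', z', hz'⟩ := hb
      refine ⟨r * r', mul_ne_zero hr hr', algebraMap R C r' * z + algebraMap R C r * z', ?_⟩
      rw [map_mul, TensorProduct.add_tmul, ← one_mul (1 : K),
        ← Algebra.TensorProduct.tmul_mul_tmul, ← Algebra.TensorProduct.tmul_mul_tmul,
        ← Algebra.TensorProduct.tmul_mul_tmul, ← hz, ← hz']
      ring
  refine ⟨e, z, r, hr, hee, hex, inj _ _ ?_⟩
  rw [← one_mul (1 : K), ← Algebra.TensorProduct.tmul_mul_tmul, ← Algebra.TensorProduct.tmul_mul_tmul,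
    ← hz, heq]
  ring

end Groth.Agent.HenselLib
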