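import Groth.Agent.HenselLib.Ops
import Mathlib.RingTheory.Unramified.Finite
import Mathlib.RingTheory.TensorProduct.Maps
import Mathlib.RingTheory.Etale.Basic

/-!
# Unique lifting of points of étale algebras
-/

universe u v w

open scoped TensorProduct

namespace Groth.Agent.HenselLib

/-- Two maps out of an unramified algebra which agree modulo the Jacobson radical are equal. -/
theorem algHom_ext_of_jacobson {A : Type u} {E : Type v} {C : Type w} [CommRing A] [CommRing E]
    [Algebra A E] [CommRing C] [Algebra A C] [Algebra.FormallyUnramified A E]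
    [Algebra.EssFiniteType A E] {J : Ideal C} (hJ : J ≤ Ideal.jacobson ⊥) {φ ψ : E →ₐ[A] C}
    (h : ∀ x, φ x - ψ x ∈ J) : φ = ψ := by
  obtain ⟨t, ht, ht1⟩ := (Algebra.FormallyUnramified.iff_exists_tensorProduct (R := A) (S := E)).mp
    inferInstance
  set μ := Algebra.TensorProduct.productMap φ ψ
  have key : (Ideal.Quotient.mkₐ A J).comp μ =
      ((Ideal.Quotient.mkₐ A J).comp φ).comp (Algebra.TensorProduct.lmul' A) := by
    refine Algebra.TensorProduct.ext' fun a b => ?_
    simp only [AlgHom.comp_apply, μ, Algebra.TensorProduct.productMap_apply_tmul,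
      Algebra.TensorProduct.lmul'_apply_tmul, map_mul, Ideal.Quotient.mkₐ_eq_mk,
      Ideal.Quotient.eq.mpr (h b)]
  have hu : IsUnit (μ t) := isUnit_of_sub_one_mem hJ (Ideal.Quotient.eq.mp (by
    have := AlgHom.congr_fun key t
    simpa [ht1] using this))
  ext s
  have h0 : (ψ s - φ s) * μ t = 0 := by
    rw [← map_zero μ, ← ht s, map_mul, map_sub]
    simp [μ]
  exact (sub_eq_zero.mp (hu.mul_left_eq_zero.mp h0)).symm

/-- Points of étale algebras with values in a henselian pair lift uniquely. -/
theorem existsUnique_lift {R : Type v} {S E : Type u} [CommRing R] [CommRing S] [Algebra R S]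
    [CommRing E] [Algebra R E] [Algebra.Etale R E] (J : Ideal S) [H : HenselianRing S J]
    (σ : E →ₐ[R] S ⧸ J) : ∃! τ : E →ₐ[R] S, (Ideal.Quotient.mkₐ R J).comp τ = σ := by
  obtain ⟨τ, hτ⟩ := liftsEtale J (S ⊗[R] E) (Algebra.TensorProduct.lift (Algebra.ofId S (S ⧸ J)) σ
    (fun _ _ => Commute.all _ _))
  refine ⟨(τ.restrictScalars R).comp Algebra.TensorProduct.includeRight, ?_, fun τ' hτ' => ?_⟩
  · ext x
    have := AlgHom.congr_fun hτ (1 ⊗ₜ x)
    simpa using this
  · refine algHom_ext_of_jacobson H.jac fun x => ?_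
    rw [← Ideal.Quotient.eq]
    have h1 := AlgHom.congr_fun hτ' x
    have h2 := AlgHom.congr_fun hτ (1 ⊗ₜ x)
    simp only [AlgHom.comp_apply, Ideal.Quotient.mkₐ_eq_mk, Algebra.TensorProduct.lift_tmul,
      map_one, one_mul] at h1 h2
    exact h1.trans h2.symm

end Groth.Agent.HenselLib
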