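import Groth.Agent.S17979
import Groth.Agent.HenselLib.Local
import Mathlib.RingTheory.Etale.StandardEtale
import Mathlib.RingTheory.Etale.Field
import Mathlib.RingTheory.Etale.Pi
import Mathlib.FieldTheory.PrimitiveElement
import Mathlib.Algebra.Polynomial.Lifts
import Mathlib.LinearAlgebra.TensorProduct.RightExactness
import Mathlib.RingTheory.TensorProduct.Maps

/-!
# Lifting finite étale algebras over the residue field of a local ring
-/

universe u v

open Polynomial IsLocalRing
open scoped TensorProduct

namespace Groth.Agent.HenselLib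

variable {R : Type u} [CommRing R] [IsLocalRing R]

/-- `A[X]/(F)` is étale when `F` has separable reduction. -/
theorem etale_adjoinRoot {F : R[X]} (hF : F.Monic) (hsep : (F.map (residue R)).Separable) :
    Algebra.Etale R (AdjoinRoot F) := by
  have hc : IsCoprime F (derivative F) :=
    Groth.Agent.S17979.result R F (derivative F) hF (by rw [← derivative_map]; exact hsep)
  obtain ⟨a, b, hab⟩ := hc
  let P : StandardEtalePair R :=
    { f := F, monic_f := hF, g := 1, cond := ⟨b, a, 1, by rw [pow_one, ← hab]; ring⟩ }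
  haveI hloc : IsLocalization.Away (1 : AdjoinRoot F) (Localization.Away (AdjoinRoot.mk P.f P.g)) := by
    have h1 : AdjoinRoot.mk P.f P.g = (1 : AdjoinRoot F) := map_one (AdjoinRoot.mk F)
    rw [← h1]
    infer_instance
  exact Algebra.Etale.of_equiv (P.equivAwayAdjoinRoot.trans
    ((IsLocalization.atOne (AdjoinRoot F) (Localization.Away (AdjoinRoot.mk P.f P.g))).restrictScalars
      R).symm)

/-- A finite separable extension of the residue field lifts. -/
theorem exists_lift_field (l : Type u) [Field l] [Algebra R l] [Algebra (ResidueField R) l]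
    [IsScalarTower R (ResidueField R) l] [FiniteDimensional (ResidueField R) l]
    [Algebra.IsSeparable (ResidueField R) l] :
    ∃ (E : Type u) (_ : CommRing E) (_ : Algebra R E) (π : E →ₐ[R] l),
      Module.Finite R E ∧ Algebra.Etale R E ∧ Function.Surjective π ∧
        ∀ x, π x = 0 → x ∈ (maximalIdeal R).map (algebraMap R E) := by
  let pb := Field.powerBasisOfFiniteOfSeparable (ResidueField R) l
  have hint : IsIntegral (ResidueField R) pb.gen := .of_finite _ _
  obtain ⟨F, hFmap, -, hF⟩ := lifts_and_natDegree_eq_and_monic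
    ((mem_lifts (minpoly (ResidueField R) pb.gen)).mpr
      (Polynomial.map_surjective (residue R) residue_surjective _)) (minpoly.monic hint)
  have haev : ∀ p : R[X], aeval pb.gen p = aeval pb.gen (p.map (residue R)) := fun p =>
    (aeval_map_algebraMap (ResidueField R) pb.gen p).symm
  let π : AdjoinRoot F →ₐ[R] l := AdjoinRoot.liftAlgHom F _ pb.gen (by
    show aeval pb.gen F = 0
    rw [haev, hFmap, minpoly.aeval])
  have hπ : ∀ p, π (AdjoinRoot.mk F p) = aeval pb.gen p := fun p => by
    rw [← AdjoinRoot.aeval_eq, ← aeval_algHom_apply, AdjoinRoot.liftAlgHom_root]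
  refine ⟨AdjoinRoot F, inferInstance, inferInstance, π, hF.finite_adjoinRoot,
    etale_adjoinRoot hF (by rw [hFmap]; exact Algebra.IsSeparable.isSeparable _ _), fun y => ?_,
    fun x hx => ?_⟩
  · obtain ⟨q, rfl⟩ := pb.exists_eq_aeval' y
    obtain ⟨p, rfl⟩ := Polynomial.map_surjective (residue R) residue_surjective q
    exact ⟨AdjoinRoot.mk F p, by rw [hπ, haev]⟩
  · obtain ⟨p, rfl⟩ := AdjoinRoot.mk_surjective x
    rw [hπ, haev] at hx
    obtain ⟨c, hc⟩ := minpoly.dvd _ _ hx
    obtain ⟨c', rfl⟩ := Polynomial.map_surjective (residue R) residue_surjective c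
    rw [← hFmap, ← Polynomial.map_mul] at hc
    have := eval_sub_eval_mem (I := maximalIdeal R) (B := AdjoinRoot F) hc (AdjoinRoot.root F)
    rw [map_mul, AdjoinRoot.aeval_eq, AdjoinRoot.aeval_eq, AdjoinRoot.mk_self, zero_mul, sub_zero]
      at this
    exact this

/-- Recognising the reduction of an algebra. -/
theorem tensor_equiv_of_surjective {R : Type*} [CommRing R] {I : Ideal R} {S A : Type*}
    [CommRing S] [Algebra R S] [CommRing A] [Algebra R A] [Algebra (R ⧸ I) A]
    [IsScalarTower R (R ⧸ I) A] (π : S →ₐ[R] A) (hs : Function.Surjective π)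
    (hk : ∀ x, π x = 0 → x ∈ I.map (algebraMap R S)) :
    Nonempty ((R ⧸ I) ⊗[R] S ≃ₐ[R ⧸ I] A) := by
  refine ⟨AlgEquiv.ofBijective (Algebra.TensorProduct.lift (Algebra.ofId (R ⧸ I) A) π
    fun _ _ => Commute.all _ _) ⟨(injective_iff_map_eq_zero _).mpr fun z hz => ?_, fun a => ?_⟩⟩
  · obtain ⟨x, rfl⟩ := TensorProduct.mk_surjective R S (R ⧸ I) Ideal.Quotient.mk_surjective z
    have hx : x ∈ (I • ⊤ : Submodule R S) := by
      rw [Ideal.smul_top_eq_map]
      exact hk x (by simpa using hz)
    rw [← LinearMap.ker_tensorProductMk] at hx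
    simpa using hx
  · obtain ⟨x, rfl⟩ := hs a
    exact ⟨1 ⊗ₜ x, by simp⟩

/-- Finite étale algebras over the residue field lift. -/
theorem exists_etale_lift (A : Type u) [CommRing A] [Algebra (ResidueField R) A]
    [Algebra.Etale (ResidueField R) A] :
    ∃ (S : Type u) (_ : CommRing S) (_ : Algebra R S), Module.Finite R S ∧ Algebra.Etale R S ∧
      Nonempty (TensorProduct R (ResidueField R) S ≃ₐ[ResidueField R] A) := by
  classical
  obtain ⟨ι, _, L, _, _, e, hL⟩ :=
    (Algebra.Etale.iff_exists_algEquiv_prod (K := ResidueField R) (A := A)).mp inferInstance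
  letI : Algebra R A := ((algebraMap (ResidueField R) A).comp (residue R)).toAlgebra
  haveI : IsScalarTower R (ResidueField R) A := .of_algebraMap_eq' rfl
  letI : Algebra (R ⧸ maximalIdeal R) A := (inferInstance : Algebra (ResidueField R) A)
  haveI : IsScalarTower R (R ⧸ maximalIdeal R) A := (inferInstance : IsScalarTower R (ResidueField R) A)
  letI : ∀ i, Algebra R (L i) := fun i => ((algebraMap (ResidueField R) (L i)).comp (residue R)).toAlgebra
  haveI : ∀ i, IsScalarTower R (ResidueField R) (L i) := fun i => .of_algebraMap_eq' rfl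
  haveI := fun i => (hL i).1
  haveI := fun i => (hL i).2
  choose E _ _ π hfin het hsurj hker using fun i => exists_lift_field (R := R) (L i)
  haveI := hfin
  haveI := het
  let ρ₀ : (∀ i, E i) →ₐ[R] (∀ i, L i) := Pi.algHom R _ fun i => (π i).comp (Pi.evalAlgHom R E i)
  let ρ : (∀ i, E i) →ₐ[R] A := (e.restrictScalars R).symm.toAlgHom.comp ρ₀
  refine ⟨∀ i, E i, inferInstance, inferInstance, inferInstance, inferInstance,
    tensor_equiv_of_surjective (I := maximalIdeal R) (A := A) ρ (fun a => ?_) fun x hx => ?_⟩
  · choose y hy using fun i => hsurj i (e a i)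
    refine ⟨y, e.injective ?_⟩
    show e (e.symm (ρ₀ y)) = e a
    rw [e.apply_symm_apply]
    exact funext hy
  · have hx0 : ρ₀ x = 0 := by
      have := congrArg e hx
      rw [map_zero] at this
      rwa [show e (ρ x) = ρ₀ x from e.apply_symm_apply _] at this
    cases nonempty_fintype ι
    rw [show x = ∑ i, LinearMap.single R E i (x i) from (Finset.univ_sum_single x).symm]
    refine Ideal.sum_mem _ fun i _ => ?_
    have hi : x i ∈ (maximalIdeal R • ⊤ : Submodule R (E i)) := by
      rw [Ideal.smul_top_eq_map]
      exact hker i (x i) (congrFun hx0 i)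
    have := Submodule.mem_map_of_mem (f := LinearMap.single R E i) hi
    rw [Submodule.map_smul''] at this
    have h2 : LinearMap.single R E i (x i) ∈ (maximalIdeal R • ⊤ : Submodule R (∀ i, E i)) :=
      Submodule.smul_mono le_rfl le_top this
    rwa [Ideal.smul_top_eq_map] at h2

end Groth.Agent.HenselLib
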