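import Groth.Agent.HenselLib.TFAE
import Groth.Agent.HenselLib.LiftEtaleField
import Mathlib.RingTheory.Smooth.StandardSmoothOfFree
import Mathlib.RingTheory.Polynomial.Basic
import Mathlib.RingTheory.FinitePresentation

/-!
# Lifting finite étale algebras along henselian pairs
-/

universe u

open MvPolynomial
open scoped TensorProduct

namespace Groth.Agent.HenselLib

variable {A : Type u} [CommRing A] (I : Ideal A)

/-- Étale algebras lift along any surjection. -/
theorem exists_etale_lift_quotient (C : Type u) [CommRing C] [Algebra A C] [Algebra (A ⧸ I) C]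
    [IsScalarTower A (A ⧸ I) C] [Algebra.Etale (A ⧸ I) C] :
    ∃ (B : Type u) (_ : CommRing B) (_ : Algebra A B) (π : B →ₐ[A] C),
      Algebra.Etale A B ∧ Function.Surjective π ∧
        ∀ x, π x = 0 → x ∈ I.map (algebraMap A B) := by
  classical
  obtain ⟨ι, σ, _, _, P, hP⟩ :=
    (Algebra.Etale.iff_isStandardSmoothOfRelativeDimension_zero.mp
      (inferInstance : Algebra.Etale (A ⧸ I) C)).out
  cases nonempty_fintype σ
  cases nonempty_fintype ι
  set q : MvPolynomial ι A →+* MvPolynomial ι (A ⧸ I) := MvPolynomial.map (Ideal.Quotient.mk I) with hq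
  have hqs : Function.Surjective q := MvPolynomial.map_surjective _ Ideal.Quotient.mk_surjective
  let v : σ → MvPolynomial ι A := fun i => Function.surjInv hqs (P.relation i)
  have hv : ∀ i, q (v i) = P.relation i := fun i => Function.surjInv_eq hqs _
  set E₀ := MvPolynomial ι A ⧸ Ideal.span (Set.range v)
  let P₀ : Algebra.PreSubmersivePresentation A E₀ ι σ :=
    Algebra.PreSubmersivePresentation.naive (v := v) P.map P.map_inj
  set E₁ := Localization.Away P₀.jacobian
  let Q := Algebra.PreSubmersivePresentation.localizationAway E₁ P₀.jacobian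
  let S : Algebra.SubmersivePresentation A E₁ (Unit ⊕ ι) (Unit ⊕ σ) :=
    { Q.comp P₀ with
      jacobian_isUnit := by
        rw [Algebra.PreSubmersivePresentation.comp_jacobian_eq_jacobian_smul_jacobian,
          Algebra.smul_def, IsUnit.mul_iff]
        exact ⟨IsLocalization.map_units E₁
            (⟨P₀.jacobian, 1, by simp⟩ : Submonoid.powers P₀.jacobian),
          (Algebra.SubmersivePresentation.localizationAway E₁ P₀.jacobian).jacobian_isUnit⟩ }
  have hcard : Nat.card ι = Nat.card σ := by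
    have h1 := Nat.card_le_card_of_injective P.map P.map_inj
    simp only [Algebra.Presentation.dimension] at hP
    omega
  haveI : Algebra.IsStandardSmoothOfRelativeDimension 0 A E₁ :=
    S.isStandardSmoothOfRelativeDimension (by
      simp only [Nat.card_eq_fintype_card] at hcard
      simp [Algebra.Presentation.dimension, hcard])
  let φ : MvPolynomial ι A →ₐ[A] C := MvPolynomial.aeval P.val
  have hφ : ∀ p, φ p = aeval P.val (q p) := fun p => by
    rw [hq, show (Ideal.Quotient.mk I) = algebraMap A (A ⧸ I) from rfl, aeval_map_algebraMap]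
  let π₀ : E₀ →ₐ[A] C := Ideal.Quotient.liftₐ _ φ (fun p hp => by
    refine (Ideal.span_le.mpr ?_ : Ideal.span (Set.range v) ≤ RingHom.ker φ) hp
    rintro _ ⟨i, rfl⟩
    show φ (v i) = 0
    rw [hφ, hv, P.aeval_val_relation])
  have hπ₀ : ∀ p, π₀ (Ideal.Quotient.mk _ p) = φ p := fun p => rfl
  have hmat : P₀.jacobiMatrix.map q = P.jacobiMatrix := by
    refine Matrix.ext fun i j => ?_
    rw [Matrix.map_apply, Algebra.PreSubmersivePresentation.jacobiMatrix_apply,
      Algebra.PreSubmersivePresentation.jacobiMatrix_apply,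
      show P₀.relation j = v j from rfl, show P₀.map i = P.map i from rfl, hq, ← pderiv_map,
      ← hq, hv]
  have hunit : IsUnit (π₀ P₀.jacobian) := by
    have h : π₀ P₀.jacobian = P.jacobian := by
      rw [Algebra.PreSubmersivePresentation.jacobian_eq_jacobiMatrix_det,
        Algebra.PreSubmersivePresentation.jacobian_eq_jacobiMatrix_det,
        show algebraMap P₀.Ring E₀ P₀.jacobiMatrix.det = Ideal.Quotient.mk _ P₀.jacobiMatrix.det
          from rfl, hπ₀, hφ, P.algebraMap_eq, RingHom.map_det, ← hmat]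
      rfl
    rw [h]
    exact P.jacobian_isUnit
  let π : E₁ →ₐ[A] C := IsLocalization.Away.liftAlgHom P₀.jacobian (f := π₀) hunit
  have hπ : ∀ x, π (algebraMap E₀ E₁ x) = π₀ x := fun x => by simp [π]
  refine ⟨E₁, inferInstance, inferInstance, π, inferInstance, fun c => ?_, fun x hx => ?_⟩
  · obtain ⟨p', hp'⟩ := P.algebraMap_surjective c
    obtain ⟨p, rfl⟩ := hqs p'
    refine ⟨algebraMap E₀ E₁ (Ideal.Quotient.mk _ p), ?_⟩
    rw [hπ, hπ₀, hφ, ← hp', P.algebraMap_eq]
    rfl
  · obtain ⟨z, ⟨_, n, rfl⟩, rfl⟩ := IsLocalization.exists_mk'_eq (Submonoid.powers P₀.jacobian) x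
    have hz : π₀ z = 0 := by
      have h1 := congrArg π (IsLocalization.mk'_spec E₁ z
        (⟨P₀.jacobian ^ n, n, rfl⟩ : Submonoid.powers P₀.jacobian))
      rw [map_mul, hx, zero_mul, hπ] at h1
      exact h1.symm
    rw [IsLocalization.mk'_mem_iff]
    obtain ⟨p, rfl⟩ := Ideal.Quotient.mk_surjective z
    rw [hπ₀, hφ] at hz
    have hp : q p ∈ (Ideal.span (Set.range v)).map q := by
      rw [Ideal.map_span, ← Set.range_comp, show (⇑q ∘ v) = P.relation from funext hv,
        P.span_range_relation_eq_ker, P.ker_eq_ker_aeval_val]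
      exact hz
    rw [← Ideal.mem_comap, Ideal.comap_map_of_surjective _ hqs, ← RingHom.ker_eq_comap_bot, hq,
      MvPolynomial.ker_map, Ideal.mk_ker] at hp
    obtain ⟨a, ha, b, hb, rfl⟩ := Submodule.mem_sup.mp hp
    rw [map_add, Ideal.Quotient.eq_zero_iff_mem.mpr ha, zero_add,
      show algebraMap A E₁ = (algebraMap E₀ E₁).comp (algebraMap A E₀) from
        IsScalarTower.algebraMap_eq A E₀ E₁, ← Ideal.map_map]
    refine Ideal.mem_map_of_mem _ ?_
    have hb' := Ideal.mem_map_of_mem (Ideal.Quotient.mk (Ideal.span (Set.range v))) hb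
    rw [Ideal.map_map] at hb'
    exact hb'

/-- Finite étale algebras lift along henselian pairs. -/
theorem exists_finite_etale_lift [H : HenselianRing A I] (C : Type u) [CommRing C] [Algebra A C]
    [Algebra (A ⧸ I) C] [IsScalarTower A (A ⧸ I) C] [Module.Finite (A ⧸ I) C]
    [Algebra.Etale (A ⧸ I) C] :
    ∃ (T : Type u) (_ : CommRing T) (_ : Algebra A T) (π : T →ₐ[A] C),
      Module.Finite A T ∧ Algebra.Etale A T ∧ Function.Surjective π ∧
        ∀ x, π x = 0 → x ∈ I.map (algebraMap A T) := by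
  classical
  obtain ⟨B₀, _, _, π, _, hπs, hπk⟩ := exists_etale_lift_quotient I C
  haveI : Algebra.QuasiFinite A B₀ := inferInstance
  haveI : Module.Finite A C := Module.Finite.trans (A ⧸ I) C
  -- the good elements generate the unit ideal
  let G : Set B₀ := {r | IsIntegral A r ∧ ∀ x, ∃ m, IsIntegral A (r ^ m * x)}
  have hG : (Ideal.span G) = ⊤ := by
    by_contra hne
    obtain ⟨M, hM, hle⟩ := Ideal.exists_le_maximal _ hne
    haveI := hM.isPrime
    obtain ⟨r, hr, h1, h2⟩ := Algebra.zariskisMainProperty_iff.mp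
      (Algebra.ZariskisMainProperty.of_finiteType (R := A) M)
    exact hr (hle (Ideal.subset_span ⟨h1, h2⟩))
  obtain ⟨s, hsG, hs⟩ := Submodule.mem_span_finite_of_mem_span
    ((Ideal.eq_top_iff_one _).mp hG : (1 : B₀) ∈ Submodule.span B₀ G)
  obtain ⟨ys, hys⟩ := Algebra.FiniteType.out (R := A) (A := B₀)
  choose m hm using fun (r : {r // r ∈ s}) (y : B₀) => (hsG r.2).2 y
  set t : Finset B₀ := s ∪ (s.attach ×ˢ ys).image (fun p => (p.1 : B₀) ^ m p.1 p.2 * p.2)
  have ht : ∀ z ∈ t, IsIntegral A z := by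
    intro z hz
    rcases Finset.mem_union.mp hz with hz | hz
    · exact (hsG hz).1
    · obtain ⟨⟨r, y⟩, -, rfl⟩ := Finset.mem_image.mp hz
      exact hm r y
  set E := Algebra.adjoin A (t : Set B₀) with hE
  haveI hEfin : Module.Finite A E :=
    ⟨(Submodule.fg_top _).mpr (fg_adjoin_of_finite t.finite_toSet ht)⟩
  have hrE : ∀ r ∈ s, r ∈ E := fun r hr =>
    Algebra.subset_adjoin (Finset.mem_coe.mpr (Finset.mem_union_left _ hr))
  have hsat : ∀ r ∈ s, ∀ y : B₀, ∃ n : ℕ, r ^ n * y ∈ E := by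
    intro r hr y
    have hy : y ∈ Algebra.adjoin A (ys : Set B₀) := hys ▸ Algebra.mem_top
    induction hy using Algebra.adjoin_induction with
    | mem y hy =>
      exact ⟨m ⟨r, hr⟩ y, Algebra.subset_adjoin (Finset.mem_coe.mpr (Finset.mem_union_right _
        (Finset.mem_image.mpr ⟨(⟨r, hr⟩, y), Finset.mem_product.mpr ⟨Finset.mem_attach _ _, hy⟩,
          rfl⟩)))⟩
    | algebraMap a => exact ⟨0, by simp⟩
    | add y z _ _ hy hz =>
      obtain ⟨n, hn⟩ := hy
      obtain ⟨k, hk⟩ := hz
      refine ⟨n + k, ?_⟩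
      rw [show r ^ (n + k) * (y + z) = r ^ k * (r ^ n * y) + r ^ n * (r ^ k * z) by ring]
      exact E.add_mem (E.mul_mem (pow_mem (hrE r hr) k) hn) (E.mul_mem (pow_mem (hrE r hr) n) hk)
    | mul y z _ _ hy hz =>
      obtain ⟨n, hn⟩ := hy
      obtain ⟨k, hk⟩ := hz
      refine ⟨n + k, ?_⟩
      rw [show r ^ (n + k) * (y * z) = (r ^ n * y) * (r ^ k * z) by ring]
      exact E.mul_mem hn hk
  let πE : E →ₐ[A] C := π.comp E.val
  set K : Ideal E := RingHom.ker πE.toRingHom
  -- an element of `E` invertible modulo `K`, away from which `E` is `B₀`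
  let 𝔯 : Ideal E := Ideal.span {x : E | (x : B₀) ∈ s}
  have htop : 𝔯 ⊔ K = ⊤ := by
    by_contra hne
    obtain ⟨M, hM, hle⟩ := Ideal.exists_le_maximal _ hne
    haveI := hM.isPrime
    letI : Algebra E C := πE.toRingHom.toAlgebra
    haveI : IsScalarTower A E C := IsScalarTower.of_algebraMap_eq fun a => (πE.commutes a).symm
    haveI : Algebra.IsIntegral E C := Algebra.IsIntegral.tower_top A
    obtain ⟨P', -, hP', hPM⟩ := Ideal.exists_ideal_over_prime_of_isIntegral M (⊥ : Ideal C)
      (le_sup_right.trans hle)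
    refine hP'.ne_top ((Ideal.eq_top_iff_one _).mpr ?_)
    rw [← map_one π]
    have hle' : Submodule.span B₀ (s : Set B₀) ≤ P'.comap π := Ideal.span_le.mpr fun r hr => by
      show π r ∈ P'
      have : (⟨r, hrE r hr⟩ : E) ∈ P'.comap (algebraMap E C) :=
        hPM ▸ hle (Ideal.mem_sup_left (Ideal.subset_span hr))
      exact this
    exact hle' hs
  obtain ⟨Δ, hΔ, k, hk, hΔk⟩ := Submodule.mem_sup.mp ((Ideal.eq_top_iff_one _).mp htop)
  have hπΔ : π (Δ : B₀) = 1 := by
    have := congrArg πE hΔk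
    rwa [map_add, show πE k = 0 from hk, add_zero, map_one] at this
  have hΔsat : ∀ y : B₀, ∃ n : ℕ, (Δ : B₀) ^ n * y ∈ E := by
    intro y
    let T : Ideal E :=
      { carrier := {z | (z : B₀) * y ∈ E}
        add_mem' := fun {z w} hz hw => by
          simp only [Set.mem_setOf_eq, AddMemClass.coe_add, add_mul] at *
          exact E.add_mem hz hw
        zero_mem' := by simp
        smul_mem' := fun z w hw => by
          simp only [Set.mem_setOf_eq, smul_eq_mul, MulMemClass.coe_mul, mul_assoc] at *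
          exact E.mul_mem z.2 hw }
    have : 𝔯 ≤ T.radical := Ideal.span_le.mpr fun x hx => by
      obtain ⟨n, hn⟩ := hsat _ hx y
      exact ⟨n, show ((x ^ n : E) : B₀) * y ∈ E by rwa [SubmonoidClass.coe_pow]⟩
    obtain ⟨n, hn⟩ := this hΔ
    exact ⟨n, by simpa [T] using hn⟩
  set IE := I.map (algebraMap A E)
  have hIEK : IE ≤ K := Ideal.map_le_iff_le_comap.mpr fun a ha => by
    show πE (algebraMap A E a) = 0
    rw [πE.commutes, IsScalarTower.algebraMap_apply A (A ⧸ I) C, Ideal.Quotient.algebraMap_eq,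
      Ideal.Quotient.eq_zero_iff_mem.mpr ha, map_zero]
  have hπEs : Function.Surjective πE := fun c => by
    obtain ⟨y, rfl⟩ := hπs c
    obtain ⟨n, hn⟩ := hΔsat y
    refine ⟨⟨_, hn⟩, ?_⟩
    show π ((Δ : B₀) ^ n * y) = π y
    rw [map_mul, map_pow, hπΔ, one_pow, one_mul]
  have hK : ∀ x ∈ K, ∃ n, Δ ^ n * x ∈ IE := by
    intro x hx
    have hxI : (x : B₀) ∈ I.map (algebraMap A B₀) := hπk _ hx
    let T : Submodule A B₀ :=
      { carrier := {z | ∃ n, ∃ h : (Δ : B₀) ^ n * z ∈ E, (⟨_, h⟩ : E) ∈ IE}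
        add_mem' := by
          rintro z w ⟨n, h, hz⟩ ⟨n', h', hw⟩
          have e1 : (Δ : B₀) ^ (n + n') * (z + w) =
              (Δ : B₀) ^ n' * ((Δ : B₀) ^ n * z) + (Δ : B₀) ^ n * ((Δ : B₀) ^ n' * w) := by ring
          refine ⟨n + n', e1 ▸ E.add_mem (E.mul_mem (pow_mem Δ.2 _) h) (E.mul_mem (pow_mem Δ.2 _) h'), ?_⟩
          have := IE.add_mem (IE.mul_mem_left (Δ ^ n') hz) (IE.mul_mem_left (Δ ^ n) hw)
          convert this using 1
          ext
          simp [e1]
        zero_mem' := ⟨0, by simp, by convert IE.zero_mem using 1; ext; simp⟩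
        smul_mem' := by
          rintro a z ⟨n, h, hz⟩
          refine ⟨n, by rw [mul_smul_comm]; exact E.smul_mem h a, ?_⟩
          have := IE.mul_mem_left (algebraMap A E a) hz
          convert this using 1
          ext
          simp [Algebra.smul_def]
          ring }
    have hle : (I.map (algebraMap A B₀)).restrictScalars A ≤ T := by
      rw [← Ideal.smul_top_eq_map]
      refine Submodule.smul_le.mpr fun a ha z _ => ?_
      obtain ⟨n, hn⟩ := hΔsat z
      refine ⟨n, by rw [mul_smul_comm]; exact E.smul_mem hn a, ?_⟩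
      have := IE.mul_mem_right (⟨_, hn⟩ : E) (Ideal.mem_map_of_mem (algebraMap A E) ha)
      convert this using 1
      ext
      simp [Algebra.smul_def]
      ring
    obtain ⟨n, h, hn⟩ := hle hxI
    exact ⟨n, hn⟩
  -- the kernel of `E/IE → C` is generated by an idempotent
  set q := Ideal.Quotient.mk IE
  let πbar : (E ⧸ IE) →ₐ[A ⧸ I] C :=
    { Ideal.Quotient.lift IE πE.toRingHom hIEK with
      commutes' := fun r => by
        obtain ⟨a, rfl⟩ := Ideal.Quotient.mk_surjective r
        show Ideal.Quotient.lift IE πE.toRingHom hIEK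
          (algebraMap A (E ⧸ IE) a) = algebraMap (A ⧸ I) C (algebraMap A (A ⧸ I) a)
        rw [← IsScalarTower.algebraMap_apply]
        exact πE.commutes a }
  have hbar : RingHom.ker πbar.toRingHom = K.map q := by
    refine le_antisymm (fun x hx => ?_) (Ideal.map_le_iff_le_comap.mpr fun x hx => hx)
    obtain ⟨x, rfl⟩ := Ideal.Quotient.mk_surjective x
    exact Ideal.mem_map_of_mem _ hx
  have hfg : (K.map q).FG := by
    rw [← hbar]
    haveI : Algebra.FiniteType (A ⧸ I) (E ⧸ IE) :=
      Algebra.FiniteType.of_restrictScalars_finiteType A _ _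
    have hs : Function.Surjective πbar := fun c => by
      obtain ⟨x, rfl⟩ := hπEs c
      exact ⟨q x, rfl⟩
    obtain ⟨n, g, hg⟩ := Algebra.FiniteType.iff_quotient_mvPolynomial''.mp
      (inferInstance : Algebra.FiniteType (A ⧸ I) (E ⧸ IE))
    have h1 := (Algebra.FinitePresentation.ker_fG_of_surjective (πbar.comp g) (hs.comp hg)).map g.toRingHom
    rw [show (πbar.comp g).toRingHom = πbar.toRingHom.comp g.toRingHom from rfl,
      ← RingHom.comap_ker, Ideal.map_comap_of_surjective g.toRingHom hg] at h1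
    exact h1
  have hidem : IsIdempotentElem (K.map q) := by
    refine le_antisymm Ideal.mul_le_left ?_
    rw [← Ideal.map_mul, Ideal.map_le_iff_le_comap]
    intro x hx
    obtain ⟨n, hn⟩ := hK x hx
    have hd : (1 - Δ ^ n) * x ∈ K * K := by
      refine Ideal.mul_mem_mul (K.mem_of_dvd ?_ hk) hx
      rw [show k = 1 - Δ by linear_combination hΔk]
      simpa using sub_dvd_pow_sub_pow 1 Δ n
    rw [Ideal.mem_comap, show x = (1 - Δ ^ n) * x + Δ ^ n * x by ring, map_add,
      Ideal.Quotient.eq_zero_iff_mem.mpr hn, add_zero]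
    exact Ideal.mem_map_of_mem q hd
  obtain ⟨f', hf', hspan⟩ := (Ideal.isIdempotentElem_iff_of_fg _ hfg).mp hidem
  rw [Ideal.submodule_span_eq] at hspan
  obtain ⟨f, hfK, rfl⟩ : ∃ f ∈ K, q f = f' :=
    (Ideal.mem_map_iff_of_surjective q Ideal.Quotient.mk_surjective).mp
      (hspan ▸ Ideal.subset_span rfl)
  obtain ⟨e, he, hef⟩ := exists_idem I (B := E) (x := 1 - f) (by
    rw [← Ideal.Quotient.eq_zero_iff_mem]
    have h2 : q f * q f = q f := hf'
    show q ((1 - f) ^ 2 - (1 - f)) = 0
    simp only [map_sub, map_pow, map_one]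
    linear_combination h2)
  have hπe : πE e = 1 := by
    have h1 : πE (e - (1 - f)) = 0 := hIEK hef
    rwa [map_sub, map_sub, map_one, show πE f = 0 from hfK, sub_zero, sub_eq_zero] at h1
  have hqe : q e = 1 - q f := by
    rw [Ideal.Quotient.eq.mpr hef, map_sub, map_one]
  set T := E ⧸ Ideal.span ({1 - e} : Set E)
  let mkT : E →ₐ[A] T := Ideal.Quotient.mkₐ A _
  have hmke : mkT e = 1 := by
    rw [← map_one mkT, eq_comm, Ideal.Quotient.mkₐ_eq_mk, Ideal.Quotient.eq]
    exact Ideal.mem_span_singleton_self _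
  haveI : Module.Finite A T := Module.Finite.of_surjective mkT.toLinearMap Ideal.Quotient.mk_surjective
  let πT : T →ₐ[A] C := Ideal.Quotient.liftₐ _ πE fun x hx => by
    obtain ⟨c, rfl⟩ := Ideal.mem_span_singleton'.mp hx
    rw [map_mul, map_sub, map_one, hπe, sub_self, mul_zero]
  have hIT : I.map (algebraMap A T) = IE.map mkT := by
    show _ = Ideal.map mkT.toRingHom (I.map (algebraMap A E))
    rw [Ideal.map_map, ← AlgHom.comp_algebraMap mkT]
    rfl
  have hkerT : ∀ x, πT x = 0 → x ∈ I.map (algebraMap A T) := fun x hx => by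
    obtain ⟨x, rfl⟩ := Ideal.Quotient.mk_surjective x
    have h2 : q x ∈ K.map q := Ideal.mem_map_of_mem q hx
    rw [hspan, Ideal.mem_span_singleton'] at h2
    obtain ⟨c, hc⟩ := h2
    have h3 : e * x ∈ IE := by
      rw [← Ideal.Quotient.eq_zero_iff_mem]
      show q (e * x) = 0
      have h4 : q f * q f = q f := hf'
      rw [map_mul, hqe, ← hc]
      linear_combination (-c) * h4
    rw [hIT, show Ideal.Quotient.mk (Ideal.span ({1 - e} : Set E)) x = mkT (e * x) by
      rw [map_mul, hmke, one_mul]; rfl]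
    exact Ideal.mem_map_of_mem _ h3
  have hΔT : IsUnit (mkT Δ) := by
    refine isUnit_of_sub_one_mem (map_le_jacobson (B := T) H.jac) (hkerT _ ?_)
    rw [map_sub, map_one]
    show π (Δ : B₀) - 1 = 0
    rw [hπΔ, sub_self]
  -- identification with a localization of the étale algebra
  set L := Localization.Away ((Δ * e : E) : B₀)
  haveI : Algebra.Etale B₀ L := Algebra.Etale.of_isLocalizationAway ((Δ * e : E) : B₀)
  haveI : Algebra.Etale A L := Algebra.Etale.comp A B₀ L
  let ψ₀ : E →ₐ[A] L := (IsScalarTower.toAlgHom A B₀ L).comp E.val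
  have huΔe : IsUnit (ψ₀ Δ * ψ₀ e) := by
    rw [← map_mul]
    exact IsLocalization.Away.algebraMap_isUnit (S := L) ((Δ * e : E) : B₀)
  have hψe : ψ₀ e = 1 := by
    have h1 : ψ₀ e * ψ₀ e = ψ₀ e * 1 := by rw [mul_one, ← map_mul, he.eq]
    exact (isUnit_of_mul_isUnit_right huΔe).mul_left_cancel h1
  let ψ : T →ₐ[A] L := Ideal.Quotient.liftₐ _ ψ₀ fun x hx => by
    obtain ⟨c, rfl⟩ := Ideal.mem_span_singleton'.mp hx
    rw [map_mul, map_sub, map_one, hψe, sub_self, mul_zero]
  have hψmk : ∀ x, ψ (mkT x) = ψ₀ x := fun x => rfl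
  have hbij : Function.Bijective ψ := by
    constructor
    · refine (injective_iff_map_eq_zero _).mpr fun x hx => ?_
      obtain ⟨x, rfl⟩ := Ideal.Quotient.mk_surjective x
      have hx' : algebraMap B₀ L (x : B₀) = 0 := hx
      obtain ⟨⟨_, n, rfl⟩, hn⟩ :=
        (IsLocalization.map_eq_zero_iff (Submonoid.powers ((Δ * e : E) : B₀)) L _).mp hx'
      have hn' : (Δ * e) ^ n * x = 0 := Subtype.ext (by simpa using hn)
      have h2 := congrArg mkT hn'
      rw [map_mul, map_pow, map_mul, hmke, mul_one, map_zero] at h2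
      exact (hΔT.pow n).mul_right_eq_zero.mp h2
    · intro z
      obtain ⟨y, ⟨_, n, rfl⟩, rfl⟩ :=
        IsLocalization.exists_mk'_eq (Submonoid.powers ((Δ * e : E) : B₀)) z
      obtain ⟨j, hj⟩ := hΔsat y
      obtain ⟨w, hw⟩ := (hΔT.pow (n + j)).exists_left_inv
      refine ⟨w * mkT ⟨_, hj⟩, ?_⟩
      rw [IsLocalization.eq_mk'_iff_mul_eq]
      have h1 : ψ w * ψ₀ Δ ^ (n + j) = 1 := by
        rw [← hψmk, ← map_pow, ← map_mul, hw, map_one]
      have h2 : ψ₀ ⟨_, hj⟩ = ψ₀ Δ ^ j * algebraMap B₀ L y := by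
        show algebraMap B₀ L ((Δ : B₀) ^ j * y) = algebraMap B₀ L (Δ : B₀) ^ j * algebraMap B₀ L y
        rw [map_mul, map_pow]
      have h3 : algebraMap B₀ L (((Δ * e : E) : B₀) ^ n) = ψ₀ Δ ^ n := by
        rw [map_pow]
        show ψ₀ (Δ * e) ^ n = _
        rw [map_mul, hψe, mul_one]
      rw [map_mul, hψmk, h2, h3]
      linear_combination (algebraMap B₀ L y) * h1
  refine ⟨T, inferInstance, inferInstance, πT, inferInstance,
    Algebra.Etale.of_equiv (AlgEquiv.ofBijective ψ hbij).symm, fun c => ?_, hkerT⟩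
  obtain ⟨x, rfl⟩ := hπEs c
  exact ⟨mkT x, rfl⟩

end Groth.Agent.HenselLib
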