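import Groth.Agent.HenselLib.Split
import Groth.Agent.HenselLib.Unique
import Mathlib.RingTheory.Unramified.LocalStructure
import Mathlib.RingTheory.Unramified.LocalRing
import Mathlib.FieldTheory.IsSepClosed

/-!
# Unramified algebras over strictly henselian local rings
-/

universe u v

open IsLocalRing

namespace Groth.Agent.HenselLib

variable {R : Type u} [CommRing R] [IsLocalRing R]

/-- A finite unramified local algebra over a local ring with separably closed residue field is a
quotient. -/
theorem surjective_of_unramified [IsSepClosed (ResidueField R)] (C : Type v) [CommRing C]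
    [IsLocalRing C] [Algebra R C] [Module.Finite R C] [Algebra.FormallyUnramified R C] :
    Function.Surjective (algebraMap R C) := by
  haveI : IsLocalHom (algebraMap R C) :=
    ((local_hom_TFAE (algebraMap R C)).out 2 0 rfl rfl).mp (map_maximalIdeal_le (maximalIdeal C))
  have h1 : (⊤ : Submodule R C) ≤ LinearMap.range (Algebra.linearMap R C) := by
    refine Submodule.le_of_le_smul_of_le_jacobson_bot Module.Finite.fg_top
      (maximalIdeal_le_jacobson _) fun y _ => ?_
    obtain ⟨a, ha⟩ := IsSepClosed.algebraMap_surjective (ResidueField R) (ResidueField C)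
      (residue C y)
    obtain ⟨a, rfl⟩ := residue_surjective a
    refine Submodule.mem_sup.mpr ⟨algebraMap R C a, ⟨a, rfl⟩, y - algebraMap R C a, ?_,
      add_sub_cancel _ _⟩
    rw [Ideal.smul_top_eq_map]
    show y - algebraMap R C a ∈ (maximalIdeal R).map (algebraMap R C)
    rw [Algebra.FormallyUnramified.map_maximalIdeal, ← residue_eq_zero_iff, map_sub, ← ha]
    exact sub_self _
  exact fun y => h1 (Submodule.mem_top (x := y))

/-- Splitting along an idempotent. -/
noncomputable def splitEquiv {R S : Type*} [CommRing R] [CommRing S] [Algebra R S] {e : S}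
    (he : IsIdempotentElem e) :
    S ≃ₐ[R] (S ⧸ Ideal.span ({1 - e} : Set S)) × (S ⧸ Ideal.span ({e} : Set S)) :=
  AlgEquiv.ofBijective ((Ideal.Quotient.mkₐ R _).prod (Ideal.Quotient.mkₐ R _)) <| by
    have he' : e * e = e := he
    constructor
    · refine (injective_iff_map_eq_zero _).mpr fun x hx => ?_
      obtain ⟨h1, h2⟩ := Prod.ext_iff.mp hx
      obtain ⟨a, ha⟩ := Ideal.mem_span_singleton'.mp (Ideal.Quotient.eq_zero_iff_mem.mp h1)
      obtain ⟨b, hb⟩ := Ideal.mem_span_singleton'.mp (Ideal.Quotient.eq_zero_iff_mem.mp h2)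
      linear_combination (-a - b) * he' - e * ha - (1 - e) * hb
    · rintro ⟨x, y⟩
      obtain ⟨x, rfl⟩ := Ideal.Quotient.mk_surjective x
      obtain ⟨y, rfl⟩ := Ideal.Quotient.mk_surjective y
      refine ⟨x * e + y * (1 - e), Prod.ext (Ideal.Quotient.eq.mpr ?_) (Ideal.Quotient.eq.mpr ?_)⟩
      · exact Ideal.mem_span_singleton'.mpr ⟨y - x, by ring⟩
      · exact Ideal.mem_span_singleton'.mpr ⟨x - y, by ring⟩

/-- The decomposition of an unramified algebra over a strictly henselian local ring. -/
theorem exists_unramified_split {R : Type u} [CommRing R] [HenselianLocalRing R]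
    [IsSepClosed (ResidueField R)] (S : Type u) [CommRing S] [Algebra R S]
    [Algebra.Unramified R S] :
    ∃ (ι : Type u) (_ : Fintype ι) (A : ι → Type u) (_ : ∀ i, CommRing (A i))
      (_ : ∀ i, Algebra R (A i)) (B : Type u) (_ : CommRing B) (_ : Algebra R B),
      (∀ i, Function.Surjective (algebraMap R (A i))) ∧
      Ideal.map (algebraMap R B) (maximalIdeal R) = ⊤ ∧
      Nonempty (S ≃ₐ[R] ((∀ i, A i) × B)) := by
  obtain ⟨e, he, hfin, htop⟩ := exists_split_quasiFinite (R := R) (S := S)
  set F := S ⧸ Ideal.span ({1 - e} : Set S)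
  haveI : Module.Finite R F := hfin
  haveI : Algebra.FormallyUnramified R F :=
    Algebra.FormallyUnramified.comp R S F
  haveI := finite_maximalSpectrum_of_finite R (B := F)
  have hb : Function.Bijective
      (RingHom.pi fun M : MaximalSpectrum F => algebraMap F (Localization.AtPrime M.asIdeal)) :=
    bijective_pi_localization fun M => by
      haveI := M.isMaximal
      exact exists_separating_idem (bijOn_idem (maximalIdeal R) F).surjOn M.asIdeal
  let ε : F ≃ₐ[R] ∀ M : MaximalSpectrum F, Localization.AtPrime M.asIdeal :=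
    AlgEquiv.ofBijective
      { RingHom.pi fun M : MaximalSpectrum F => algebraMap F (Localization.AtPrime M.asIdeal) with
        commutes' := fun r => funext fun M =>
          (IsScalarTower.algebraMap_apply R F (Localization.AtPrime M.asIdeal) r).symm }
      hb
  refine ⟨MaximalSpectrum F, Fintype.ofFinite _, fun M => Localization.AtPrime M.asIdeal,
    inferInstance, inferInstance, S ⧸ Ideal.span ({e} : Set S), inferInstance, inferInstance,
    fun M => ?_, htop, ⟨(splitEquiv he).trans (AlgEquiv.prodCongr ε AlgEquiv.refl)⟩⟩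
  haveI : Module.Finite R (Localization.AtPrime M.asIdeal) :=
    Module.Finite.of_surjective ((LinearMap.proj M).comp ε.toLinearMap)
      ((Function.surjective_eval M).comp ε.surjective)
  haveI : Algebra.FormallyUnramified F (Localization.AtPrime M.asIdeal) :=
    Algebra.FormallyUnramified.of_isLocalization M.asIdeal.primeCompl
  haveI : Algebra.FormallyUnramified R (Localization.AtPrime M.asIdeal) :=
    Algebra.FormallyUnramified.comp R F _
  exact surjective_of_unramified _

/-- Residue field valued points of an unramified algebra are already points of a separably closed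
subfield. -/
theorem exists_point_of_isSepClosed {k K : Type*} [Field k] [IsSepClosed k] [Field K] [Algebra k K]
    {E : Type*} [CommRing E] [Algebra k E] [Algebra.FiniteType k E] [Algebra.FormallyUnramified k E]
    (σ : E →ₐ[k] K) : ∃ σ₀ : E →ₐ[k] k, (Algebra.ofId k K).comp σ₀ = σ := by
  haveI : Module.Finite k E := Algebra.FormallyUnramified.finite_of_free k E
  haveI hmax : (RingHom.ker σ.toRingHom).IsMaximal := by
    haveI : (RingHom.ker σ.toRingHom).IsPrime := RingHom.ker_isPrime _
    haveI : IsArtinianRing E := IsArtinianRing.of_finite k E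
    infer_instance
  letI := Ideal.Quotient.field (RingHom.ker σ.toRingHom)
  haveI : Algebra.FormallyUnramified k (E ⧸ RingHom.ker σ.toRingHom) :=
    Algebra.FormallyUnramified.comp k E _
  haveI : Algebra.IsSeparable k (E ⧸ RingHom.ker σ.toRingHom) :=
    Algebra.FormallyUnramified.isSeparable k _
  have hsurj := IsSepClosed.algebraMap_surjective k (E ⧸ RingHom.ker σ.toRingHom)
  let ε : k ≃ₐ[k] E ⧸ RingHom.ker σ.toRingHom :=
    AlgEquiv.ofBijective (Algebra.ofId k _) ⟨RingHom.injective _, hsurj⟩
  refine ⟨ε.symm.toAlgHom.comp (Ideal.Quotient.mkₐ k _), AlgHom.ext fun x => ?_⟩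
  obtain ⟨a, ha⟩ := hsurj (Ideal.Quotient.mk _ x)
  show algebraMap k K (ε.symm (Ideal.Quotient.mk _ x)) = σ x
  rw [← ha, show ε.symm (algebraMap k _ a) = a from ε.symm_apply_apply a, ← σ.commutes]
  exact sub_eq_zero.mp (by rw [← map_sub]; exact Ideal.Quotient.eq.mp ha)

end Groth.Agent.HenselLib
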