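import Groth.Agent.HenselLib.TFAE
import Mathlib.Algebra.Polynomial.Identities
import Mathlib.Algebra.Polynomial.Lifts

/-!
# Operations on henselian pairs: nil ideals, integral algebras, change of ideal, local rings
-/

universe u v

open Polynomial

namespace Groth.Agent.HenselLib

variable {A : Type u} [CommRing A] {I J : Ideal A}

/-- Henselian at a locally nilpotent ideal. -/
theorem henselianRing_of_nil (hI : ∀ x ∈ I, IsNilpotent x) : HenselianRing A I := by
  refine henselianRing_of_idem_finite fun B _ _ _ => ?_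
  set J := I.map (algebraMap A B) with hJ
  have hnil : J ≤ nilradical B :=
    Ideal.map_le_iff_le_comap.mpr fun x hx => mem_nilradical.mpr ((hI x hx).map _)
  refine ⟨fun e he => he.map _, fun e he e' he' h => ?_, fun e he => ?_⟩
  · exact idem_eq_of_sub_mem (hnil.trans (Ideal.jacobson_bot (R := B) ▸ nilradical_le_jacobson B))
      he he' (Ideal.Quotient.eq.mp h)
  · obtain ⟨e', he', rfl⟩ := exists_isIdempotentElem_eq_of_ker_isNilpotent (Ideal.Quotient.mk J)
      (fun x hx => hnil (by rwa [Ideal.mk_ker] at hx)) e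
      (by obtain ⟨x, rfl⟩ := Ideal.Quotient.mk_surjective e; exact ⟨x, rfl⟩) he
    exact ⟨e', he', rfl⟩

/-- Integral algebras over henselian pairs are henselian. -/
theorem henselianRing_of_isIntegral (I : Ideal A) [HenselianRing A I] (B : Type v) [CommRing B]
    [Algebra A B] [Algebra.IsIntegral A B] : HenselianRing B (I.map (algebraMap A B)) := by
  refine henselianRing_of_idem_finite fun C _ _ _ => ?_
  letI : Algebra A C := ((algebraMap B C).comp (algebraMap A B)).toAlgebra
  haveI : IsScalarTower A B C := IsScalarTower.of_algebraMap_eq' rfl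
  haveI : Algebra.IsIntegral A C := Algebra.IsIntegral.trans B
  rw [Ideal.map_map, ← IsScalarTower.algebraMap_eq]
  exact bijOn_idem I C

/-- Quotients of henselian pairs are henselian. -/
theorem henselianRing_quotient (K : Ideal A) (I : Ideal A) [HenselianRing A I] :
    HenselianRing (A ⧸ K) (I.map (Ideal.Quotient.mk K)) :=
  henselianRing_of_isIntegral I (A ⧸ K)

/-- A root congruent to an approximate simple root mod a larger ideal is congruent mod the smaller
one. -/
theorem sub_mem_of_root {f : A[X]} {c a₀ : A} (hI : I ≤ Ideal.jacobson ⊥) (hJ : J ≤ Ideal.jacobson ⊥)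
    (hc : f.eval c = 0) (hca : c - a₀ ∈ J) (h₁ : f.eval a₀ ∈ I)
    (h₂ : IsUnit (Ideal.Quotient.mk I (f.derivative.eval a₀))) : c - a₀ ∈ I := by
  obtain ⟨k, hk⟩ := f.binomExpansion a₀ (c - a₀)
  rw [add_sub_cancel, hc] at hk
  haveI := isLocalHom_of_le_jacobson_bot I hI
  have hu : IsUnit (f.derivative.eval a₀ + k * (c - a₀)) :=
    isUnit_of_sub_mem hJ (IsUnit.of_map _ _ h₂)
      (by rw [add_sub_cancel_left]; exact J.mul_mem_left _ hca)
  have : (f.derivative.eval a₀ + k * (c - a₀)) * (c - a₀) ∈ I := by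
    rw [show (f.derivative.eval a₀ + k * (c - a₀)) * (c - a₀) = -f.eval a₀ by linear_combination -hk]
    exact neg_mem h₁
  exact (Ideal.unit_mul_mem_iff_mem I hu).mp this

/-- Henselian at `J` implies henselian at every smaller ideal. -/
theorem henselianRing_of_le (hIJ : I ≤ J) [H : HenselianRing A J] : HenselianRing A I where
  jac := hIJ.trans H.jac
  is_henselian f hf a₀ h₁ h₂ := by
    obtain ⟨c, hc, hca⟩ := H.is_henselian f hf a₀ (hIJ h₁)
      (by simpa using h₂.map (Ideal.Quotient.factor hIJ))
    exact ⟨c, hc, sub_mem_of_root (hIJ.trans H.jac) H.jac hc hca h₁ h₂⟩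

/-- Henselian at `I` and henselian quotient give henselian at `J`. -/
theorem henselianRing_of_quotient (hIJ : I ≤ J) [HI : HenselianRing A I]
    [HQ : HenselianRing (A ⧸ I) (J.map (Ideal.Quotient.mk I))] : HenselianRing A J := by
  haveI := isLocalHom_of_le_jacobson_bot I HI.jac
  have hmem : ∀ x : A, Ideal.Quotient.mk I x ∈ J.map (Ideal.Quotient.mk I) ↔ x ∈ J := fun x => by
    rw [← Ideal.mem_comap, Ideal.comap_map_of_surjective _ Ideal.Quotient.mk_surjective,
      ← RingHom.ker_eq_comap_bot, Ideal.mk_ker, sup_eq_left.mpr hIJ]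
  have hjac : J ≤ Ideal.jacobson ⊥ := by
    intro x hx
    rw [Ideal.mem_jacobson_bot]
    intro y
    refine IsUnit.of_map (Ideal.Quotient.mk I) _ ?_
    rw [map_add, map_mul, map_one]
    exact Ideal.mem_jacobson_bot.mp (HQ.jac ((hmem x).mpr hx)) _
  refine ⟨hjac, fun f hf a₀ h₁ h₂ => ?_⟩
  haveI := isLocalHom_of_le_jacobson_bot J hjac
  have hu : IsUnit (f.derivative.eval a₀) := IsUnit.of_map _ _ h₂
  obtain ⟨b', hb, hba⟩ := HQ.is_henselian (f.map (Ideal.Quotient.mk I)) (hf.map _)
    (Ideal.Quotient.mk I a₀) (by rw [eval_map_apply]; exact (hmem _).mpr h₁)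
    (by rw [derivative_map, eval_map_apply]; exact (hu.map _).map _)
  obtain ⟨b, rfl⟩ := Ideal.Quotient.mk_surjective b'
  rw [IsRoot, eval_map_apply, Ideal.Quotient.eq_zero_iff_mem] at hb
  rw [← map_sub, hmem] at hba
  obtain ⟨c, hc, hcb⟩ := HI.is_henselian f hf b hb
    ((isUnit_of_sub_mem hjac hu (Ideal.mem_of_dvd J (sub_dvd_eval_sub b a₀ _) hba)).map _)
  exact ⟨c, hc, by simpa using J.add_mem (hIJ hcb) hba⟩

/-- The radical of a henselian ideal is henselian. -/
theorem henselianRing_radical (I : Ideal A) [HenselianRing A I] : HenselianRing A I.radical := by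
  haveI : HenselianRing (A ⧸ I) (I.radical.map (Ideal.Quotient.mk I)) := by
    refine henselianRing_of_nil fun x hx => ?_
    obtain ⟨y, hy, rfl⟩ := (Ideal.mem_map_iff_of_surjective _ Ideal.Quotient.mk_surjective).mp hx
    obtain ⟨n, hn⟩ := hy
    exact ⟨n, by rw [← map_pow, Ideal.Quotient.eq_zero_iff_mem]; exact hn⟩
  exact henselianRing_of_quotient Ideal.le_radical

/-- A henselian ring at a maximal ideal which is local is a henselian local ring. -/
theorem henselianLocalRing_of_henselianRing [IsLocalRing A]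
    [H : HenselianRing A (IsLocalRing.maximalIdeal A)] : HenselianLocalRing A where
  is_henselian f hf a₀ h₁ h₂ := H.is_henselian f hf a₀ h₁ (h₂.map _)

end Groth.Agent.HenselLib
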