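import Groth.Agent.HenselLib.Unique
import Groth.Prelude.Def_EssEt
import Mathlib.RingTheory.Unramified.LocalRing

/-!
# Essentially étale local algebras and henselian local rings
-/

universe u v w

open IsLocalRing

namespace Groth.Agent.HenselLib

variable {A A' : Type u} [CommRing A] [IsLocalRing A] [CommRing A'] [Algebra A A']

theorem formallyUnramified_of_essEtale (h : EGA4loc.IsEssentiallyEtale A A') :
    Algebra.FormallyUnramified A A' ∧ Algebra.EssFiniteType A A' := by
  obtain ⟨C, _, _, q, _, _, -, ⟨e⟩⟩ := h
  haveI : Algebra.FormallyUnramified C (Localization.AtPrime q) :=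
    Algebra.FormallyUnramified.of_isLocalization q.primeCompl
  haveI : Algebra.FormallyUnramified A (Localization.AtPrime q) :=
    Algebra.FormallyUnramified.comp A C _
  exact ⟨Algebra.FormallyUnramified.of_equiv e.symm,
    Algebra.EssFiniteType.of_surjective e.symm.toAlgHom e.symm.surjective⟩

theorem map_maximalIdeal_of_essEtale [IsLocalRing A'] [IsLocalHom (algebraMap A A')]
    (h : EGA4loc.IsEssentiallyEtale A A') :
    (maximalIdeal A).map (algebraMap A A') = maximalIdeal A' := by
  obtain ⟨h1, h2⟩ := formallyUnramified_of_essEtale h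
  exact Algebra.FormallyUnramified.map_maximalIdeal

/-- Maps out of an essentially étale algebra are determined modulo the Jacobson radical. -/
theorem algHom_ext_of_essEtale (h : EGA4loc.IsEssentiallyEtale A A') {C : Type w} [CommRing C]
    [Algebra A C] {J : Ideal C} (hJ : J ≤ Ideal.jacobson ⊥) {φ ψ : A' →ₐ[A] C}
    (hφψ : ∀ x, φ x - ψ x ∈ J) : φ = ψ := by
  obtain ⟨h1, h2⟩ := formallyUnramified_of_essEtale h
  exact algHom_ext_of_jacobson hJ hφψ

/-- A map out of an essentially étale local algebra into a henselian local ring, with prescribed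
residue field map. -/
theorem existsUnique_ringHom_residue [IsLocalRing A'] (h : EGA4loc.IsEssentiallyEtale A A')
    {B : Type u} [CommRing B] [HenselianLocalRing B] (ψ : A →+* B)
    (α : ResidueField A' →+* ResidueField B)
    (hα : ∀ a, α (residue A' (algebraMap A A' a)) = residue B (ψ a)) :
    ∃! ψ' : A' →+* B, IsLocalHom ψ' ∧ ψ'.comp (algebraMap A A') = ψ ∧
      ∀ x, residue B (ψ' x) = α (residue A' x) := by
  letI : Algebra A B := ψ.toAlgebra
  have hloc : ∀ ψ' : A' →+* B, (∀ x, residue B (ψ' x) = α (residue A' x)) → IsLocalHom ψ' :=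
    fun ψ' hres => ⟨fun x hx => by
      by_contra hnu
      have h0 : residue A' x = 0 := (residue_eq_zero_iff x).mpr hnu
      have := hres x
      rw [h0, map_zero, residue_eq_zero_iff] at this
      exact this hx⟩
  obtain ⟨C, _, _, q, _, hC, -, ⟨e⟩⟩ := id h
  let g : C →ₐ[A] A' := e.symm.toAlgHom.comp (IsScalarTower.toAlgHom A C (Localization.AtPrime q))
  let σ : C →ₐ[A] B ⧸ maximalIdeal B :=
    { toRingHom := α.comp ((residue A').comp g.toRingHom)
      commutes' := fun a => by
        show α (residue A' (g (algebraMap A C a))) = _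
        rw [g.commutes, hα]
        rfl }
  obtain ⟨τ, hτ, -⟩ := existsUnique_lift (maximalIdeal B) σ
  have hτ' : ∀ c, residue B (τ c) = α (residue A' (g c)) := fun c => AlgHom.congr_fun hτ c
  have hunit : ∀ s : q.primeCompl, IsUnit (τ s) := fun s => by
    rw [← residue_ne_zero_iff_isUnit, hτ', map_ne_zero, residue_ne_zero_iff_isUnit]
    exact (IsLocalization.map_units (Localization.AtPrime q) s).map e.symm.toAlgHom
  let L : Localization.AtPrime q →+* B := IsLocalization.lift (g := τ.toRingHom) hunit
  have hL : ∀ c, L (algebraMap C _ c) = τ c := IsLocalization.lift_eq hunit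
  let ψ₀ : A' →+* B := L.comp e.toAlgHom.toRingHom
  have hψ₀ : ψ₀.comp (algebraMap A A') = ψ := RingHom.ext fun a => by
    show L (e (algebraMap A A' a)) = ψ a
    rw [e.commutes, IsScalarTower.algebraMap_apply A C, hL, τ.commutes]
    rfl
  have hres : ∀ x, residue B (ψ₀ x) = α (residue A' x) := by
    have key : ((residue B).comp L) = (α.comp (residue A')).comp e.symm.toAlgHom.toRingHom :=
      IsLocalization.ringHom_ext q.primeCompl (RingHom.ext fun c => by
        show residue B (L _) = α (residue A' (e.symm _))
        rw [hL, hτ']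
        rfl)
    intro x
    have := RingHom.congr_fun key (e x)
    simpa [ψ₀] using this
  refine ⟨ψ₀, ⟨hloc _ hres, hψ₀, hres⟩, fun ψ' ⟨_, h1, h2⟩ => ?_⟩
  let φ₀ : A' →ₐ[A] B := { ψ₀ with commutes' := RingHom.congr_fun hψ₀ }
  let φ₁ : A' →ₐ[A] B := { ψ' with commutes' := RingHom.congr_fun h1 }
  have heq : φ₁ = φ₀ := algHom_ext_of_essEtale h (J := maximalIdeal B)
    (maximalIdeal_le_jacobson _) fun x => Ideal.Quotient.eq.mp ((h2 x).trans (hres x).symm)
  exact RingHom.ext fun x => AlgHom.congr_fun heq x

/-- Local maps out of a strictly essentially étale algebra have determined residue maps. -/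
theorem residue_eq_of_strict [IsLocalRing A'] [IsLocalHom (algebraMap A A')]
    (h : EGA4loc.IsStrictlyEssentiallyEtale A A') (x : A') :
    ∃ a : A, x - algebraMap A A' a ∈ maximalIdeal A' := by
  obtain ⟨y, hy⟩ := h.2.2 (residue A' x)
  obtain ⟨a, rfl⟩ := residue_surjective y
  rw [ResidueField.map_residue] at hy
  exact ⟨a, Ideal.Quotient.eq.mp hy.symm⟩

end Groth.Agent.HenselLib
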