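import Groth.Agent.HenselLib.Nbhd
import Mathlib.RingTheory.Smooth.Flat
import Mathlib.RingTheory.Flat.Stability
import Mathlib.RingTheory.Flat.EquationalCriterion

/-!
# Flatness of algebras over an unramified algebra they are points of
-/

universe u v w

open scoped TensorProduct

namespace Groth.Agent.HenselLib

/-- An `R`-flat algebra is flat over every unramified `R`-algebra mapping to it. -/
theorem flat_of_point {R : Type u} {C : Type v} {T : Type w} [CommRing R] [CommRing C] [Algebra R C]
    [CommRing T] [Algebra R T] [Algebra C T] [IsScalarTower R C T]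
    [Algebra.FormallyUnramified R C] [Algebra.EssFiniteType R C] [Module.Flat R T] :
    Module.Flat C T := by
  obtain ⟨t, ht, ht1⟩ := (Algebra.FormallyUnramified.iff_exists_tensorProduct (R := R) (S := C)).mp
    inferInstance
  let τ : C →ₐ[R] T := IsScalarTower.toAlgHom R C T
  -- the base change of `T`, with `C` acting on the left
  let μ : C ⊗[R] T →ₐ[C] T := Algebra.TensorProduct.lift (Algebra.ofId C T) (AlgHom.id R T)
    fun _ _ => Commute.all _ _
  let t' : C ⊗[R] T := Algebra.TensorProduct.map (AlgHom.id R C) τ t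
  have ht' : ∀ s : C, ((1 : C) ⊗ₜ[R] algebraMap C T s) * t' = (s ⊗ₜ[R] (1 : T)) * t' := fun s => by
    have h := congrArg (Algebra.TensorProduct.map (AlgHom.id R C) τ) (ht s)
    rw [map_mul, map_sub, map_zero, Algebra.TensorProduct.map_tmul, Algebra.TensorProduct.map_tmul,
      sub_mul, sub_eq_zero, map_one, map_one] at h
    exact h
  have hμt : μ t' = 1 := by
    have key : (μ.restrictScalars R).comp (Algebra.TensorProduct.map (AlgHom.id R C) τ) =
        τ.comp (Algebra.TensorProduct.lmul' R) :=
      Algebra.TensorProduct.ext' fun a b => by simp [μ, τ]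
    have := AlgHom.congr_fun key t
    rw [AlgHom.comp_apply, AlgHom.comp_apply, ht1, map_one] at this
    exact this
  let j : T →ₗ[C] C ⊗[R] T :=
    { toFun := fun x => ((1 : C) ⊗ₜ[R] x) * t'
      map_add' := fun x y => by rw [TensorProduct.tmul_add, add_mul]
      map_smul' := fun s x => by
        rw [RingHom.id_apply, Algebra.smul_def, Algebra.smul_def,
          Algebra.TensorProduct.algebraMap_apply, Algebra.algebraMap_self, RingHom.id_apply,
          mul_left_comm (s ⊗ₜ[R] (1 : T)), ← ht' s,
          ← mul_one ((1 : C)), ← Algebra.TensorProduct.tmul_mul_tmul, mul_one]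
        ring }
  refine Module.Flat.of_retract j μ.toLinearMap (LinearMap.ext fun x => ?_)
  show μ (((1 : C) ⊗ₜ[R] x) * t') = x
  rw [map_mul, hμt, mul_one]
  simp [μ]

/-- An element killed in an algebra which is flat over `R` is killed by an element which is not
killed at a given point. -/
theorem exists_mul_eq_zero_of_flat {R : Type u} {C : Type v} {T : Type w} {K : Type*} [CommRing R]
    [CommRing C] [Algebra R C] [CommRing T] [Algebra R T] [CommRing K] [Nontrivial K]
    [Algebra.FormallyUnramified R C] [Algebra.EssFiniteType R C] [Module.Flat R T]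
    (τ : C →ₐ[R] T) (ρ : T →+* K) {c : C} (hc : τ c = 0) :
    ∃ s : C, ρ (τ s) ≠ 0 ∧ s * c = 0 := by
  letI : Algebra C T := τ.toRingHom.toAlgebra
  haveI : IsScalarTower R C T := IsScalarTower.of_algebraMap_eq fun r => (τ.commutes r).symm
  haveI : Module.Flat C T := flat_of_point (R := R)
  obtain ⟨k, a, y, hy, ha⟩ := Module.Flat.isTrivialRelation_of_sum_smul_eq_zero
    (R := C) (M := T) (f := fun _ : Fin 1 => c) (x := fun _ => (1 : T))
    (by simp [Algebra.smul_def, RingHom.algebraMap_toAlgebra, hc])
  obtain ⟨j, hj⟩ : ∃ j, ρ (τ (a 0 j)) ≠ 0 := by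
    by_contra hall
    push Not at hall
    have h1 := congrArg ρ (hy 0)
    rw [map_one, map_sum] at h1
    refine one_ne_zero (h1.trans (Finset.sum_eq_zero fun j _ => ?_))
    rw [Algebra.smul_def, map_mul, RingHom.algebraMap_toAlgebra]
    show ρ (τ (a 0 j)) * _ = 0
    rw [hall j, zero_mul]
  refine ⟨a 0 j, hj, ?_⟩
  have := ha j
  rwa [Fin.sum_univ_one, mul_comm] at this

end Groth.Agent.HenselLib
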