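import Groth.Agent.HenselLib.Henselization
import Groth.Agent.HenselLib.FlatPoint
import Groth.Agent.HenselLib.EssEtale
import Mathlib.RingTheory.Flat.FaithfullyFlat.Algebra
import Mathlib.RingTheory.QuasiFinite.Basic
import Mathlib.RingTheory.Etale.QuasiFinite
import Mathlib.RingTheory.Unramified.LocalStructure
import Mathlib.RingTheory.Flat.Localization
import Mathlib.FieldTheory.SeparableClosure

/-!
# Properties of the colimit of pointed étale algebras
-/

universe u v

open Polynomial IsLocalRing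
open scoped TensorProduct

namespace Groth.Agent.HenselLib

variable {R : Type u} [CommRing R] {K : Type u} [Field K] [Algebra R K]
variable {H : Type u} [CommRing H] [Algebra R H] {ρ : H →ₐ[R] K}

namespace IsNbhdColim

variable (h : IsNbhdColim R K H ρ)
include h

theorem isLocalRing : IsLocalRing H := haveI := h.henselian; inferInstance

theorem mem_maximal_iff [IsLocalRing H] (x : H) : x ∈ maximalIdeal H ↔ ρ x = 0 :=
  ⟨fun hx => by_contra fun hne => hx (h.isUnit x hne), fun hx hu => (hu.map ρ).ne_zero hx⟩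

theorem ker_eq [IsLocalRing H] : RingHom.ker ρ = maximalIdeal H := by
  ext x; exact (h.mem_maximal_iff x).symm

/-- The residue field is `K`. -/
theorem exists_residueEquiv [IsLocalRing H] :
    ∃ e : ResidueField H ≃ₐ[R] K, ∀ x, e (residue H x) = ρ x := by
  refine ⟨(Ideal.quotientEquivAlgOfEq R h.ker_eq.symm).trans
    (Ideal.quotientKerAlgEquivOfSurjective h.surj), fun x => ?_⟩
  rfl

theorem common_rep (s : Finset H) : ∃ (C : Type u) (_ : CommRing C) (_ : Algebra R C)
    (_ : Algebra.Etale R C) (τ : C →ₐ[R] H), ∀ x ∈ s, x ∈ τ.range :=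
  exists_common_rep h.exists_rep s

/-- Every pointed étale algebra maps to the colimit. -/
theorem existsUnique_lift {C : Type u} [CommRing C] [Algebra R C] [Algebra.Etale R C]
    (σ : C →ₐ[R] K) : ∃! τ : C →ₐ[R] H, ρ.comp τ = σ := by
  haveI := h.henselian
  obtain ⟨e, he⟩ := h.exists_residueEquiv
  obtain ⟨τ, hτ, -⟩ := HenselLib.existsUnique_lift (maximalIdeal H)
    (e.symm.toAlgHom.comp σ : C →ₐ[R] H ⧸ maximalIdeal H)
  refine ⟨τ, AlgHom.ext fun c => ?_, fun τ' hτ' => algHom_ext_of_point ρ h.isUnit ?_⟩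
  · have h1 : residue H (τ c) = e.symm (σ c) := AlgHom.congr_fun hτ c
    rw [AlgHom.comp_apply, ← he, h1, e.apply_symm_apply]
  · rw [hτ']
    refine AlgHom.ext fun c => ?_
    have h1 : residue H (τ c) = e.symm (σ c) := AlgHom.congr_fun hτ c
    rw [AlgHom.comp_apply, ← he, h1, e.apply_symm_apply]

/-- Compatible maps on all étale algebras mapping to `H` glue to a map out of `H`. -/
theorem exists_descend {B : Type v} [CommRing B] [Algebra R B]
    (P : ∀ (C : Type u) [CommRing C] [Algebra R C], (C →ₐ[R] H) → (C →ₐ[R] B) → Prop)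
    (hex : ∀ (C : Type u) [CommRing C] [Algebra R C] [Algebra.Etale R C] (τ : C →ₐ[R] H),
      ∃ ψ, P C τ ψ)
    (huniq : ∀ (C : Type u) [CommRing C] [Algebra R C] [Algebra.Etale R C] (τ : C →ₐ[R] H) ψ ψ',
      P C τ ψ → P C τ ψ' → ψ = ψ')
    (hcomp : ∀ (C D : Type u) [CommRing C] [Algebra R C] [CommRing D] [Algebra R D]
      (φ : C →ₐ[R] D) (τ : D →ₐ[R] H) ψ, P D τ ψ → P C (τ.comp φ) (ψ.comp φ)) :
    ∃ g : H →ₐ[R] B, ∀ (C : Type u) [CommRing C] [Algebra R C] [Algebra.Etale R C]
      (τ : C →ₐ[R] H) ψ, P C τ ψ → g.comp τ = ψ := by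
  choose C i₁ i₂ i₃ τ c hc using h.exists_rep
  letI := i₁
  letI := i₂
  haveI := i₃
  choose ψ hψ using fun x : H => hex (C x) (τ x)
  have key : ∀ (D : Type u) [CommRing D] [Algebra R D] [Algebra.Etale R D] (τ' : D →ₐ[R] H)
      (ψ' : D →ₐ[R] B), P D τ' ψ' → ∀ d : D, ψ (τ' d) (c (τ' d)) = ψ' d := by
    intro D _ _ _ τ' ψ' hP d
    set x := τ' d
    haveI : Algebra.Etale R (C x ⊗[R] D) := Algebra.Etale.comp R (C x) (C x ⊗[R] D)
    obtain ⟨E, _, _, _, φ, τE, hτE, hφ⟩ := h.exists_kill (C x ⊗[R] D)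
      (Algebra.TensorProduct.productMap (τ x) τ') (c x ⊗ₜ 1 - 1 ⊗ₜ d)
      (by simp [hc, x])
    obtain ⟨ψE, hψE⟩ := hex E τE
    have hl : τE.comp (φ.comp Algebra.TensorProduct.includeLeft) = τ x := by
      rw [← AlgHom.comp_assoc, hτE, Algebra.TensorProduct.productMap_left]
    have hr : τE.comp (φ.comp Algebra.TensorProduct.includeRight) = τ' := by
      rw [← AlgHom.comp_assoc, hτE, Algebra.TensorProduct.productMap_right]
    have e1 : ψ x = ψE.comp (φ.comp Algebra.TensorProduct.includeLeft) :=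
      huniq _ (τ x) _ _ (hψ x) (hl ▸ hcomp _ _ _ τE ψE hψE)
    have e2 : ψ' = ψE.comp (φ.comp Algebra.TensorProduct.includeRight) :=
      huniq _ τ' _ _ hP (hr ▸ hcomp _ _ _ τE ψE hψE)
    rw [e1, e2]
    show ψE (φ (c x ⊗ₜ 1)) = ψE (φ (1 ⊗ₜ d))
    rw [show φ (c x ⊗ₜ 1) = φ (1 ⊗ₜ d) from sub_eq_zero.mp ((map_sub φ _ _).symm.trans hφ)]
  let g : H → B := fun x => ψ x (c x)
  have hbin : ∀ x y : H, ∃ (D : Type u) (_ : CommRing D) (_ : Algebra R D) (_ : Algebra.Etale R D)
      (τ' : D →ₐ[R] H) (ψ' : D →ₐ[R] B) (a b : D), τ' a = x ∧ τ' b = y ∧ ∀ d, g (τ' d) = ψ' d := by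
    intro x y
    classical
    obtain ⟨D, _, _, _, τ', hτ'⟩ := h.common_rep {x, y}
    obtain ⟨a, ha⟩ := hτ' x (Finset.mem_insert_self _ _)
    obtain ⟨b, hb⟩ := hτ' y (Finset.mem_insert_of_mem (Finset.mem_singleton_self _))
    obtain ⟨ψ', hψ'⟩ := hex D τ'
    exact ⟨D, _, _, inferInstance, τ', ψ', a, b, ha, hb, key D τ' ψ' hψ'⟩
  have halg : ∀ r, g (algebraMap R H r) = algebraMap R B r := fun r => by
    obtain ⟨D, _, _, _, τ', ψ', -, -, -, -, hg⟩ := hbin 0 0
    rw [← τ'.commutes r, hg, ψ'.commutes]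
  refine ⟨{ toFun := g
            map_one' := by simpa using halg 1
            map_mul' := fun x y => ?_
            map_zero' := by simpa using halg 0
            map_add' := fun x y => ?_
            commutes' := halg }, fun D _ _ _ τ' ψ' hP => AlgHom.ext fun d => key D τ' ψ' hP d⟩
  · obtain ⟨D, _, _, _, τ', ψ', a, b, rfl, rfl, hg⟩ := hbin x y
    show g (τ' a * τ' b) = g (τ' a) * g (τ' b)
    rw [← map_mul, hg, hg, hg, map_mul]
  · obtain ⟨D, _, _, _, τ', ψ', a, b, rfl, rfl, hg⟩ := hbin x y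
    show g (τ' a + τ' b) = g (τ' a) + g (τ' b)
    rw [← map_add, hg, hg, hg, map_add]

/-- The universal property. -/
theorem existsUnique_map {T : Type u} [CommRing T] [HenselianLocalRing T] [Algebra R T]
    (τK : K →+* ResidueField T)
    (hτK : ∀ r, τK (algebraMap R K r) = residue T (algebraMap R T r)) :
    ∃! g : H →ₐ[R] T, ∀ x, residue T (g x) = τK (ρ x) := by
  let τ' : K →ₐ[R] T ⧸ maximalIdeal T := { τK with commutes' := hτK }
  obtain ⟨g, hg⟩ := h.exists_descend (B := T)
    (fun C _ _ τ ψ => (Ideal.Quotient.mkₐ R (maximalIdeal T)).comp ψ = τ'.comp (ρ.comp τ))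
    (fun C _ _ _ τ => (HenselLib.existsUnique_lift (maximalIdeal T) _).exists)
    (fun C _ _ _ τ ψ ψ' h1 h2 => (HenselLib.existsUnique_lift (maximalIdeal T) _).unique h1 h2)
    (fun C D _ _ _ _ φ τ ψ h1 => by
      rw [← AlgHom.comp_assoc, h1, AlgHom.comp_assoc, AlgHom.comp_assoc])
  refine ⟨g, fun x => ?_, fun g' hg' => AlgHom.ext fun x => ?_⟩
  · obtain ⟨C, _, _, _, τ, c, rfl⟩ := h.exists_rep x
    obtain ⟨ψ, hψ⟩ := (HenselLib.existsUnique_lift (maximalIdeal T) (τ'.comp (ρ.comp τ))).exists
    rw [← AlgHom.comp_apply g τ, hg C τ ψ hψ]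
    exact AlgHom.congr_fun hψ c
  · obtain ⟨C, _, _, _, τ, c, rfl⟩ := h.exists_rep x
    exact (AlgHom.congr_fun (hg C τ (g'.comp τ) (AlgHom.ext fun d => hg' (τ d))) c).symm

/-- Transport. -/
theorem of_algEquiv {H' : Type u} [CommRing H'] [Algebra R H'] (e : H' ≃ₐ[R] H) :
    IsNbhdColim R K H' (ρ.comp e.toAlgHom) where
  surj a := by
    obtain ⟨x, rfl⟩ := h.surj a
    exact ⟨e.symm x, congrArg ρ (e.apply_symm_apply x)⟩
  isUnit x hx := by
    have := (h.isUnit _ hx).map e.symm
    simpa using this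
  henselian := by
    haveI := h.henselian
    haveI : IsLocalRing H' := RingEquiv.isLocalRing e.symm.toRingEquiv
    refine ⟨fun f hf a₀ h₁ h₂ => ?_⟩
    obtain ⟨a, ha, ha'⟩ := HenselianLocalRing.is_henselian (f.map (e : H' →+* H)) (hf.map _)
      ((e : H' →+* H) a₀)
      (by
        rw [eval_map, eval₂_at_apply]
        exact map_nonunit (e : H' →+* H) _ h₁)
      (by
        rw [derivative_map, eval_map, eval₂_at_apply]
        exact h₂.map _)
    refine ⟨e.symm a, ?_, ?_⟩
    · have h3 : (f.map (e : H' →+* H)).eval ((e : H' →+* H) (e.symm a)) = 0 := by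
        rw [show (e : H' →+* H) (e.symm a) = a from e.apply_symm_apply a]
        exact ha
      rw [eval_map, eval₂_at_apply] at h3
      exact e.injective (h3.trans (map_zero e).symm)
    · intro hu
      apply ha'
      have := hu.map e
      rwa [map_sub, e.apply_symm_apply] at this
  exists_rep x := by
    obtain ⟨C, _, _, _, τ, c, hc⟩ := h.exists_rep (e x)
    exact ⟨C, _, _, inferInstance, e.symm.toAlgHom.comp τ, c,
      (congrArg e.symm hc).trans (e.symm_apply_apply x)⟩
  exists_kill C _ _ _ τ c hc := by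
    obtain ⟨D, _, _, _, φ, τ', h1, h2⟩ := h.exists_kill C (e.toAlgHom.comp τ) c
      (by show e (τ c) = 0; rw [hc, map_zero])
    refine ⟨D, _, _, inferInstance, φ, e.symm.toAlgHom.comp τ', ?_, h2⟩
    rw [AlgHom.comp_assoc, h1]
    exact AlgHom.ext fun z => e.symm_apply_apply (τ z)

/-- The colimit is flat. -/
theorem flat : Module.Flat R H := by
  classical
  refine Module.Flat.iff_forall_isTrivialRelation.mpr fun {l f x} hrel => ?_
  obtain ⟨C, _, _, _, τ, hτ⟩ := h.common_rep (Finset.univ.image x)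
  choose a ha using fun i => hτ (x i) (Finset.mem_image_of_mem x (Finset.mem_univ i))
  replace ha : ∀ i, τ (a i) = x i := ha
  obtain ⟨D, _, _, _, φ, τ', hφτ, hφ⟩ := h.exists_kill C τ (∑ i, f i • a i)
    (by rw [map_sum, ← hrel]; exact Finset.sum_congr rfl fun i _ => by rw [map_smul, ha])
  rw [map_sum] at hφ
  simp only [map_smul] at hφ
  obtain ⟨k, b, y, hy, hb⟩ := Module.Flat.isTrivialRelation_of_sum_smul_eq_zero hφ
  refine ⟨k, b, fun j => τ' (y j), fun i => ?_, hb⟩
  have hyi : φ (a i) = ∑ j, b i j • y j := hy i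
  rw [← ha i, ← hφτ, AlgHom.comp_apply, hyi, map_sum]
  simp only [map_smul]

/-- An `R`-flat algebra is flat over the colimit. -/
theorem flat_tower {T : Type v} [CommRing T] [Algebra R T] [Algebra H T] [IsScalarTower R H T]
    [Module.Flat R T] : Module.Flat H T := by
  classical
  refine Module.Flat.iff_forall_isTrivialRelation.mpr fun {l f x} hrel => ?_
  obtain ⟨C, _, _, _, τ, hτ⟩ := h.common_rep (Finset.univ.image f)
  choose a ha using fun i => hτ (f i) (Finset.mem_image_of_mem f (Finset.mem_univ i))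
  replace ha : ∀ i, τ (a i) = f i := ha
  letI : Algebra C T := ((algebraMap H T).comp τ.toRingHom).toAlgebra
  haveI : IsScalarTower R C T := IsScalarTower.of_algebraMap_eq fun r => by
    rw [IsScalarTower.algebraMap_apply R H T, RingHom.algebraMap_toAlgebra]
    exact congrArg _ (τ.commutes r).symm
  haveI : Module.Flat C T := flat_of_point (R := R)
  have hsm : ∀ (s : C) (z : T), s • z = τ s • z := fun s z => by
    rw [Algebra.smul_def, Algebra.smul_def]
    rfl
  obtain ⟨k, b, y, hy, hb⟩ := Module.Flat.isTrivialRelation_of_sum_smul_eq_zero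
    (f := a) (x := x) (by simp only [hsm, ha]; exact hrel)
  refine ⟨k, fun i j => τ (b i j), y, fun i => ?_, fun j => ?_⟩
  · rw [hy i]
    exact Finset.sum_congr rfl fun j _ => hsm _ _
  · rw [← map_zero τ, ← hb j, map_sum]
    exact Finset.sum_congr rfl fun i _ => by rw [map_mul, ha]

/-- The colimit is formally étale. -/
theorem formallyEtale : Algebra.FormallyEtale R H := by
  refine Algebra.FormallyEtale.iff_comp_bijective.mpr fun B _ _ I hI => ⟨fun g₁ g₂ hg => ?_, fun g₀ => ?_⟩
  · refine AlgHom.ext fun x => ?_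
    obtain ⟨C, _, _, _, τ, c, rfl⟩ := h.exists_rep x
    have := (Algebra.FormallyEtale.comp_bijective R C I hI).1
      (a₁ := g₁.comp τ) (a₂ := g₂.comp τ) (AlgHom.ext fun z => AlgHom.congr_fun hg (τ z))
    exact AlgHom.congr_fun this c
  · obtain ⟨g, hg⟩ := h.exists_descend (B := B)
      (fun C _ _ τ ψ => (Ideal.Quotient.mkₐ R I).comp ψ = g₀.comp τ)
      (fun C _ _ _ τ => (Algebra.FormallyEtale.comp_bijective R C I hI).2 _)
      (fun C _ _ _ τ ψ ψ' h1 h2 =>
        (Algebra.FormallyEtale.comp_bijective R C I hI).1 (h1.trans h2.symm))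
      (fun C D _ _ _ _ φ τ ψ h1 => by rw [← AlgHom.comp_assoc, h1, AlgHom.comp_assoc])
    refine ⟨g, AlgHom.ext fun x => ?_⟩
    obtain ⟨C, _, _, _, τ, c, rfl⟩ := h.exists_rep x
    obtain ⟨ψ, hψ⟩ := (Algebra.FormallyEtale.comp_bijective R C I hI).2 (g₀.comp τ)
    show Ideal.Quotient.mk I ((g.comp τ) c) = g₀ (τ c)
    rw [hg C τ ψ hψ]
    exact AlgHom.congr_fun hψ c

/-- Primes with the same contraction are incomparable. -/
theorem eq_of_le_of_comap_eq {P Q : Ideal H} [P.IsPrime] [Q.IsPrime] (hle : P ≤ Q)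
    (heq : P.comap (algebraMap R H) = Q.comap (algebraMap R H)) : P = Q := by
  refine le_antisymm hle fun x hx => ?_
  obtain ⟨C, _, _, _, τ, c, rfl⟩ := h.exists_rep x
  have := Algebra.QuasiFinite.eq_of_le_of_under_eq (R := R) (P.comap τ.toRingHom) (Q.comap τ.toRingHom)
    (Ideal.comap_mono hle)
    (by
      simp only [Ideal.under_def, Ideal.comap_comap, AlgHom.toRingHom_eq_coe, AlgHom.comp_algebraMap]
      exact heq)
  have h2 : c ∈ Q.comap τ.toRingHom := hx
  rw [← this] at h2
  exact h2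

/-- Localizing the base. -/
theorem restrictBase (M : Submonoid R) {R' : Type u} [CommRing R'] [Algebra R R']
    [IsLocalization M R'] [Algebra R' K] [IsScalarTower R R' K] [Algebra R' H] [IsScalarTower R R' H] :
    ∃ ρ' : H →ₐ[R'] K, IsNbhdColim R' K H ρ' ∧ ∀ x, ρ' x = ρ x := by
  haveI := h.henselian
  haveI : Module.Flat R H := h.flat
  haveI : Module.Flat R' H := (Module.flat_iff_of_isLocalization R' M H).mpr inferInstance
  let ρ' : H →ₐ[R'] K :=
    { ρ.toRingHom with
      commutes' := fun r' => by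
        have : ρ.toRingHom.comp (algebraMap R' H) = algebraMap R' K :=
          IsLocalization.ringHom_ext M (RingHom.ext fun r => by
            show ρ (algebraMap R' H (algebraMap R R' r)) = _
            rw [← IsScalarTower.algebraMap_apply, ρ.commutes, RingHom.comp_apply,
              ← IsScalarTower.algebraMap_apply])
        exact RingHom.congr_fun this r' }
  refine ⟨ρ', ⟨h.surj, h.isUnit, h.henselian, fun x => ?_, fun C _ _ _ τ c hc => ?_⟩, fun _ => rfl⟩
  · obtain ⟨C, _, _, _, τ, c, rfl⟩ := h.exists_rep x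
    exact ⟨R' ⊗[R] C, inferInstance, inferInstance, inferInstance,
      Algebra.TensorProduct.lift (Algebra.ofId R' H) τ (fun _ _ => Commute.all _ _), 1 ⊗ₜ c,
      by simp⟩
  · obtain ⟨s, hs, hsc⟩ := exists_mul_eq_zero_of_flat τ ρ.toRingHom hc
    have hu : IsUnit (τ s) := h.isUnit _ hs
    refine ⟨Localization.Away s, inferInstance, inferInstance, inferInstance,
      IsScalarTower.toAlgHom R' C _, IsLocalization.Away.liftAlgHom s (f := τ) hu,
      AlgHom.ext fun z => IsLocalization.lift_eq _ z, ?_⟩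
    exact (IsLocalization.map_eq_zero_iff (Submonoid.powers s) (Localization.Away s) c).mpr
      ⟨⟨s, 1, pow_one s⟩, hsc⟩

end IsNbhdColim

/-- `R → K` with `K` a fraction extension of the image. -/
theorem generated_of_fraction (hK : ∀ a : K, ∃ r s : R, algebraMap R K s ≠ 0 ∧
    algebraMap R K s * a = algebraMap R K r) : GeneratedBySimpleRoots R K := fun a => by
  obtain ⟨r, s, hs, hrs⟩ := hK a
  refine ⟨s, X - C r, hs, monic_X_sub_C r, ?_, ?_⟩
  · rw [map_sub, aeval_X, aeval_C, hrs, sub_self]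
  · simp

section Local

variable [IsLocalRing R]

/-- Separable extensions of the residue field are generated by simple roots. -/
theorem generated_of_isSeparable [Algebra (ResidueField R) K] [IsScalarTower R (ResidueField R) K]
    [Algebra.IsSeparable (ResidueField R) K] : GeneratedBySimpleRoots R K := fun a => by
  obtain ⟨F, hFmap, -, hF⟩ := lifts_and_natDegree_eq_and_monic
    ((mem_lifts (minpoly (ResidueField R) a)).mpr
      (Polynomial.map_surjective (residue R) residue_surjective _))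
    (minpoly.monic (Algebra.IsSeparable.isIntegral (ResidueField R) a))
  have haev : ∀ (p : R[X]), aeval a p = aeval a (p.map (residue R)) := fun p =>
    (aeval_map_algebraMap (ResidueField R) a p).symm
  refine ⟨1, F, by simp, hF, ?_, ?_⟩
  · rw [map_one, one_mul, haev, hFmap, minpoly.aeval]
  · rw [map_one, one_mul, haev, ← derivative_map, hFmap]
    exact (Algebra.IsSeparable.isSeparable (ResidueField R) a).aeval_derivative_ne_zero
      (minpoly.aeval _ _)

namespace IsNbhdColim

variable (h : IsNbhdColim R K H ρ) (hm : ∀ r ∈ maximalIdeal R, algebraMap R K r = 0)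
include h hm

theorem isLocalHom : IsLocalHom (algebraMap R H) := ⟨fun r hr => by
  by_contra hnu
  have := (hr.map ρ).ne_zero
  rw [ρ.commutes] at this
  exact this (hm r hnu)⟩

theorem map_maximalIdeal [IsLocalRing H] :
    (maximalIdeal R).map (algebraMap R H) = maximalIdeal H := by
  haveI := h.isLocalHom hm
  refine le_antisymm (Ideal.map_le_iff_le_comap.mpr fun r hr => map_nonunit _ r hr) fun x hx => ?_
  obtain ⟨C, _, _, _, τ, c, rfl⟩ := h.exists_rep x
  let q : Ideal C := RingHom.ker (ρ.comp τ).toRingHom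
  haveI : q.IsPrime := RingHom.ker_isPrime _
  have hq : q.comap (algebraMap R C) = maximalIdeal R := by
    refine ((maximalIdeal.isMaximal R).eq_of_le (Ideal.comap_ne_top _ ‹q.IsPrime›.ne_top) fun r hr => ?_).symm
    show ρ (τ (algebraMap R C r)) = 0
    rw [τ.commutes, ρ.commutes]
    exact hm r hr
  haveI : IsLocalHom (algebraMap R (Localization.AtPrime q)) :=
    ⟨fun r hr => by
      by_contra hnu
      rw [IsScalarTower.algebraMap_apply R C, IsLocalization.AtPrime.isUnit_to_map_iff _ q] at hr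
      exact hr (show r ∈ q.comap (algebraMap R C) from hq ▸ hnu)⟩
  have hE : EGA4loc.IsEssentiallyEtale R (Localization.AtPrime q) :=
    ⟨C, _, _, q, ‹_›, ‹_›, hq, ⟨AlgEquiv.refl⟩⟩
  have hc : algebraMap C (Localization.AtPrime q) c ∈
      (maximalIdeal R).map (algebraMap R (Localization.AtPrime q)) := by
    rw [map_maximalIdeal_of_essEtale hE, IsLocalRing.mem_maximalIdeal, mem_nonunits_iff,
      IsLocalization.AtPrime.isUnit_to_map_iff _ q]
    exact fun hcq => hcq ((h.mem_maximal_iff _).mp hx)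
  rw [IsScalarTower.algebraMap_eq R C, ← Ideal.map_map,
    IsLocalization.algebraMap_mem_map_algebraMap_iff q.primeCompl] at hc
  obtain ⟨s, hs, hsc⟩ := hc
  have h1 := Ideal.mem_map_of_mem τ.toRingHom hsc
  rw [Ideal.map_map, AlgHom.toRingHom_eq_coe, AlgHom.comp_algebraMap, RingHom.coe_coe, map_mul] at h1
  exact (Ideal.unit_mul_mem_iff_mem _ (h.isUnit (τ s) hs)).mp h1

theorem faithfullyFlat : Module.FaithfullyFlat R H := by
  haveI := h.henselian
  haveI := h.isLocalHom hm
  haveI := h.flat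
  exact Module.FaithfullyFlat.of_flat_of_isLocalHom

/-- If the residue field does not grow then neither do the quotients by powers. -/
theorem quotient_pow_bijective [IsLocalRing H] (hs : Function.Surjective (algebraMap R K)) (n : ℕ) :
    Function.Bijective (Ideal.quotientMap
      (Ideal.map (algebraMap R H) (maximalIdeal R ^ n)) (algebraMap R H) Ideal.le_comap_map) := by
  haveI := h.faithfullyFlat hm
  refine ⟨Ideal.quotientMap_injective' (Ideal.comap_map_eq_self_of_faithfullyFlat _).le, fun y => ?_⟩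
  obtain ⟨x, rfl⟩ := Ideal.Quotient.mk_surjective y
  suffices hx : ∀ (n : ℕ) (x : H),
      ∃ r, x - algebraMap R H r ∈ Ideal.map (algebraMap R H) (maximalIdeal R ^ n) by
    obtain ⟨r, hr⟩ := hx n x
    exact ⟨Ideal.Quotient.mk _ r, by rw [Ideal.quotientMap_mk]; exact (Ideal.Quotient.eq.mpr hr).symm⟩
  clear x n
  intro n
  induction n with
  | zero => exact fun x => ⟨0, by rw [pow_zero, Ideal.one_eq_top, Ideal.map_top]; exact Submodule.mem_top⟩
  | succ n ih =>
    intro x
    obtain ⟨r, hr⟩ := ih x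
    have key : ∀ z ∈ Ideal.map (algebraMap R H) (maximalIdeal R ^ n),
        ∃ r, z - algebraMap R H r ∈ Ideal.map (algebraMap R H) (maximalIdeal R ^ (n + 1)) := by
      intro z hz
      induction hz using Submodule.span_induction with
      | mem z hz =>
        obtain ⟨a, -, rfl⟩ := hz
        exact ⟨a, by simp⟩
      | zero => exact ⟨0, by simp⟩
      | add a b _ _ ha hb =>
        obtain ⟨a', ha⟩ := ha
        obtain ⟨b', hb⟩ := hb
        exact ⟨a' + b', by rw [map_add, add_sub_add_comm]; exact Ideal.add_mem _ ha hb⟩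
      | smul t a hspan ha =>
        obtain ⟨a', ha⟩ := ha
        obtain ⟨t', ht⟩ := hs (ρ t)
        have h1 : t - algebraMap R H t' ∈ (maximalIdeal R).map (algebraMap R H) := by
          rw [h.map_maximalIdeal hm, h.mem_maximal_iff, map_sub, ρ.commutes, ht, sub_self]
        refine ⟨t' * a', ?_⟩
        rw [smul_eq_mul, map_mul, show t * a - algebraMap R H t' * algebraMap R H a' =
          (t - algebraMap R H t') * a + algebraMap R H t' * (a - algebraMap R H a') by ring]
        refine Ideal.add_mem _ ?_ (Ideal.mul_mem_left _ _ ha)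
        rw [pow_succ', Ideal.map_mul]
        exact Ideal.mul_mem_mul h1 hspan
    obtain ⟨r', hr'⟩ := key _ hr
    exact ⟨r + r', by rw [map_add, ← sub_sub]; exact hr'⟩

end IsNbhdColim

end Local

end Groth.Agent.HenselLib
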