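import Groth.Agent.HenselLib.TFAE
import Mathlib.LinearAlgebra.Matrix.Charpoly.Coeff
import Mathlib.RingTheory.IntegralClosure.IsIntegralClosure.Basic
import Mathlib.RingTheory.Finiteness.Projective
import Mathlib.LinearAlgebra.TensorProduct.RightExactness
import Mathlib.RingTheory.OrzechProperty
import Mathlib.Algebra.Module.Projective

/-!
# Lifting idempotent matrices and projective modules along henselian pairs
-/

universe u v

open Polynomial
open scoped IsMulCommutative TensorProduct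

namespace Groth.Agent.HenselLib

variable {R : Type u} [CommRing R]

/-- Idempotent matrices lift along henselian pairs. -/
theorem exists_idem_matrix (I : Ideal R) [HenselianRing R I] {ι : Type v} [Fintype ι] [DecidableEq ι]
    {e : Matrix ι ι (R ⧸ I)} (he : IsIdempotentElem e) :
    ∃ E : Matrix ι ι R, IsIdempotentElem E ∧ E.map (Ideal.Quotient.mk I) = e := by
  obtain ⟨M, hM⟩ : ∃ M : Matrix ι ι R, M.map (Ideal.Quotient.mk I) = e :=
    ⟨fun i j => Function.surjInv Ideal.Quotient.mk_surjective (e i j), by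
      ext i j; exact Function.surjInv_eq Ideal.Quotient.mk_surjective (e i j)⟩
  set B := Algebra.adjoin R ({M} : Set (Matrix ι ι R))
  let ψ : B →+* Matrix ι ι (R ⧸ I) :=
    (Ideal.Quotient.mk I).mapMatrix.comp B.val.toRingHom
  haveI : Algebra.IsIntegral R B := ⟨fun y => (isIntegral_algHom_iff B.val Subtype.val_injective).mp
    (Algebra.IsIntegral.isIntegral (R := R) (y : Matrix ι ι R))⟩
  set J := I.map (algebraMap R B) with hJdef
  have hψJ : ∀ y ∈ J, ψ y = 0 := by
    refine fun y hy => (Ideal.map_le_iff_le_comap.mpr (fun a ha => ?_) : J ≤ RingHom.ker ψ) hy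
    rw [Ideal.mem_comap, RingHom.mem_ker]
    ext i j
    show Ideal.Quotient.mk I (algebraMap R (Matrix ι ι R) a i j) = 0
    rw [Matrix.algebraMap_matrix_apply, Ideal.Quotient.eq_zero_iff_mem]
    split_ifs <;> simp [ha]
  have hnil : ∀ q ∈ RingHom.ker (Ideal.Quotient.lift J ψ hψJ), IsNilpotent q := by
    intro q hq
    obtain ⟨y, rfl⟩ := Ideal.Quotient.mk_surjective q
    rw [RingHom.mem_ker, Ideal.Quotient.lift_mk] at hq
    refine ⟨Fintype.card ι, ?_⟩
    rw [← map_pow, Ideal.Quotient.eq_zero_iff_mem]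
    have hq' : (y : Matrix ι ι R).map (Ideal.Quotient.mk I) = 0 := hq
    have hχ : ((y : Matrix ι ι R).charpoly).map (Ideal.Quotient.mk I) =
        ((X : R[X]) ^ Fintype.card ι).map (Ideal.Quotient.mk I) := by
      rw [← Matrix.charpoly_map, hq', Polynomial.map_pow, map_X, Matrix.charpoly_zero]
    have h1 := eval_sub_eval_mem (I := I) (B := B) hχ y
    have h2 : aeval y (y : Matrix ι ι R).charpoly = 0 := Subtype.ext (by
      rw [aeval_subalgebra_coe, Matrix.aeval_self_charpoly]; rfl)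
    rwa [h2, aeval_X_pow, zero_sub, neg_mem_iff] at h1
  obtain ⟨e', he', hee'⟩ := exists_isIdempotentElem_eq_of_ker_isNilpotent
    (Ideal.Quotient.lift J ψ hψJ) hnil e
    ⟨Ideal.Quotient.mk J ⟨M, Algebra.self_mem_adjoin_singleton R M⟩, hM⟩ he
  obtain ⟨b, hb, rfl⟩ := (bijOn_idem I B).surjOn he'
  exact ⟨b, congrArg Subtype.val hb, hee'⟩

/-- A finite projective module over `R/I` lifts. -/
theorem exists_proj_lift (I : Ideal R) [HenselianRing R I] (Q : Type v) [AddCommGroup Q]
    [Module R Q] [Module (R ⧸ I) Q] [IsScalarTower R (R ⧸ I) Q] [Module.Finite (R ⧸ I) Q]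
    [Module.Projective (R ⧸ I) Q] :
    ∃ (n : ℕ) (P : Submodule R (Fin n → R)) (π : P →ₗ[R] Q),
      Module.Finite R P ∧ Module.Projective R P ∧ Function.Surjective π ∧
        LinearMap.ker π = I • ⊤ := by
  obtain ⟨n, p, s, hp, hs, hps⟩ := Module.Finite.exists_comp_eq_id_of_projective (R ⧸ I) Q
  set e : Matrix (Fin n) (Fin n) (R ⧸ I) := LinearMap.toMatrix' (s ∘ₗ p) with he
  have hidem : IsIdempotentElem e := by
    rw [IsIdempotentElem, he, ← LinearMap.toMatrix'_comp]
    congr 1
    rw [LinearMap.comp_assoc, ← LinearMap.comp_assoc p s p, hps, LinearMap.id_comp]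
  obtain ⟨E, hE, hEe⟩ := exists_idem_matrix I hidem
  set f := E.toLin' with hf
  have hff : ∀ v, f (f v) = f v := fun v => by
    rw [hf, Matrix.toLin'_apply, Matrix.toLin'_apply, Matrix.mulVec_mulVec, hE.eq]
  let red : (Fin n → R) →ₗ[R] (Fin n → R ⧸ I) := LinearMap.compLeft (Algebra.linearMap R (R ⧸ I)) _
  have hred : ∀ v, red (f v) = s (p (red v)) := fun v => by
    show red (f v) = (s ∘ₗ p) (red v)
    rw [← Matrix.toLin'_toMatrix' (s ∘ₗ p), ← he, ← hEe]
    funext i
    exact RingHom.map_mulVec (Ideal.Quotient.mk I) E v i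
  let P := LinearMap.range f
  let π : P →ₗ[R] Q := (p.restrictScalars R) ∘ₗ red ∘ₗ P.subtype
  refine ⟨n, P, π, inferInstance, ?_, fun q => ?_, ?_⟩
  · exact Module.Projective.of_split P.subtype f.rangeRestrict
      (LinearMap.ext fun ⟨x, v, hv⟩ => Subtype.ext (show f x = x by rw [← hv]; exact hff v))
  · obtain ⟨v, hv⟩ : ∃ v, red v = s q :=
      ⟨fun i => Function.surjInv Ideal.Quotient.mk_surjective (s q i),
        funext fun i => Function.surjInv_eq Ideal.Quotient.mk_surjective (s q i)⟩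
    refine ⟨⟨f v, v, rfl⟩, ?_⟩
    show p (red (f v)) = q
    have hps' : ∀ q, p (s q) = q := fun q => LinearMap.congr_fun hps q
    rw [hred, hv, hps', hps']
  · refine le_antisymm (fun x hx => ?_) (Submodule.smul_le.mpr fun a ha x _ => ?_)
    · obtain ⟨x, v, rfl⟩ := x
      have hx' : p (red (f v)) = 0 := hx
      have h0 : red (f v) = 0 := by
        rw [← hff v, hred, hx', map_zero]
      have hmem : f v ∈ I • (⊤ : Submodule R (Fin n → R)) := by
        classical
        rw [pi_eq_sum_univ (f v)]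
        refine Submodule.sum_mem _ fun i _ => Submodule.smul_mem_smul ?_ Submodule.mem_top
        exact Ideal.Quotient.eq_zero_iff_mem.mp (congrFun h0 i)
      have := Submodule.mem_map_of_mem (f := f.rangeRestrict) hmem
      rw [Submodule.map_smul'', Submodule.map_top, LinearMap.range_rangeRestrict] at this
      rwa [show f.rangeRestrict (f v) = ⟨f v, v, rfl⟩ from Subtype.ext (hff v)] at this
    · rw [LinearMap.mem_ker, map_smul, ← algebraMap_smul (R ⧸ I) a, Ideal.Quotient.algebraMap_eq,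
        Ideal.Quotient.eq_zero_iff_mem.mpr ha, zero_smul]

/-- Nakayama: a map which is bijective after reduction is surjective. -/
theorem surjective_of_reduction {I : Ideal R} (hI : I ≤ Ideal.jacobson ⊥)
    {M N : Type*} [AddCommGroup M] [Module R M] [AddCommGroup N] [Module R N] [Module.Finite R N]
    (φ : M →ₗ[R] N) (ε : (R ⧸ I) ⊗[R] M ≃ₗ[R] (R ⧸ I) ⊗[R] N)
    (hφ : ∀ x, (1 : R ⧸ I) ⊗ₜ φ x = ε (1 ⊗ₜ x)) : Function.Surjective φ := by
  rw [← LinearMap.range_eq_top, ← top_le_iff]
  refine Submodule.le_of_le_smul_of_le_jacobson_bot Module.Finite.fg_top hI fun y _ => ?_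
  obtain ⟨x, hx⟩ := TensorProduct.mk_surjective R M (R ⧸ I) Ideal.Quotient.mk_surjective
    (ε.symm (1 ⊗ₜ y))
  have : y - φ x ∈ LinearMap.ker (TensorProduct.mk R (R ⧸ I) N 1) := by
    rw [LinearMap.mem_ker, map_sub, sub_eq_zero]
    show (1 : R ⧸ I) ⊗ₜ y = 1 ⊗ₜ φ x
    rw [hφ, show (1 : R ⧸ I) ⊗ₜ x = ε.symm (1 ⊗ₜ y) from hx, ε.apply_symm_apply]
  rw [LinearMap.ker_tensorProductMk] at this
  exact Submodule.mem_sup.mpr ⟨φ x, ⟨x, rfl⟩, y - φ x, this, add_sub_cancel _ _⟩

/-- Finite projective modules with isomorphic reductions modulo an ideal in the Jacobson radical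
are isomorphic. -/
theorem proj_iso_of_reduction {I : Ideal R} (hI : I ≤ Ideal.jacobson ⊥)
    {P₁ P₂ : Type*} [AddCommGroup P₁] [Module R P₁] [AddCommGroup P₂] [Module R P₂]
    [Module.Finite R P₁] [Module.Projective R P₁] [Module.Finite R P₂] [Module.Projective R P₂]
    (e : (R ⧸ I) ⊗[R] P₁ ≃ₗ[R] (R ⧸ I) ⊗[R] P₂) : Nonempty (P₁ ≃ₗ[R] P₂) := by
  obtain ⟨φ, hφ⟩ := Module.projective_lifting_property (TensorProduct.mk R (R ⧸ I) P₂ 1)
    (e.toLinearMap ∘ₗ TensorProduct.mk R (R ⧸ I) P₁ 1)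
    (TensorProduct.mk_surjective R P₂ (R ⧸ I) Ideal.Quotient.mk_surjective)
  obtain ⟨ψ, hψ⟩ := Module.projective_lifting_property (TensorProduct.mk R (R ⧸ I) P₁ 1)
    (e.symm.toLinearMap ∘ₗ TensorProduct.mk R (R ⧸ I) P₂ 1)
    (TensorProduct.mk_surjective R P₁ (R ⧸ I) Ideal.Quotient.mk_surjective)
  have h1 := surjective_of_reduction hI φ e fun x => LinearMap.congr_fun hφ x
  have h2 := surjective_of_reduction hI ψ e.symm fun x => LinearMap.congr_fun hψ x
  have h3 : Function.Injective (ψ ∘ₗ φ) :=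
    OrzechProperty.injective_of_surjective_endomorphism _ (h2.comp h1)
  exact ⟨LinearEquiv.ofBijective φ ⟨Function.Injective.of_comp h3, h1⟩⟩

end Groth.Agent.HenselLib
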