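import Groth.Agent.HenselLib.HenselizationProps
import Groth.Prelude.Def_Hensel

/-!
# Henselization and strict henselization of a local ring
-/

universe u v

open Polynomial IsLocalRing

namespace Groth.Agent.HenselLib

variable {R : Type u} [CommRing R] [IsLocalRing R]

theorem algebraMap_residueField_eq_zero {r : R} (hr : r ∈ maximalIdeal R) :
    algebraMap R (ResidueField R) r = 0 := (residue_eq_zero_iff r).mpr hr

/-- The colimit at the residue field is a henselization. -/
theorem isHenselization_of_colim {H : Type u} [CommRing H] [Algebra R H] [IsLocalRing H]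
    [IsLocalHom (algebraMap R H)] {ρ : H →ₐ[R] ResidueField R}
    (h : IsNbhdColim R (ResidueField R) H ρ) : Hensel.IsHenselization R H where
  henselian := h.henselian
  universal T _ _ f hf := by
    letI : Algebra R T := f.toAlgebra
    haveI := hf
    obtain ⟨g, hg, huniq⟩ := h.existsUnique_map (T := T) (ResidueField.map f)
      (fun r => ResidueField.map_residue f r)
    refine ⟨g.toRingHom, g.comp_algebraMap, fun g' hg' => ?_⟩
    let g'' : H →ₐ[R] T := { g' with commutes' := RingHom.congr_fun hg' }
    have : g'' = g := huniq g'' fun x => by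
      obtain ⟨r, hr⟩ := residue_surjective (ρ x)
      have h1 : x - algebraMap R H r ∈ maximalIdeal H := by
        rw [h.mem_maximal_iff, map_sub, ρ.commutes]
        exact sub_eq_zero.mpr hr.symm
      rw [← h.map_maximalIdeal fun r hr => algebraMap_residueField_eq_zero hr] at h1
      have h2 := Ideal.mem_map_of_mem g''.toRingHom h1
      rw [Ideal.map_map, AlgHom.toRingHom_eq_coe, AlgHom.comp_algebraMap, map_sub] at h2
      have hle : (maximalIdeal R).map (algebraMap R T) ≤ maximalIdeal T :=
        Ideal.map_le_iff_le_comap.mpr fun a ha => map_nonunit f a ha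
      have h3 : g'' x - g'' (algebraMap R H r) ∈ maximalIdeal T := hle h2
      rw [g''.commutes] at h3
      rw [← hr, ResidueField.map_residue]
      exact Ideal.Quotient.eq.mpr h3
    exact congrArg AlgHom.toRingHom this

/-- Existence of henselizations. -/
theorem exists_henselization (R : Type u) [CommRing R] [IsLocalRing R] :
    ∃ (S : Type u) (_ : CommRing S) (_ : IsLocalRing S) (_ : Algebra R S)
      (_ : IsLocalHom (algebraMap R S)), Hensel.IsHenselization R S := by
  obtain ⟨H, _, _, ρ, h⟩ := exists_isNbhdColim R (ResidueField R)
    (generated_of_fraction fun a => by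
      obtain ⟨r, rfl⟩ := residue_surjective a
      exact ⟨r, 1, by simp, by simp⟩)
  haveI := h.isLocalRing
  haveI := h.isLocalHom fun r hr => algebraMap_residueField_eq_zero hr
  exact ⟨H, _, inferInstance, _, inferInstance, isHenselization_of_colim h⟩

/-- Every henselization is the colimit of the étale neighbourhoods. -/
theorem exists_colim_of_isHenselization (R S : Type u) [CommRing R] [IsLocalRing R] [CommRing S]
    [IsLocalRing S] [Algebra R S] [IsLocalHom (algebraMap R S)] [hS : Hensel.IsHenselization R S] :
    ∃ ρ : S →ₐ[R] ResidueField R, IsNbhdColim R (ResidueField R) S ρ := by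
  obtain ⟨H, _, _, ρ, h⟩ := exists_isNbhdColim R (ResidueField R)
    (generated_of_fraction fun a => by
      obtain ⟨r, rfl⟩ := residue_surjective a
      exact ⟨r, 1, by simp, by simp⟩)
  haveI := h.isLocalRing
  haveI hl := h.isLocalHom fun r hr => algebraMap_residueField_eq_zero hr
  haveI := isHenselization_of_colim h
  haveI := h.henselian
  haveI := hS.henselian
  obtain ⟨g, hg, -⟩ := hS.universal H (algebraMap R H) hl
  obtain ⟨k, hk, -⟩ := Hensel.IsHenselization.universal (R := R) (S := H) S (algebraMap R S) ‹_›
  have h1 : k.comp g = RingHom.id S :=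
    (hS.universal S (algebraMap R S) ‹_›).unique (by rw [RingHom.comp_assoc, hg, hk]) rfl
  have h2 : g.comp k = RingHom.id H :=
    (Hensel.IsHenselization.universal (R := R) (S := H) H (algebraMap R H) hl).unique
      (by rw [RingHom.comp_assoc, hk, hg]) rfl
  let e : S ≃ₐ[R] H := AlgEquiv.ofRingEquiv (f := RingEquiv.ofRingHom g k h2 h1)
    (RingHom.congr_fun hg)
  exact ⟨ρ.comp e.toAlgHom, h.of_algEquiv e⟩

theorem isSepClosed_of_ringEquiv {k L : Type*} [Field k] [Field L] [IsSepClosed k] (e : k ≃+* L) :
    IsSepClosed L := ⟨fun p hp => by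
  have h := IsSepClosed.splits_of_separable (p.map (e.symm : L →+* k)) hp.map
  have h2 := h.map (e : k →+* L)
  rwa [Polynomial.map_map, show (e : k →+* L).comp (e.symm : L →+* k) = RingHom.id L from
    RingHom.ext e.apply_symm_apply, Polynomial.map_id] at h2⟩

section Strict

variable {K : Type u} [Field K] [Algebra R K] [Algebra (ResidueField R) K]
  [IsScalarTower R (ResidueField R) K]

theorem algebraMap_eq_zero_of_tower {r : R} (hr : r ∈ maximalIdeal R) : algebraMap R K r = 0 := by
  rw [IsScalarTower.algebraMap_apply R (ResidueField R) K, algebraMap_residueField_eq_zero hr,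
    map_zero]

/-- The colimit at a separable closure of the residue field is a strict henselization. -/
theorem isStrictHenselization_of_colim [IsSepClosure (ResidueField R) K] {H : Type u} [CommRing H]
    [Algebra R H] [IsLocalRing H] [IsLocalHom (algebraMap R H)] {ρ : H →ₐ[R] K}
    (h : IsNbhdColim R K H ρ) : Hensel.IsStrictHenselization R H := by
  obtain ⟨e, he⟩ := h.exists_residueEquiv
  have hcompat : ∀ a : ResidueField R,
      e (algebraMap (ResidueField R) (ResidueField H) a) = algebraMap (ResidueField R) K a := by
    intro a
    obtain ⟨r, rfl⟩ := residue_surjective a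
    show e (ResidueField.map (algebraMap R H) (residue R r)) = algebraMap (ResidueField R) K (residue R r)
    rw [ResidueField.map_residue, he, ρ.commutes, IsScalarTower.algebraMap_apply R (ResidueField R) K]
    rfl
  let e' : ResidueField H ≃ₐ[ResidueField R] K := AlgEquiv.ofRingEquiv (f := e.toRingEquiv) hcompat
  haveI : IsSepClosed K := IsSepClosure.sep_closed (ResidueField R)
  refine ⟨h.henselian, ⟨isSepClosed_of_ringEquiv e'.symm.toRingEquiv,
    AlgEquiv.Algebra.isSeparable e'.symm⟩, fun T _ _ f _ τ hτ => ?_⟩
  letI : Algebra R T := f.toAlgebra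
  obtain ⟨g, hg, huniq⟩ := h.existsUnique_map (T := T) (τ.comp e.symm.toAlgHom.toRingHom) fun r => by
    show τ (e.symm (algebraMap R K r)) = residue T (f r)
    rw [e.symm.commutes, ← ResidueField.map_residue f r, ← hτ]
    rfl
  refine ⟨g.toRingHom, ⟨g.comp_algebraMap, fun x => ?_⟩, fun g' ⟨hg'₁, hg'₂⟩ => ?_⟩
  · show residue T (g x) = τ (residue H x)
    rw [hg]
    show τ (e.symm (ρ x)) = _
    rw [← he, e.symm_apply_apply]
  · let g'' : H →ₐ[R] T := { g' with commutes' := RingHom.congr_fun hg'₁ }
    have : g'' = g := huniq g'' fun x => by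
      show residue T (g' x) = τ (e.symm (ρ x))
      rw [hg'₂, ← he, e.symm_apply_apply]
    exact congrArg AlgHom.toRingHom this

end Strict

/-- Existence of strict henselizations. -/
theorem exists_strictHenselization (R : Type u) [CommRing R] [IsLocalRing R] :
    ∃ (S : Type u) (_ : CommRing S) (_ : IsLocalRing S) (_ : Algebra R S)
      (_ : IsLocalHom (algebraMap R S)), Hensel.IsStrictHenselization R S := by
  let K := SeparableClosure (ResidueField R)
  letI : Algebra R K := ((algebraMap (ResidueField R) K).comp (residue R)).toAlgebra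
  haveI : IsScalarTower R (ResidueField R) K := .of_algebraMap_eq' rfl
  obtain ⟨H, _, _, ρ, h⟩ := exists_isNbhdColim R K generated_of_isSeparable
  haveI := h.isLocalRing
  haveI := h.isLocalHom fun r hr => algebraMap_eq_zero_of_tower hr
  exact ⟨H, _, inferInstance, _, inferInstance, isStrictHenselization_of_colim h⟩

/-- Every strict henselization is the colimit of the étale algebras with a point in its residue
field. -/
theorem exists_colim_of_isStrictHenselization (R S : Type u) [CommRing R] [IsLocalRing R]
    [CommRing S] [IsLocalRing S] [Algebra R S] [IsLocalHom (algebraMap R S)]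
    [hS : Hensel.IsStrictHenselization R S] :
    IsNbhdColim R (ResidueField S) S (IsScalarTower.toAlgHom R S (ResidueField S)) := by
  haveI := hS.henselian
  haveI : IsSepClosure (ResidueField R) (ResidueField S) := hS.isSepClosure
  obtain ⟨H, _, _, ρ, h⟩ := exists_isNbhdColim R (ResidueField S) generated_of_isSeparable
  haveI := h.isLocalRing
  haveI hl := h.isLocalHom fun r hr => algebraMap_eq_zero_of_tower (K := ResidueField S) hr
  haveI := isStrictHenselization_of_colim h
  haveI := h.henselian
  obtain ⟨e, he⟩ := h.exists_residueEquiv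
  have he' : ∀ r, e.symm (residue S (algebraMap R S r)) = residue H (algebraMap R H r) := fun r => by
    rw [e.symm_apply_eq, he, ρ.commutes]
    rfl
  obtain ⟨g, ⟨hg, hgres⟩, -⟩ := hS.universal H (algebraMap R H) e.symm.toAlgHom.toRingHom
    (RingHom.ext fun a => by
      obtain ⟨r, rfl⟩ := residue_surjective a
      show e.symm (ResidueField.map _ (residue R r)) = _
      rw [ResidueField.map_residue, ResidueField.map_residue, he'])
  obtain ⟨k, ⟨hk, hkres⟩, -⟩ := Hensel.IsStrictHenselization.universal (R := R) (S := H) S
    (algebraMap R S) e.toAlgHom.toRingHom (RingHom.ext fun a => by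
      obtain ⟨r, rfl⟩ := residue_surjective a
      show e (ResidueField.map _ (residue R r)) = _
      rw [ResidueField.map_residue, ResidueField.map_residue, ← he' r]
      exact e.apply_symm_apply _)
  have h1 : k.comp g = RingHom.id S :=
    (hS.universal S (algebraMap R S) (RingHom.id _) (by rw [RingHom.id_comp])).unique
      ⟨by rw [RingHom.comp_assoc, hg, hk], fun x => by
        show residue S (k (g x)) = residue S x
        rw [hkres, hgres]
        exact e.apply_symm_apply _⟩ ⟨rfl, fun _ => rfl⟩
  have h2 : g.comp k = RingHom.id H :=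
    (Hensel.IsStrictHenselization.universal (R := R) (S := H) H (algebraMap R H) (RingHom.id _)
      (by rw [RingHom.id_comp])).unique
      ⟨by rw [RingHom.comp_assoc, hk, hg], fun x => by
        show residue H (g (k x)) = residue H x
        rw [hgres, hkres]
        exact e.symm_apply_apply _⟩ ⟨rfl, fun _ => rfl⟩
  let ε : S ≃ₐ[R] H := AlgEquiv.ofRingEquiv (f := RingEquiv.ofRingHom g k h2 h1)
    (RingHom.congr_fun hg)
  have := h.of_algEquiv ε
  convert this using 1
  refine AlgHom.ext fun x => ?_
  show residue S x = ρ (g x)
  rw [← he, hgres]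
  exact (e.apply_symm_apply _).symm

end Groth.Agent.HenselLib
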