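import Groth.Agent.HenselLib.PairIndex
import Groth.Agent.HenselLib.TFAE
import Groth.Agent.HenselLib.Ops
import Groth.Agent.HenselLib.Unique
import Groth.Prelude.Def_Hens2
import Mathlib.RingTheory.Flat.EquationalCriterion

/-!
# The henselization of a pair as a colimit of étale neighbourhoods
-/

universe u v

open scoped TensorProduct

namespace Groth.Agent.HenselLib

variable {R : Type u} [CommRing R]

/-- Compatible maps on all étale algebras mapping to `H` glue to a map out of `H`, for any `H`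
which is a colimit of étale algebras. -/
theorem exists_descend_of_colim {H : Type u} [CommRing H] [Algebra R H]
    (hrep : ∀ x : H, ∃ (C : Type u) (_ : CommRing C) (_ : Algebra R C) (_ : Algebra.Etale R C)
      (τ : C →ₐ[R] H) (c : C), τ c = x)
    (hkill : ∀ (C : Type u) [CommRing C] [Algebra R C] [Algebra.Etale R C] (τ : C →ₐ[R] H) (c : C),
      τ c = 0 → ∃ (D : Type u) (_ : CommRing D) (_ : Algebra R D) (_ : Algebra.Etale R D)
        (φ : C →ₐ[R] D) (τ' : D →ₐ[R] H), τ'.comp φ = τ ∧ φ c = 0)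
    {B : Type v} [CommRing B] [Algebra R B]
    (P : ∀ (C : Type u) [CommRing C] [Algebra R C], (C →ₐ[R] H) → (C →ₐ[R] B) → Prop)
    (hex : ∀ (C : Type u) [CommRing C] [Algebra R C] [Algebra.Etale R C] (τ : C →ₐ[R] H),
      ∃ ψ, P C τ ψ)
    (huniq : ∀ (C : Type u) [CommRing C] [Algebra R C] [Algebra.Etale R C] (τ : C →ₐ[R] H) ψ ψ',
      P C τ ψ → P C τ ψ' → ψ = ψ')
    (hcomp : ∀ (C D : Type u) [CommRing C] [Algebra R C] [CommRing D] [Algebra R D]
      (φ : C →ₐ[R] D) (τ : D →ₐ[R] H) ψ, P D τ ψ → P C (τ.comp φ) (ψ.comp φ)) :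
    ∃ g : H →ₐ[R] B, ∀ (C : Type u) [CommRing C] [Algebra R C] [Algebra.Etale R C]
      (τ : C →ₐ[R] H) ψ, P C τ ψ → g.comp τ = ψ := by
  choose C i₁ i₂ i₃ τ c hc using hrep
  let := i₁
  let := i₂
  have := i₃
  choose ψ hψ using fun x : H => hex (C x) (τ x)
  have key : ∀ (D : Type u) [CommRing D] [Algebra R D] [Algebra.Etale R D] (τ' : D →ₐ[R] H)
      (ψ' : D →ₐ[R] B), P D τ' ψ' → ∀ d : D, ψ (τ' d) (c (τ' d)) = ψ' d := by
    intro D _ _ _ τ' ψ' hP d
    set x := τ' d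
    have : Algebra.Etale R (C x ⊗[R] D) := Algebra.Etale.comp R (C x) (C x ⊗[R] D)
    obtain ⟨E, _, _, _, φ, τE, hτE, hφ⟩ := hkill (C x ⊗[R] D)
      (Algebra.TensorProduct.productMap (τ x) τ') (c x ⊗ₜ 1 - 1 ⊗ₜ d)
      (by simp [hc, x])
    obtain ⟨ψE, hψE⟩ := hex E τE
    have hl : τE.comp (φ.comp Algebra.TensorProduct.includeLeft) = τ x := by
      rw [← AlgHom.comp_assoc, hτE, Algebra.TensorProduct.productMap_left]
    have hr : τE.comp (φ.comp Algebra.TensorProduct.includeRight) = τ' := by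
      rw [← AlgHom.comp_assoc, hτE, Algebra.TensorProduct.productMap_right]
    have e1 : ψ x = ψE.comp (φ.comp Algebra.TensorProduct.includeLeft) :=
      huniq _ (τ x) _ _ (hψ x) (hl ▸ hcomp _ _ _ τE ψE hψE)
    have e2 : ψ' = ψE.comp (φ.comp Algebra.TensorProduct.includeRight) :=
      huniq _ τ' _ _ hP (hr ▸ hcomp _ _ _ τE ψE hψE)
    rw [e1, e2]
    show ψE (φ (c x ⊗ₜ 1)) = ψE (φ (1 ⊗ₜ d))
    rw [show φ (c x ⊗ₜ 1) = φ (1 ⊗ₜ d) from sub_eq_zero.mp ((map_sub φ _ _).symm.trans hφ)]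
  let g : H → B := fun x => ψ x (c x)
  have hbin : ∀ x y : H, ∃ (D : Type u) (_ : CommRing D) (_ : Algebra R D) (_ : Algebra.Etale R D)
      (τ' : D →ₐ[R] H) (ψ' : D →ₐ[R] B) (a b : D), τ' a = x ∧ τ' b = y ∧ ∀ d, g (τ' d) = ψ' d := by
    intro x y
    classical
    obtain ⟨D, _, _, _, τ', hτ'⟩ := exists_common_rep (R := R)
      (fun z => ⟨C z, i₁ z, i₂ z, i₃ z, τ z, c z, hc z⟩) ({x, y} : Finset H)
    obtain ⟨a, ha⟩ := hτ' x (Finset.mem_insert_self _ _)
    obtain ⟨b, hb⟩ := hτ' y (Finset.mem_insert_of_mem (Finset.mem_singleton_self _))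
    obtain ⟨ψ', hψ'⟩ := hex D τ'
    exact ⟨D, _, _, inferInstance, τ', ψ', a, b, ha, hb, key D τ' ψ' hψ'⟩
  have halg : ∀ r, g (algebraMap R H r) = algebraMap R B r := fun r => by
    obtain ⟨D, _, _, _, τ', ψ', -, -, -, -, hg⟩ := hbin 0 0
    rw [← τ'.commutes r, hg, ψ'.commutes]
  refine ⟨{ toFun := g
            map_one' := by simpa using halg 1
            map_mul' := fun x y => ?_
            map_zero' := by simpa using halg 0
            map_add' := fun x y => ?_
            commutes' := halg }, fun D _ _ _ τ' ψ' hP => AlgHom.ext fun d => key D τ' ψ' hP d⟩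
  · obtain ⟨D, _, _, _, τ', ψ', a, b, rfl, rfl, hg⟩ := hbin x y
    show g (τ' a * τ' b) = g (τ' a) * g (τ' b)
    rw [← map_mul, hg, hg, hg, map_mul]
  · obtain ⟨D, _, _, _, τ', ψ', a, b, rfl, rfl, hg⟩ := hbin x y
    show g (τ' a + τ' b) = g (τ' a) + g (τ' b)
    rw [← map_add, hg, hg, hg, map_add]

/-- A colimit of étale algebras is flat. -/
theorem flat_of_colim {H : Type u} [CommRing H] [Algebra R H]
    (hrep : ∀ x : H, ∃ (C : Type u) (_ : CommRing C) (_ : Algebra R C) (_ : Algebra.Etale R C)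
      (τ : C →ₐ[R] H) (c : C), τ c = x)
    (hkill : ∀ (C : Type u) [CommRing C] [Algebra R C] [Algebra.Etale R C] (τ : C →ₐ[R] H) (c : C),
      τ c = 0 → ∃ (D : Type u) (_ : CommRing D) (_ : Algebra R D) (_ : Algebra.Etale R D)
        (φ : C →ₐ[R] D) (τ' : D →ₐ[R] H), τ'.comp φ = τ ∧ φ c = 0) :
    Module.Flat R H := by
  classical
  refine Module.Flat.iff_forall_isTrivialRelation.mpr fun {l f x} hrel => ?_
  obtain ⟨C, _, _, _, τ, hτ⟩ := exists_common_rep (R := R) hrep (Finset.univ.image x)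
  choose a ha using fun i => hτ (x i) (Finset.mem_image_of_mem x (Finset.mem_univ i))
  replace ha : ∀ i, τ (a i) = x i := ha
  obtain ⟨D, _, _, _, φ, τ', hφτ, hφ⟩ := hkill C τ (∑ i, f i • a i)
    (by rw [map_sum, ← hrel]; exact Finset.sum_congr rfl fun i _ => by rw [map_smul, ha])
  rw [map_sum] at hφ
  simp only [map_smul] at hφ
  obtain ⟨k, b, y, hy, hb⟩ := Module.Flat.isTrivialRelation_of_sum_smul_eq_zero hφ
  refine ⟨k, b, fun j => τ' (y j), fun i => ?_, hb⟩
  have hyi : φ (a i) = ∑ j, b i j • y j := hy i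
  rw [← ha i, ← hφτ, AlgHom.comp_apply, hyi, map_sum]
  simp only [map_smul]

variable {I : Ideal R}

/-- An étale algebra with an `R ⧸ I`-point has a basic open neighbourhood of the point whose
reduction modulo `I` is `R ⧸ I`. -/
theorem exists_neat {C : Type u} [CommRing C] [Algebra R C] [Algebra.Etale R C]
    (σ : C →ₐ[R] R ⧸ I) :
    ∃ g : C, σ g = 1 ∧ ∀ x, σ x = 0 → g * x ∈ I.map (algebraMap R C) := by
  let J := I.map (algebraMap R C)
  have hJ : ∀ y ∈ J, σ y = 0 := fun y hy => by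
    have h1 := Ideal.mem_map_of_mem σ.toRingHom hy
    rw [Ideal.map_map, AlgHom.toRingHom_eq_coe, AlgHom.comp_algebraMap, Ideal.Quotient.algebraMap_eq,
      Ideal.map_quotient_self] at h1
    exact h1
  let σb : C ⧸ J →ₐ[R] R ⧸ I := Ideal.Quotient.liftₐ J σ hJ
  let lft : R ⧸ I →ₐ[R] C ⧸ J :=
    Ideal.Quotient.liftₐ I (Algebra.ofId R (C ⧸ J)) fun r hr => by
      show algebraMap R (C ⧸ J) r = 0
      rw [IsScalarTower.algebraMap_apply R C (C ⧸ J), Ideal.Quotient.algebraMap_eq,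
        Ideal.Quotient.eq_zero_iff_mem]
      exact Ideal.mem_map_of_mem _ hr
  obtain ⟨g, hg, hgx⟩ := exists_mul_eq_of_unramified σb (φ := Ideal.Quotient.mkₐ R J)
    (ψ := lft.comp σ) (AlgHom.ext fun x => by
      obtain ⟨r, hr⟩ := Ideal.Quotient.mk_surjective (σ x)
      show σ x = σb (lft (σ x))
      rw [← hr]
      exact (σ.commutes r).symm.trans rfl)
  obtain ⟨g, rfl⟩ := Ideal.Quotient.mk_surjective g
  refine ⟨g, hg, fun x hx => ?_⟩
  rw [← Ideal.Quotient.eq_zero_iff_mem]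
  refine (hgx x).trans ?_
  show _ * lft (σ x) = 0
  rw [hx, map_zero, mul_zero]

/-- `H`, with `ρ : H → R ⧸ I`, is the colimit of the étale algebras with an `R ⧸ I`-point. -/
structure IsPairColim (R : Type u) [CommRing R] (I : Ideal R) (H : Type u) [CommRing H] [Algebra R H]
    (ρ : H →ₐ[R] R ⧸ I) : Prop where
  reflectsUnit : ∀ x, IsUnit (ρ x) → IsUnit x
  henselian : HenselianRing H (RingHom.ker ρ)
  exists_rep : ∀ x : H, ∃ (C : Type u) (_ : CommRing C) (_ : Algebra R C) (_ : Algebra.Etale R C)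
    (τ : C →ₐ[R] H) (c : C), τ c = x
  exists_kill : ∀ (C : Type u) [CommRing C] [Algebra R C] [Algebra.Etale R C] (τ : C →ₐ[R] H) (c : C),
    τ c = 0 → ∃ (D : Type u) (_ : CommRing D) (_ : Algebra R D) (_ : Algebra.Etale R D)
      (φ : C →ₐ[R] D) (τ' : D →ₐ[R] H), τ'.comp φ = τ ∧ φ c = 0

variable (R I)

/-- Existence. -/
theorem exists_isPairColim :
    ∃ (H : Type u) (_ : CommRing H) (_ : Algebra R H) (ρ : H →ₐ[R] R ⧸ I), IsPairColim R I H ρ := by
  refine ⟨PairIdx.Colim R (R ⧸ I), inferInstance, inferInstance, PairIdx.ρC,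
    ⟨PairIdx.reflectsUnit_ρC, ⟨fun x hx => ?_, fun f hf a₀ h₁ h₂ => ?_⟩, PairIdx.exists_rep,
      PairIdx.exists_kill⟩⟩
  · rw [Ideal.mem_jacobson_bot]
    intro y
    refine PairIdx.reflectsUnit_ρC _ ?_
    rw [map_add, map_mul, show PairIdx.ρC x = 0 from hx, zero_mul, zero_add, map_one]
    exact isUnit_one
  · obtain ⟨b, hb, hba⟩ := PairIdx.exists_root hf a₀ h₁ (h₂.map (Ideal.Quotient.lift _
      (PairIdx.ρC (R := R) (K := R ⧸ I)).toRingHom fun _ hx => hx))
    exact ⟨b, hb, by rw [RingHom.mem_ker, map_sub, hba, sub_self]⟩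

variable {R I} {H : Type u} [CommRing H] [Algebra R H] {ρ : H →ₐ[R] R ⧸ I}

namespace IsPairColim

variable (h : IsPairColim R I H ρ)
include h

theorem ker_eq : RingHom.ker ρ = I.map (algebraMap R H) := by
  refine le_antisymm (fun x hx => ?_) (Ideal.map_le_iff_le_comap.mpr fun r hr => ?_)
  · obtain ⟨C, _, _, _, τ, c, rfl⟩ := h.exists_rep x
    obtain ⟨g, hg, hgc⟩ := exists_neat (ρ.comp τ)
    have h1 := Ideal.mem_map_of_mem τ.toRingHom (hgc c hx)
    rw [Ideal.map_map, AlgHom.toRingHom_eq_coe, AlgHom.comp_algebraMap, RingHom.coe_coe,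
      map_mul] at h1
    exact (Ideal.unit_mul_mem_iff_mem _ (h.reflectsUnit (τ g) (by
      rw [show ρ (τ g) = 1 from hg]; exact isUnit_one))).mp h1
  · show ρ (algebraMap R H r) = 0
    rw [ρ.commutes, Ideal.Quotient.algebraMap_eq, Ideal.Quotient.eq_zero_iff_mem]
    exact hr

theorem surjective : Function.Surjective ρ := fun y => by
  obtain ⟨r, rfl⟩ := Ideal.Quotient.mk_surjective y
  exact ⟨algebraMap R H r, ρ.commutes r⟩

theorem existsUnique_lift {C : Type u} [CommRing C] [Algebra R C] [Algebra.Etale R C]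
    (σ : C →ₐ[R] R ⧸ I) : ∃! τ : C →ₐ[R] H, ρ.comp τ = σ := by
  have := h.henselian
  obtain ⟨τ, hτ, -⟩ := HenselLib.existsUnique_lift (RingHom.ker ρ)
    ((Ideal.quotientKerAlgEquivOfSurjective h.surjective).symm.toAlgHom.comp σ)
  have h1 : ρ.comp τ = σ := AlgHom.ext fun c => by
    have h2 := congrArg (Ideal.quotientKerAlgEquivOfSurjective h.surjective) (AlgHom.congr_fun hτ c)
    exact h2.trans (AlgEquiv.apply_symm_apply _ _)
  exact ⟨τ, h1, fun τ' hτ' => algHom_ext_of_reflectsUnit ρ h.reflectsUnit (hτ'.trans h1.symm)⟩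

theorem flat : Module.Flat R H := flat_of_colim h.exists_rep h.exists_kill

theorem of_algEquiv {H' : Type u} [CommRing H'] [Algebra R H'] (e : H' ≃ₐ[R] H)
    [hH : HenselianRing H' (RingHom.ker (ρ.comp e.toAlgHom))] :
    IsPairColim R I H' (ρ.comp e.toAlgHom) where
  reflectsUnit x hx := by
    have := (h.reflectsUnit _ hx).map e.symm
    simpa using this
  henselian := hH
  exists_rep x := by
    obtain ⟨C, _, _, _, τ, c, hc⟩ := h.exists_rep (e x)
    exact ⟨C, _, _, inferInstance, e.symm.toAlgHom.comp τ, c,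
      (congrArg e.symm hc).trans (e.symm_apply_apply x)⟩
  exists_kill C _ _ _ τ c hc := by
    obtain ⟨D, _, _, _, φ, τ', h1, h2⟩ := h.exists_kill C (e.toAlgHom.comp τ) c
      (by show e (τ c) = 0; rw [hc, map_zero])
    refine ⟨D, _, _, inferInstance, φ, e.symm.toAlgHom.comp τ', ?_, h2⟩
    rw [AlgHom.comp_assoc, h1]
    exact AlgHom.ext fun z => e.symm_apply_apply (τ z)

/-- The colimit is a henselization of the pair. -/
theorem isPairHenselization : Hens2.IsPairHenselization R I H := by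
  refine ⟨h.ker_eq ▸ h.henselian, fun C _ J f hJ hIJ => ?_⟩
  have := hJ
  let _ : Algebra R C := f.toAlgebra
  let f' : R ⧸ I →ₐ[R] C ⧸ J :=
    Ideal.Quotient.liftₐ I (Algebra.ofId R (C ⧸ J)) fun r hr =>
      Ideal.Quotient.eq_zero_iff_mem.mpr (hIJ (Ideal.mem_map_of_mem f hr))
  obtain ⟨g, hg⟩ := exists_descend_of_colim h.exists_rep h.exists_kill (B := C)
    (fun E _ _ τ ψ => (Ideal.Quotient.mkₐ R J).comp ψ = f'.comp (ρ.comp τ))
    (fun E _ _ _ τ => (HenselLib.existsUnique_lift J _).exists)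
    (fun E _ _ _ τ ψ ψ' h1 h2 => (HenselLib.existsUnique_lift J _).unique h1 h2)
    (fun E D _ _ _ _ φ τ ψ h1 => by
      rw [← AlgHom.comp_assoc, h1, AlgHom.comp_assoc, AlgHom.comp_assoc])
  refine ⟨g.toRingHom, g.comp_algebraMap, fun g' hg' => RingHom.ext fun x => ?_⟩
  let g'' : H →ₐ[R] C := { g' with commutes' := RingHom.congr_fun hg' }
  have hres : ∀ y, Ideal.Quotient.mk J (g'' y) = f' (ρ y) := fun y => by
    obtain ⟨r, hr⟩ := Ideal.Quotient.mk_surjective (ρ y)
    have hy : y - algebraMap R H r ∈ I.map (algebraMap R H) := by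
      rw [← h.ker_eq, RingHom.mem_ker, map_sub, ρ.commutes, ← hr]
      exact sub_self _
    have h2 := Ideal.mem_map_of_mem g''.toRingHom hy
    rw [Ideal.map_map, AlgHom.toRingHom_eq_coe, AlgHom.comp_algebraMap, RingHom.coe_coe, map_sub,
      g''.commutes] at h2
    rw [← hr]
    exact Ideal.Quotient.eq.mpr (hIJ h2)
  obtain ⟨E, _, _, _, τ, c, rfl⟩ := h.exists_rep x
  exact (AlgHom.congr_fun (hg E τ (g''.comp τ) (AlgHom.ext fun d => hres (τ d))) c).symm

end IsPairColim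

end Groth.Agent.HenselLib
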