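import Groth.Agent.HenselLib.PairColim

/-!
# Henselizations of pairs: uniqueness, quotients
-/

universe u

namespace Groth.Agent.HenselLib

variable {A : Type u} [CommRing A] {I : Ideal A}

theorem henselianRing_of_ringEquiv {B C : Type u} [CommRing B] [CommRing C] (e : B ≃+* C)
    {J : Ideal B} [H : HenselianRing B J] {K : Ideal C} (hK : J.map (e : B →+* C) = K) :
    HenselianRing C K := by
  subst hK
  let _ : Algebra B C := (e : B →+* C).toAlgebra
  have : Algebra.IsIntegral B C := ⟨fun x => by
    obtain ⟨b, rfl⟩ := e.surjective x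
    exact isIntegral_algebraMap⟩
  exact henselianRing_of_isIntegral J C

theorem exists_pairHenselization (A : Type u) [CommRing A] (I : Ideal A) :
    ∃ (B : Type u) (_ : CommRing B) (_ : Algebra A B), Hens2.IsPairHenselization A I B := by
  obtain ⟨B, _, _, ρ, h⟩ := exists_isPairColim A I
  exact ⟨B, _, _, h.isPairHenselization⟩

variable {B : Type u} [CommRing B] [Algebra A B]

theorem pairHenselization_hom_ext (hB : Hens2.IsPairHenselization A I B) {C : Type u} [CommRing C]
    (J : Ideal C) [hJ : HenselianRing C J] {g g' : B →+* C}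
    (hIJ : I.map (g.comp (algebraMap A B)) ≤ J)
    (h : g'.comp (algebraMap A B) = g.comp (algebraMap A B)) : g' = g :=
  (hB.2 C J _ hJ hIJ).unique h rfl

/-- Uniqueness. -/
theorem exists_algEquiv_of_isPairHenselization (hB : Hens2.IsPairHenselization A I B) {B' : Type u}
    [CommRing B'] [Algebra A B'] (hB' : Hens2.IsPairHenselization A I B') : Nonempty (B ≃ₐ[A] B') := by
  obtain ⟨g, hg, -⟩ := hB.2 B' _ (algebraMap A B') hB'.1 le_rfl
  obtain ⟨k, hk, -⟩ := hB'.2 B _ (algebraMap A B) hB.1 le_rfl
  have h1 : k.comp g = RingHom.id B :=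
    (hB.2 B _ (algebraMap A B) hB.1 le_rfl).unique (by rw [RingHom.comp_assoc, hg, hk]) rfl
  have h2 : g.comp k = RingHom.id B' :=
    (hB'.2 B' _ (algebraMap A B') hB'.1 le_rfl).unique (by rw [RingHom.comp_assoc, hk, hg]) rfl
  exact ⟨AlgEquiv.ofRingEquiv (f := RingEquiv.ofRingHom g k h2 h1) (RingHom.congr_fun hg)⟩

/-- Every henselization of a pair is the colimit of the étale neighbourhoods. -/
theorem exists_colim_of_isPairHenselization (hB : Hens2.IsPairHenselization A I B) :
    ∃ ρ : B →ₐ[A] A ⧸ I, IsPairColim A I B ρ := by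
  obtain ⟨H, _, _, ρ, h⟩ := exists_isPairColim A I
  obtain ⟨e⟩ := exists_algEquiv_of_isPairHenselization hB h.isPairHenselization
  have hker : RingHom.ker (ρ.comp e.toAlgHom) = I.map (algebraMap A B) := by
    ext x
    show ρ (e x) = 0 ↔ _
    rw [← RingHom.mem_ker, h.ker_eq]
    constructor
    · intro hx
      have := Ideal.mem_map_of_mem e.symm.toAlgHom.toRingHom hx
      rw [Ideal.map_map, AlgHom.toRingHom_eq_coe, AlgHom.comp_algebraMap] at this
      simpa using this
    · intro hx
      have := Ideal.mem_map_of_mem e.toAlgHom.toRingHom hx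
      rw [Ideal.map_map, AlgHom.toRingHom_eq_coe, AlgHom.comp_algebraMap] at this
      exact this
  have : HenselianRing B (RingHom.ker (ρ.comp e.toAlgHom)) := hker ▸ hB.1
  exact ⟨_, h.of_algEquiv e⟩

theorem flat_of_isPairHenselization (hB : Hens2.IsPairHenselization A I B) : Module.Flat A B := by
  obtain ⟨ρ, h⟩ := exists_colim_of_isPairHenselization hB
  exact h.flat

theorem le_jacobson_of_isPairHenselization (hB : Hens2.IsPairHenselization A I B) :
    I.map (algebraMap A B) ≤ Ideal.jacobson ⊥ := hB.1.jac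

theorem quotient_pow_bijective (hB : Hens2.IsPairHenselization A I B) (n : ℕ) :
    Function.Bijective
      (Ideal.quotientMap ((I ^ n).map (algebraMap A B)) (algebraMap A B) Ideal.le_comap_map) := by
  set q := Ideal.quotientMap ((I ^ n).map (algebraMap A B)) (algebraMap A B) Ideal.le_comap_map
  have hnil : ∀ x ∈ I.map (Ideal.Quotient.mk (I ^ n)), IsNilpotent x := fun x hx => by
    obtain ⟨a, ha, rfl⟩ := (Ideal.mem_map_iff_of_surjective _ Ideal.Quotient.mk_surjective).mp hx
    exact ⟨n, by rw [← map_pow, Ideal.Quotient.eq_zero_iff_mem]; exact Ideal.pow_mem_pow ha n⟩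
  obtain ⟨g, hg, -⟩ := hB.2 (A ⧸ I ^ n) _ (Ideal.Quotient.mk _) (henselianRing_of_nil hnil) le_rfl
  have hker : ∀ y ∈ (I ^ n).map (algebraMap A B), g y = 0 := fun y hy => by
    have h1 := Ideal.mem_map_of_mem g hy
    rw [Ideal.map_map, hg, Ideal.map_quotient_self] at h1
    exact h1
  refine ⟨Function.LeftInverse.injective
    (g := Ideal.Quotient.lift ((I ^ n).map (algebraMap A B)) g hker) fun x => ?_, fun y => ?_⟩
  · obtain ⟨a, rfl⟩ := Ideal.Quotient.mk_surjective x
    exact RingHom.congr_fun hg a
  · obtain ⟨b, rfl⟩ := Ideal.Quotient.mk_surjective y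
    refine ⟨g b, ?_⟩
    have := hB.1
    have h2 := henselianRing_quotient ((I ^ n).map (algebraMap A B)) (I.map (algebraMap A B))
    have := pairHenselization_hom_ext hB (hJ := h2) _
      (g := Ideal.Quotient.mk ((I ^ n).map (algebraMap A B)))
      (g' := q.comp g) (by rw [← Ideal.map_map]) (by
        rw [RingHom.comp_assoc, hg]
        rfl)
    exact RingHom.congr_fun this b

theorem isPairHenselization_of_algEquiv (hB : Hens2.IsPairHenselization A I B) {B' : Type u}
    [CommRing B'] [Algebra A B'] (e : B ≃ₐ[A] B') : Hens2.IsPairHenselization A I B' := by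
  have := hB.1
  refine ⟨henselianRing_of_ringEquiv e.toRingEquiv (J := I.map (algebraMap A B)) ?_,
    fun C _ J f hJ hIJ => ?_⟩
  · rw [Ideal.map_map]
    exact congrArg (fun f => I.map f) e.toAlgHom.comp_algebraMap
  · obtain ⟨g, hg, hgu⟩ := hB.2 C J f hJ hIJ
    refine ⟨g.comp e.symm.toAlgHom.toRingHom, RingHom.ext fun a => ?_, fun g' hg' => ?_⟩
    · show g (e.symm (algebraMap A B' a)) = f a
      rw [e.symm.commutes]
      exact RingHom.congr_fun hg a
    · rw [← hgu (g'.comp e.toAlgHom.toRingHom) (RingHom.ext fun a => ?_)]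
      · exact RingHom.ext fun x => (congrArg g' (e.apply_symm_apply x)).symm
      · show g' (e (algebraMap A B a)) = f a
        rw [e.commutes]
        exact RingHom.congr_fun hg' a

end Groth.Agent.HenselLib
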