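import Mathlib.RingTheory.Henselian
import Mathlib.RingTheory.Idempotents
import Mathlib.RingTheory.IntegralClosure.Algebra.Ideal
import Mathlib.RingTheory.Ideal.GoingUp
import Mathlib.RingTheory.Polynomial.Quotient
import Mathlib.RingTheory.AdjoinRoot
import Mathlib.LinearAlgebra.Matrix.Charpoly.LinearMap
import Mathlib.RingTheory.Nakayama

/-!
# Henselian pairs: definitions of the lifting properties and elementary lemmas

`GabberHensel A I` : monic `χ ≡ T^N (T-1)` mod `I` has a root `≡ 1`.
`LiftsIdem A I` : for monic `p ≡ (T²-T)^m` mod `I` there is a `u` with `p ∣ u²-u`, `u(0) ≡ 0`,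
`u(1) ≡ 1`.
`LiftsRankOne A I` : rank one idempotents of finite algebras lift.
`LiftsEtale A I` : `A/I`-points of étale algebras lift.
-/

universe u v w

open Polynomial

namespace Groth.Agent.HenselLib

variable {A : Type u} [CommRing A] {I : Ideal A}

/-- Gabber's criterion. -/
def GabberHensel (A : Type u) [CommRing A] (I : Ideal A) : Prop :=
  ∀ (N : ℕ) (χ : A[X]), χ.Monic →
    χ.map (Ideal.Quotient.mk I) = ((X : A[X]) ^ N * (X - 1)).map (Ideal.Quotient.mk I) →
      ∃ r : A, χ.IsRoot r ∧ r - 1 ∈ I

/-- Lifting of the standard idempotent of `A[T]/(p)`, `p ≡ (T²-T)^m`. -/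
def LiftsIdem (A : Type u) [CommRing A] (I : Ideal A) : Prop :=
  ∀ (m : ℕ) (p : A[X]), p.Monic →
    p.map (Ideal.Quotient.mk I) = (((X : A[X]) ^ 2 - X) ^ m).map (Ideal.Quotient.mk I) →
      ∃ u : A[X], p ∣ u ^ 2 - u ∧ u.eval 0 ∈ I ∧ u.eval 1 - 1 ∈ I

/-- Lifting of rank one idempotents. -/
def LiftsRankOne (A : Type u) [CommRing A] (I : Ideal A) : Prop :=
  ∀ (E : Type u) [CommRing E] [Algebra A E] [Module.Finite A E] (x : E),
    x ^ 2 - x ∈ I.map (algebraMap A E) →
    (∀ y : E, ∃ a : A, x * y - algebraMap A E a * x ∈ I.map (algebraMap A E)) →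
      ∃ e : E, IsIdempotentElem e ∧ e - x ∈ I.map (algebraMap A E)

theorem sub_mul_mem {R : Type*} [CommRing R] {J : Ideal R} {a b : R} (h : a - b ∈ J) (c : R) :
    a * c - b * c ∈ J := by
  rw [← sub_mul]; exact J.mul_mem_right c h

/-- Two idempotents congruent modulo the Jacobson radical are equal. -/
theorem idem_eq_of_sub_mem {R : Type*} [CommRing R] {J : Ideal R} (hJ : J ≤ Ideal.jacobson ⊥)
    {e e' : R} (he : IsIdempotentElem e) (he' : IsIdempotentElem e') (h : e - e' ∈ J) : e = e' := by
  have h1 : e * e = e := he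
  have h2 : e' * e' = e' := he'
  have h3 : (e - e') * (-(e - e') * (e - e') + 1) = 0 := by
    linear_combination (-(e + 1) + 3 * e') * h1 + ((e' + 1) - 3 * e) * h2
  have hu : IsUnit (-(e - e') * (e - e') + 1) := by
    have := Ideal.mem_jacobson_bot.mp (hJ h) (-(e - e'))
    rwa [mul_comm]  at this
  exact sub_eq_zero.mp (hu.mul_left_eq_zero.mp h3)

/-- An idempotent in the Jacobson radical vanishes. -/
theorem idem_eq_zero_of_mem {R : Type*} [CommRing R] {J : Ideal R} (hJ : J ≤ Ideal.jacobson ⊥)
    {e : R} (he : IsIdempotentElem e) (h : e ∈ J) : e = 0 :=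
  idem_eq_of_sub_mem hJ he IsIdempotentElem.zero (by rwa [sub_zero])

/-- The Jacobson radical condition passes to integral algebras. -/
theorem map_le_jacobson {B : Type v} [CommRing B] [Algebra A B] [Algebra.IsIntegral A B]
    (hI : I ≤ Ideal.jacobson ⊥) : I.map (algebraMap A B) ≤ Ideal.jacobson ⊥ := by
  refine le_sInf fun M hM => Ideal.map_le_iff_le_comap.mpr ?_
  haveI : M.IsMaximal := hM.2
  exact hI.trans (sInf_le ⟨bot_le, Ideal.isMaximal_comap_of_isIntegral_of_isMaximal M⟩)

/-- Units modulo an ideal in the Jacobson radical. -/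
theorem isUnit_of_sub_mem (hI : I ≤ Ideal.jacobson ⊥) {a b : A} (hb : IsUnit b)
    (h : a - b ∈ I) : IsUnit a := by
  haveI := isLocalHom_of_le_jacobson_bot I hI
  refine IsUnit.of_map (Ideal.Quotient.mk I) a ?_
  rw [Ideal.Quotient.eq.mpr h]
  exact hb.map _

theorem isUnit_of_sub_one_mem (hI : I ≤ Ideal.jacobson ⊥) {a : A} (h : a - 1 ∈ I) : IsUnit a :=
  isUnit_of_sub_mem hI isUnit_one h

/-- Polynomials congruent mod `I` take congruent values. -/
theorem eval_sub_eval_mem {B : Type v} [CommRing B] [Algebra A B] {p q : A[X]}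
    (h : p.map (Ideal.Quotient.mk I) = q.map (Ideal.Quotient.mk I)) (x : B) :
    aeval x p - aeval x q ∈ I.map (algebraMap A B) := by
  rw [← map_sub, aeval_eq_sum_range]
  refine Ideal.sum_mem _ fun i _ => ?_
  rw [Algebra.smul_def]
  refine Ideal.mul_mem_right _ _ (Ideal.mem_map_of_mem _ ?_)
  rw [coeff_sub, ← Ideal.Quotient.eq, ← coeff_map, ← coeff_map, h]

/-- The value of a polynomial at an element which is idempotent mod `J`. -/
theorem eval_idem_sub_mem {B : Type v} [CommRing B] [Algebra A B] {J : Ideal B} {x : B}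
    (hx : x ^ 2 - x ∈ J) (u : A[X]) :
    aeval x u - (algebraMap A B (u.eval 0) * (1 - x) + algebraMap A B (u.eval 1) * x) ∈ J := by
  induction u using Polynomial.induction_on with
  | C a => simp [← mul_add]
  | add p q hp hq =>
    have := J.add_mem hp hq
    simp only [map_add, eval_add] at *
    convert this using 1
    ring
  | monomial k a _ =>
    simp only [map_mul, map_pow, aeval_X, aeval_C, eval_mul, eval_C, eval_pow, eval_X, one_pow,
      mul_one, ne_eq, add_eq_zero, one_ne_zero, and_false, not_false_eq_true, zero_pow, mul_zero,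
      map_zero, zero_mul, zero_add]
    rw [← mul_sub]
    refine J.mul_mem_left _ ?_
    clear * - hx
    induction k with
    | zero => simp
    | succ k ih =>
      rw [show x ^ (k + 1 + 1) - x = x * (x ^ (k + 1) - x) + (x ^ 2 - x) by ring]
      exact J.add_mem (J.mul_mem_left _ ih) hx

theorem GabberHensel.of_henselian [H : HenselianRing A I] : GabberHensel A I := by
  intro N χ hm h
  refine H.is_henselian χ hm 1 ?_ ?_
  · have h1 := eval_sub_eval_mem (I := I) (B := A) h 1
    simpa [Ideal.map_id] using h1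
  · have h1 : (χ.derivative).map (Ideal.Quotient.mk I) =
        (derivative ((X : A[X]) ^ N * (X - 1))).map (Ideal.Quotient.mk I) := by
      rw [← derivative_map, ← derivative_map, h]
    have h2 := eval_sub_eval_mem (I := I) (B := A) h1 1
    simp only [derivative_mul, derivative_sub, derivative_one, derivative_X, map_add, map_mul,
      map_sub, map_pow, aeval_X, map_one, sub_zero, mul_one, one_pow, sub_self, mul_zero,
      zero_add, Algebra.algebraMap_self, Ideal.map_id, coe_aeval_eq_eval] at h2
    rw [Ideal.Quotient.eq.mpr h2, map_one]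
    exact isUnit_one

/-- Gabber's criterion lifts rank one idempotents. -/
theorem GabberHensel.liftsRankOne (hG : GabberHensel A I) (hI : I ≤ Ideal.jacobson ⊥) :
    LiftsRankOne A I := by
  intro E _ _ _ x hx hy
  classical
  set J := I.map (algebraMap A E)
  obtain ⟨s, g, hg⟩ := Module.Finite.exists_fin (R := A) (M := E)
  set b : Fin (s + 1) → E := Fin.cons x fun j => g j - x * g j
  have hJsmul : (J.restrictScalars A) = I • (⊤ : Submodule A E) := (Ideal.smul_top_eq_map I).symm
  have hb : Submodule.span A (Set.range b) = ⊤ := by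
    refine top_unique ?_
    refine Submodule.le_of_le_smul_of_le_jacobson_bot Module.Finite.fg_top hI ?_
    rw [← hJsmul, ← hg, Submodule.span_le]
    rintro _ ⟨j, rfl⟩
    obtain ⟨a, ha⟩ := hy (g j)
    refine Submodule.mem_sup.mpr ⟨b j.succ + a • b 0, ?_, x * g j - algebraMap A E a * x, ha, ?_⟩
    · exact add_mem (Submodule.subset_span ⟨_, rfl⟩)
        (Submodule.smul_mem _ _ (Submodule.subset_span ⟨_, rfl⟩))
    · simp only [b, Fin.cons_succ, Fin.cons_zero, Algebra.smul_def]
      ring
  have hcol : ∀ i, ∃ c : Fin (s + 1) → A, (∀ j, c j ∈ I) ∧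
      ∑ j, c j • b j = x * b i - (if i = 0 then b 0 else 0) := by
    intro i
    have hmem : x * b i - (if i = 0 then b 0 else 0) ∈ I • Submodule.span A (Set.range b) := by
      rw [hb, ← hJsmul, Submodule.restrictScalars_mem]
      refine Fin.cases ?_ (fun j => ?_) i
      · simpa [b, sq] using hx
      · have e : x * (g j - x * g j) = -(g j) * (x ^ 2 - x) := by ring
        simp only [Fin.succ_ne_zero, if_false, sub_zero, b, Fin.cons_succ, e]
        exact J.mul_mem_left _ hx
    obtain ⟨c, hc, hc'⟩ := (Submodule.mem_ideal_smul_span_iff_exists_sum I b _).mp hmem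
    refine ⟨fun j => c j, hc, ?_⟩
    rw [← hc', Finsupp.sum_fintype _ _ fun j => zero_smul A (b j)]
  choose c hcI hcb using hcol
  set M : Matrix (Fin (s + 1)) (Fin (s + 1)) A :=
    fun j i => c i j + (if i = 0 ∧ j = 0 then 1 else 0) with hM
  have hrep : M.Represents b (Algebra.lmul A E x) := by
    rw [Matrix.represents_iff']
    intro i
    simp only [hM, add_smul, Finset.sum_add_distrib, hcb i, Algebra.coe_lmul_eq_mul,
      LinearMap.mul_apply_apply]
    rcases eq_or_ne i 0 with rfl | hi
    · simp
    · simp [hi]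
  have hχ : aeval x M.charpoly = 0 := by
    let m : Matrix.isRepresentation A b := ⟨M, _, hrep⟩
    have h1 : Matrix.isRepresentation.toEnd A b hb m = Algebra.lmul A E x :=
      Matrix.isRepresentation.eq_toEnd_of_represents A b hb m hrep
    have h2 : aeval m M.charpoly = 0 :=
      Subtype.ext (by rw [Subalgebra.coe_zero, Polynomial.aeval_subalgebra_coe]; exact M.aeval_self_charpoly)
    have h3 := congrArg (Matrix.isRepresentation.toEnd A b hb) h2
    rw [map_zero, ← Polynomial.aeval_algHom_apply, h1, Polynomial.aeval_algHom_apply] at h3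
    have h4 := LinearMap.congr_fun h3 1
    simpa using h4
  have hχI : M.charpoly.map (Ideal.Quotient.mk I) =
      ((X : A[X]) ^ s * (X - 1)).map (Ideal.Quotient.mk I) := by
    rw [← Matrix.charpoly_map]
    have : M.map (Ideal.Quotient.mk I) =
        Matrix.diagonal fun i : Fin (s + 1) => if i = 0 then (1 : A ⧸ I) else 0 := by
      ext j i
      show Ideal.Quotient.mk I (c i j + if i = 0 ∧ j = 0 then 1 else 0) = _
      simp only [map_add, Ideal.Quotient.eq_zero_iff_mem.mpr (hcI i j),
        zero_add, Matrix.diagonal_apply]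
      rcases eq_or_ne i 0 with rfl | hi
      · rcases eq_or_ne j 0 with rfl | hj <;> simp [*]
      · rcases eq_or_ne j i with rfl | hj <;> simp [*]
    rw [this, Matrix.charpoly_diagonal, Fin.prod_univ_succ]
    simp [Fin.succ_ne_zero, mul_comm]
  obtain ⟨r, hr, hr1⟩ := hG s M.charpoly M.charpoly_monic hχI
  obtain ⟨q, hq⟩ := dvd_iff_isRoot.mpr hr
  have hqm : q.map (Ideal.Quotient.mk I) = ((X : A[X]) ^ s).map (Ideal.Quotient.mk I) := by
    have h := hχI
    rw [hq, Polynomial.map_mul, Polynomial.map_sub, map_X, map_C,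
      Ideal.Quotient.eq.mpr hr1, map_one, C_1, Polynomial.map_mul, Polynomial.map_sub,
      Polynomial.map_one, map_X, mul_comm] at h
    exact (monic_X_sub_C (1 : A ⧸ I)).isRegular.right.eq_iff.mp (by simpa using h)
  have hqr : IsUnit (q.eval r) := by
    refine isUnit_of_sub_mem hI isUnit_one ?_
    have h1 := eval_sub_eval_mem (I := I) (B := A) hqm r
    simp only [map_pow, aeval_X, coe_aeval_eq_eval, Algebra.algebraMap_self, Ideal.map_id] at h1
    have h2 : r ^ s - 1 ∈ I := I.mem_of_dvd (sub_one_dvd_pow_sub_one r s) hr1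
    simpa using I.add_mem h1 h2
  obtain ⟨v, hv⟩ := hqr
  refine ⟨algebraMap A E ((v⁻¹ : Aˣ) : A) * aeval x q, ?_, ?_⟩
  · obtain ⟨q', hq'⟩ : (X - C r) ∣ q - C (q.eval r) := X_sub_C_dvd_sub_C_eval
    have h0 : (x - algebraMap A E r) * aeval x q = 0 := by
      rw [hq, map_mul] at hχ
      simpa using hχ
    have h1 : aeval x q - algebraMap A E (v : A) = (x - algebraMap A E r) * aeval x q' := by
      have := congrArg (aeval x) hq'
      simpa [hv] using this
    have h2 : algebraMap A E ((v⁻¹ : Aˣ) : A) * algebraMap A E (v : A) = 1 := by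
      rw [← map_mul, Units.inv_mul, map_one]
    unfold IsIdempotentElem
    linear_combination (algebraMap A E ((v⁻¹ : Aˣ) : A) ^ 2 * aeval x q) * h1 +
      (algebraMap A E ((v⁻¹ : Aˣ) : A) ^ 2 * aeval x q') * h0 +
      (algebraMap A E ((v⁻¹ : Aˣ) : A) * aeval x q) * h2
  · have hvI : ((v⁻¹ : Aˣ) : A) - 1 ∈ I := by
      have h1 := eval_sub_eval_mem (I := I) (B := A) hqm r
      simp only [map_pow, aeval_X, coe_aeval_eq_eval, Algebra.algebraMap_self, Ideal.map_id] at h1
      have h2 : r ^ s - 1 ∈ I := I.mem_of_dvd (sub_one_dvd_pow_sub_one r s) hr1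
      have h3 : (v : A) - 1 ∈ I := by simpa [hv] using I.add_mem h1 h2
      have h4 := I.mul_mem_left (-((v⁻¹ : Aˣ) : A)) h3
      convert h4 using 1
      linear_combination v.inv_mul
    have h1 := eval_sub_eval_mem (I := I) (B := E) hqm x
    simp only [map_pow, aeval_X] at h1
    rcases s with _ | s
    · -- `E = A x`, and then `x ≡ 1`
      have hEb : (1 : E) - x ∈ J := by
        obtain ⟨cc, hcc⟩ : ∃ a : A, a • x = 1 := by
          have : (1 : E) ∈ Submodule.span A (Set.range b) := hb ▸ Submodule.mem_top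
          have hr : Set.range b = {x} := by
            ext z
            constructor
            · rintro ⟨i, rfl⟩
              obtain rfl : i = 0 := Fin.ext (by have := i.isLt; omega)
              simp [b]
            · rintro rfl
              exact ⟨0, by simp [b]⟩
          rw [hr, Submodule.mem_span_singleton] at this
          exact this
        convert J.mul_mem_left (-algebraMap A E cc) hx using 1
        rw [Algebra.smul_def] at hcc
        linear_combination (x - 1) * hcc
      have h5 := J.add_mem (J.mul_mem_left (algebraMap A E ((v⁻¹ : Aˣ) : A)) h1)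
        (J.add_mem (Ideal.mem_map_of_mem (algebraMap A E) hvI) hEb)
      simp only [pow_zero, map_sub, map_one] at h5
      convert h5 using 1
      ring
    · have h2 : x ^ (s + 1) - x ∈ J := by
        clear * - hx
        induction s with
        | zero => simp
        | succ k ih =>
          rw [show x ^ (k + 1 + 1) - x = x * (x ^ (k + 1) - x) + (x ^ 2 - x) by ring]
          exact J.add_mem (J.mul_mem_left _ ih) hx
      have h5 := J.add_mem
        (J.mul_mem_left (algebraMap A E ((v⁻¹ : Aˣ) : A)) (J.add_mem h1 h2))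
        (J.mul_mem_right x (Ideal.mem_map_of_mem (algebraMap A E) hvI))
      simp only [map_sub, map_one] at h5
      convert h5 using 1
      ring

/-- Idempotents of integral algebras lift. -/
theorem LiftsIdem.exists_idem (h : LiftsIdem A I) {B : Type v} [CommRing B] [Algebra A B]
    [Algebra.IsIntegral A B] {x : B} (hx : x ^ 2 - x ∈ I.map (algebraMap A B)) :
    ∃ e : B, IsIdempotentElem e ∧ e - x ∈ I.map (algebraMap A B) := by
  obtain ⟨g, hgm, hg0, hgI⟩ := exists_monic_aeval_eq_zero_forall_mem_of_mem_map hx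
  set p := g.comp (X ^ 2 - X) with hp
  have hXm : ((X : A[X]) ^ 2 - X).Monic := monic_X_pow_sub (degree_X_le.trans_lt (by norm_num))
  have hpm : p.Monic := by
    rcases subsingleton_or_nontrivial A with _ | _
    · exact Subsingleton.elim _ _
    refine hgm.comp hXm ?_
    rw [natDegree_sub_eq_left_of_natDegree_lt (by simp)]; simp
  have hpI : p.map (Ideal.Quotient.mk I) =
      (((X : A[X]) ^ 2 - X) ^ g.natDegree).map (Ideal.Quotient.mk I) := by
    have hg : g.map (Ideal.Quotient.mk I) =
        ((X : A[X]) ^ g.natDegree).map (Ideal.Quotient.mk I) := by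
      ext i
      rw [coeff_map, Polynomial.map_pow, map_X, coeff_X_pow]
      split_ifs with hi
      · subst hi; rw [hgm.coeff_natDegree, map_one]
      · exact Ideal.Quotient.eq_zero_iff_mem.mpr (hgI i hi)
    rw [hp, map_comp, hg, Polynomial.map_pow, map_X, X_pow_comp, Polynomial.map_pow]
  obtain ⟨u, hu, hu0, hu1⟩ := h _ p hpm hpI
  refine ⟨aeval x u, ?_, ?_⟩
  · obtain ⟨c, hc⟩ := hu
    have := congrArg (aeval x) hc
    rw [map_mul, hp, aeval_comp] at this
    simp only [map_sub, map_pow, aeval_X, hg0, zero_mul] at this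
    unfold IsIdempotentElem
    linear_combination this
  · set J := I.map (algebraMap A B)
    have h1 := eval_idem_sub_mem hx u
    have h2 := J.add_mem h1 (J.add_mem (J.mul_mem_right (1 - x) (Ideal.mem_map_of_mem _ hu0))
      (J.mul_mem_right x (Ideal.mem_map_of_mem (algebraMap A B) hu1)))
    simp only [map_sub, map_one] at h2
    convert h2 using 1
    ring

theorem LiftsIdem.liftsRankOne (h : LiftsIdem A I) : LiftsRankOne A I :=
  fun _ _ _ _ _ hx _ => h.exists_idem hx

/-- Idempotents of integral algebras are in bijection with those mod `I`. -/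
theorem LiftsIdem.bijOn (h : LiftsIdem A I) (hI : I ≤ Ideal.jacobson ⊥) (B : Type v) [CommRing B]
    [Algebra A B] [Algebra.IsIntegral A B] :
    Set.BijOn (Ideal.Quotient.mk (I.map (algebraMap A B)))
      {e : B | IsIdempotentElem e} {e | IsIdempotentElem e} := by
  refine ⟨fun e he => he.map _, fun e he e' he' hee => ?_, fun ε hε => ?_⟩
  · exact idem_eq_of_sub_mem (map_le_jacobson hI) he he' (Ideal.Quotient.eq.mp hee)
  · obtain ⟨x, rfl⟩ := Ideal.Quotient.mk_surjective ε
    have hε' : IsIdempotentElem (Ideal.Quotient.mk (I.map (algebraMap A B)) x) := hε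
    obtain ⟨e, he, hex⟩ := h.exists_idem (B := B) (x := x) (by
      rw [sq, ← Ideal.Quotient.eq, map_mul]; exact hε')
    exact ⟨e, he, Ideal.Quotient.eq.mpr hex⟩

end Groth.Agent.HenselLib
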