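import Mathlib.Algebra.Colimit.DirectLimit
import Mathlib.Algebra.Polynomial.Lifts
import Mathlib.RingTheory.Henselian
import Mathlib.RingTheory.Ideal.Maps

/-!
# Directed colimits of henselian pairs
-/

universe u v

namespace Groth.Agent.HenselLib

variable {ι : Type v} [Preorder ι] [IsDirectedOrder ι] [Nonempty ι]
  {B : ι → Type u} [∀ i, CommRing (B i)] {g : ∀ i j : ι, i ≤ j → (B i →+* B j)}
  [DirectedSystem B (fun i j h => g i j h)]

theorem exists_of_mem_iSup_map (J : ∀ i, Ideal (B i))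
    (hJ : ∀ (i j : ι) (h : i ≤ j), (J i).map (g i j h) ≤ J j)
    {x : DirectLimit B g} (hx : x ∈ ⨆ i, (J i).map (DirectLimit.Ring.of B g i)) :
    ∃ i, ∃ b ∈ J i, DirectLimit.Ring.of B g i b = x := by
  let K : Ideal (DirectLimit B g) :=
    { carrier := {x | ∃ i, ∃ b ∈ J i, DirectLimit.Ring.of B g i b = x}
      zero_mem' := ⟨Classical.arbitrary ι, 0, zero_mem _, map_zero _⟩
      add_mem' := by
        rintro _ _ ⟨i, a, ha, rfl⟩ ⟨j, b, hb, rfl⟩
        obtain ⟨k, hik, hjk⟩ := exists_ge_ge i j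
        exact ⟨k, g i k hik a + g j k hjk b, add_mem (hJ i k hik (Ideal.mem_map_of_mem _ ha))
          (hJ j k hjk (Ideal.mem_map_of_mem _ hb)), by
          rw [map_add, DirectLimit.Ring.of_f, DirectLimit.Ring.of_f]⟩
      smul_mem' := by
        rintro c _ ⟨i, a, ha, rfl⟩
        induction c using DirectLimit.induction with | _ j y
        obtain ⟨k, hik, hjk⟩ := exists_ge_ge i j
        exact ⟨k, g j k hjk y * g i k hik a,
          Ideal.mul_mem_left _ _ (hJ i k hik (Ideal.mem_map_of_mem _ ha)), by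
          rw [map_mul, DirectLimit.Ring.of_f, DirectLimit.Ring.of_f]; rfl⟩ }
  exact (iSup_le fun i => Ideal.map_le_iff_le_comap.2 fun a ha => ⟨i, a, ha, rfl⟩ :
    (⨆ i, (J i).map (DirectLimit.Ring.of B g i)) ≤ K) hx

theorem exists_stage_lifts (p : Polynomial (DirectLimit B g)) (i : ι) :
    ∃ j, i ≤ j ∧ p ∈ Polynomial.lifts (DirectLimit.Ring.of B g j) := by
  induction p using Polynomial.induction_on' with
  | add p q hp hq =>
    obtain ⟨j, hij, q₁, h₁⟩ := hp
    obtain ⟨k, hik, q₂, h₂⟩ := hq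
    obtain ⟨l, hjl, hkl⟩ := exists_ge_ge j k
    refine ⟨l, hij.trans hjl, q₁.map (g j l hjl) + q₂.map (g k l hkl), ?_⟩
    simp only [Polynomial.coe_mapRingHom] at h₁ h₂ ⊢
    rw [Polynomial.map_add, Polynomial.map_map, Polynomial.map_map,
      show (DirectLimit.Ring.of B g l).comp (g j l hjl) = DirectLimit.Ring.of B g j from
        RingHom.ext fun y => DirectLimit.Ring.of_f hjl y,
      show (DirectLimit.Ring.of B g l).comp (g k l hkl) = DirectLimit.Ring.of B g k from
        RingHom.ext fun y => DirectLimit.Ring.of_f hkl y, h₁, h₂]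
  | monomial n a =>
    induction a using DirectLimit.induction with | _ j y
    obtain ⟨l, hil, hjl⟩ := exists_ge_ge i j
    refine ⟨l, hil, Polynomial.monomial n (g j l hjl y), ?_⟩
    rw [Polynomial.coe_mapRingHom, Polynomial.map_monomial, DirectLimit.Ring.of_f]
    rfl

/-- A directed colimit of henselian pairs is a henselian pair. -/
theorem henselianRing_directLimit (J : ∀ i, Ideal (B i))
    (hJ : ∀ (i j : ι) (h : i ≤ j), (J i).map (g i j h) ≤ J j) (hens : ∀ i, HenselianRing (B i) (J i)) :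
    HenselianRing (DirectLimit B g) (⨆ i, (J i).map (DirectLimit.Ring.of B g i)) := by
  set o := DirectLimit.Ring.of B g
  have hmem : ∀ {i} {b : B i}, b ∈ J i → o i b ∈ ⨆ i, (J i).map (o i) := fun {i} {b} hb =>
    Ideal.mem_iSup_of_mem i (Ideal.mem_map_of_mem _ hb)
  refine ⟨fun x hx => Ideal.mem_jacobson_bot.2 fun y => ?_, fun p hp a₀ h₁ h₂ => ?_⟩
  · obtain ⟨i, a, ha, rfl⟩ := exists_of_mem_iSup_map J hJ hx
    induction y using DirectLimit.induction with | _ j c
    obtain ⟨k, hik, hjk⟩ := exists_ge_ge i j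
    have := (Ideal.mem_jacobson_bot.1 ((hens k).jac (hJ i k hik (Ideal.mem_map_of_mem _ ha)))
      (g j k hjk c)).map (o k)
    rw [map_add, map_mul, map_one, DirectLimit.Ring.of_f, DirectLimit.Ring.of_f] at this
    exact this
  · rcases subsingleton_or_nontrivial (DirectLimit B g) with _ | _
    · exact ⟨a₀, Subsingleton.elim _ _, by simp⟩
    induction a₀ using DirectLimit.induction with | _ i x
    change p.eval (o i x) ∈ _ at h₁
    change IsUnit (Ideal.Quotient.mk _ (p.derivative.eval (o i x))) at h₂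
    change ∃ a, p.IsRoot a ∧ a - o i x ∈ _
    obtain ⟨j, hij, hl⟩ := exists_stage_lifts p i
    obtain ⟨q, hq, -, hqm⟩ := Polynomial.lifts_and_degree_eq_and_monic hl hp
    rw [← DirectLimit.Ring.of_f (f := g) hij x, ← hq] at h₁ h₂ ⊢
    rw [Polynomial.eval_map_apply] at h₁
    rw [Polynomial.derivative_map, Polynomial.eval_map_apply] at h₂
    obtain ⟨z, hz⟩ := isUnit_iff_exists_inv.1 h₂
    obtain ⟨z, rfl⟩ := Ideal.Quotient.mk_surjective z
    induction z using DirectLimit.induction with | _ m w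
    rw [← map_mul, ← map_one (Ideal.Quotient.mk (⨆ i, (J i).map (o i))), Ideal.Quotient.eq] at hz
    obtain ⟨k₁, b₁, hb₁, e₁⟩ := exists_of_mem_iSup_map J hJ h₁
    obtain ⟨k₂, b₂, hb₂, e₂⟩ := exists_of_mem_iSup_map J hJ hz
    obtain ⟨n, hn⟩ := Finite.exists_le (fun t : Fin 4 => ![j, m, k₁, k₂] t)
    have hjn : j ≤ n := hn 0
    have hmn : m ≤ n := hn 1
    have h1n : k₁ ≤ n := hn 2
    have h2n : k₂ ≤ n := hn 3
    obtain ⟨a, ha⟩ : ∃ a : B n, a = g j n hjn (g i j hij x) := ⟨_, rfl⟩
    have ev : ∀ r : Polynomial (B j), o n ((r.map (g j n hjn)).eval a) =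
        o j (r.eval (g i j hij x)) := fun r => by
      rw [ha, Polynomial.eval_map_apply, DirectLimit.Ring.of_f]
    have E₁ : o n (g k₁ n h1n b₁) = o n ((q.map (g j n hjn)).eval a) := by
      rw [DirectLimit.Ring.of_f, ev]; exact e₁
    have E₂ : o n (g k₂ n h2n b₂) =
        o n ((q.derivative.map (g j n hjn)).eval a * g m n hmn w - 1) := by
      rw [map_sub, map_mul, map_one, ev, DirectLimit.Ring.of_f, DirectLimit.Ring.of_f]; exact e₂
    obtain ⟨l₁, hnl₁, hnl₁', E₁'⟩ := Quotient.exact E₁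
    obtain ⟨l₂, hnl₂, hnl₂', E₂'⟩ := Quotient.exact E₂
    obtain ⟨l, h1l, h2l⟩ := exists_ge_ge l₁ l₂
    have hnl : n ≤ l := hnl₁.trans h1l
    have push : ∀ {l'} (h : n ≤ l') (h' : l' ≤ l) {u v : B n}, g n l' h u = g n l' h v →
        g n l hnl u = g n l hnl v := fun {l'} h h' {u v} e => by
      rw [← DirectedSystem.map_map (f := fun a b h => g a b h) h h' u,
        ← DirectedSystem.map_map (f := fun a b h => g a b h) h h' v, e]
    have F₁ := push hnl₁ h1l E₁'
    have F₂ := push hnl₂ h2l E₂'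
    rw [← Polynomial.eval_map_apply, Polynomial.map_map] at F₁
    rw [map_sub, map_mul, map_one, ← Polynomial.eval_map_apply, Polynomial.map_map] at F₂
    set qn := q.map ((g n l hnl).comp (g j n hjn))
    obtain ⟨y, hy, hy'⟩ := (hens l).is_henselian qn (hqm.map _) (g n l hnl a)
      (F₁ ▸ hJ n l hnl (Ideal.mem_map_of_mem _ (hJ k₁ n h1n (Ideal.mem_map_of_mem _ hb₁))))
      (by
        rw [Polynomial.derivative_map]
        refine isUnit_iff_exists_inv.2 ⟨Ideal.Quotient.mk _ (g n l hnl (g m n hmn w)), ?_⟩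
        rw [← map_mul, ← map_one (Ideal.Quotient.mk (J l)), Ideal.Quotient.eq]
        exact F₂ ▸ hJ n l hnl (Ideal.mem_map_of_mem _ (hJ k₂ n h2n (Ideal.mem_map_of_mem _ hb₂))))
    refine ⟨o l y, ?_, ?_⟩
    · have hqn : q.map (o j) = qn.map (o l) := by
        rw [Polynomial.map_map]
        congr 1
        exact RingHom.ext fun t => by simp only [RingHom.comp_apply, o, DirectLimit.Ring.of_f]
      rw [Polynomial.IsRoot, hqn, Polynomial.eval_map_apply, hy, map_zero]
    · have hx : o j (g i j hij x) = o l (g n l hnl a) := by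
        simp only [o, ha, DirectLimit.Ring.of_f]
      rw [hx, ← map_sub]
      exact hmem hy'

end Groth.Agent.HenselLib
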