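import Groth.Agent.HenselLib.Basic
import Mathlib.RingTheory.Etale.Basic
import Mathlib.RingTheory.Smooth.Flat
import Mathlib.RingTheory.Ideal.Pure
import Mathlib.RingTheory.Ideal.IdempotentFG
import Mathlib.RingTheory.Localization.Away.Lemmas
import Mathlib.RingTheory.ZariskisMainTheorem
import Mathlib.RingTheory.Unramified.LocalStructure

/-!
# Henselian pairs lift points of étale algebras
-/

universe u v

open Polynomial

namespace Groth.Agent.HenselLib

variable {A : Type u} [CommRing A] {I : Ideal A}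

/-- Points of étale algebras modulo `I` lift. -/
def LiftsEtale (A : Type u) [CommRing A] (I : Ideal A) : Prop :=
  ∀ (A' : Type u) [CommRing A'] [Algebra A A'] [Algebra.Etale A A'] (σ : A' →ₐ[A] A ⧸ I),
    ∃ τ : A' →ₐ[A] A, (Ideal.Quotient.mkₐ A I).comp τ = σ

/-- The kernel of an `A/I`-point of an algebra which is unramified near that point is idempotent
modulo `I`. -/
theorem ker_pow_mem {E : Type v} [CommRing E] [Algebra A E] (σ : E →ₐ[A] A ⧸ I) {Δ : E}
    (hΔ : IsUnit (σ Δ)) [Algebra.FormallyUnramified A (Localization.Away Δ)] {j : E}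
    (hj : σ j = 0) :
    ∃ N : ℕ, Δ ^ N * j ∈ (RingHom.ker σ.toRingHom) ^ 2 ⊔ I.map (algebraMap A E) := by
  set L := Localization.Away Δ
  set J := RingHom.ker σ.toRingHom
  set 𝔞 : Ideal L := (J ^ 2 ⊔ I.map (algebraMap A E)).map (algebraMap E L)
  let σ' : L →ₐ[A] A ⧸ I := IsLocalization.Away.liftAlgHom (S := L) Δ (f := σ) hΔ
  have hσ' : ∀ e : E, σ' (algebraMap E L e) = σ e := fun e => by simp [σ']
  let κ : (A ⧸ I) →ₐ[A] L ⧸ 𝔞 := Ideal.Quotient.liftₐ I (Algebra.ofId A (L ⧸ 𝔞)) fun a ha => by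
    rw [Algebra.ofId_apply, IsScalarTower.algebraMap_apply A L, Ideal.Quotient.algebraMap_eq,
      Ideal.Quotient.eq_zero_iff_mem, IsScalarTower.algebraMap_apply A E L]
    exact Ideal.mem_map_of_mem _ (Ideal.mem_sup_right (Ideal.mem_map_of_mem _ ha))
  set N : Ideal (L ⧸ 𝔞) := (J.map (algebraMap E L)).map (Ideal.Quotient.mk 𝔞)
  have hN : N ^ 2 = ⊥ := by
    rw [← Ideal.map_pow, ← Ideal.map_pow, Ideal.map_eq_bot_iff_le_ker, Ideal.mk_ker]
    exact Ideal.map_mono le_sup_left
  have key : Ideal.Quotient.mkₐ A 𝔞 = κ.comp σ' := by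
    refine Algebra.FormallyUnramified.ext (I := N) ⟨2, hN⟩ ?_
    suffices H : (Ideal.Quotient.mkₐ A N).comp (Ideal.Quotient.mkₐ A 𝔞) =
        (Ideal.Quotient.mkₐ A N).comp (κ.comp σ') from fun x => AlgHom.congr_fun H x
    refine IsLocalization.algHom_ext (Submonoid.powers Δ) (AlgHom.ext fun e => ?_)
    obtain ⟨a, ha⟩ := Ideal.Quotient.mk_surjective (σ e)
    show Ideal.Quotient.mk N (Ideal.Quotient.mk 𝔞 (algebraMap E L e)) =
      Ideal.Quotient.mk N (κ (σ' (algebraMap E L e)))
    have hκ : κ (σ' (algebraMap E L e)) = Ideal.Quotient.mk 𝔞 (algebraMap E L (algebraMap A E a)) := by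
      rw [hσ', ← ha, ← Ideal.Quotient.algebraMap_eq I, AlgHom.commutes,
        IsScalarTower.algebraMap_apply A L, IsScalarTower.algebraMap_apply A E L]
      rfl
    rw [hκ, Ideal.Quotient.eq, ← map_sub, ← map_sub]
    refine Ideal.mem_map_of_mem _ (Ideal.mem_map_of_mem _ ?_)
    rw [RingHom.mem_ker, map_sub]
    simp [← ha]
  have h0 := AlgHom.congr_fun key (algebraMap E L j)
  rw [AlgHom.comp_apply, hσ', hj, map_zero, Ideal.Quotient.mkₐ_eq_mk,
    Ideal.Quotient.eq_zero_iff_mem, IsLocalization.algebraMap_mem_map_algebraMap_iff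
      (Submonoid.powers Δ)] at h0
  obtain ⟨_, ⟨N, rfl⟩, hN⟩ := h0
  exact ⟨N, hN⟩

/-- The kernel of an `A/I`-point of a finite algebra, unramified near that point, is cut out
modulo `I` by an idempotent. -/
theorem exists_rank_one {E : Type v} [CommRing E] [Algebra A E] [Module.Finite A E]
    (σ : E →ₐ[A] A ⧸ I) {Δ : E} (hΔ : IsUnit (σ Δ))
    [Algebra.FormallyUnramified A (Localization.Away Δ)] :
    ∃ x : E, x ^ 2 - x ∈ I.map (algebraMap A E) ∧ σ x = 1 ∧
      ∀ y : E, σ y = 0 → x * y ∈ I.map (algebraMap A E) := by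
  set IE := I.map (algebraMap A E)
  set J := RingHom.ker σ.toRingHom
  set q := Ideal.Quotient.mk IE
  have hIE : IE ≤ J := Ideal.map_le_iff_le_comap.mpr fun a ha => by
    rw [Ideal.mem_comap, RingHom.mem_ker]
    exact (σ.commutes a).trans (Ideal.Quotient.eq_zero_iff_mem.mpr ha)
  obtain ⟨s, g, hg⟩ := Module.Finite.exists_fin (R := A) (M := E)
  choose ag hag using fun i => Ideal.Quotient.mk_surjective (σ (g i))
  have hfg : (J.map q).FG := by
    classical
    refine ⟨Finset.univ.image fun i => q (g i - algebraMap A E (ag i)),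
      le_antisymm (Ideal.span_le.mpr ?_) ?_⟩
    · intro z hz
      simp only [Finset.coe_image, Finset.coe_univ, Set.image_univ,
        Set.mem_range] at hz
      obtain ⟨i, rfl⟩ := hz
      refine Ideal.mem_map_of_mem _ ?_
      rw [RingHom.mem_ker, map_sub]
      simp [← hag i]
    · rw [Ideal.map_le_iff_le_comap]
      intro y hy
      obtain ⟨c, rfl⟩ := (Submodule.mem_span_range_iff_exists_fun A).mp
        (hg.symm ▸ Submodule.mem_top : y ∈ Submodule.span A (Set.range g))
      rw [Ideal.mem_comap]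
      have h1 : ∑ i, c i • g i = (∑ i, algebraMap A E (c i) * (g i - algebraMap A E (ag i))) +
          algebraMap A E (∑ i, c i * ag i) := by
        rw [map_sum, ← Finset.sum_add_distrib]
        refine Finset.sum_congr rfl fun i _ => ?_
        rw [Algebra.smul_def, map_mul]; ring
      have h2 : algebraMap A E (∑ i, c i * ag i) ∈ IE := by
        refine Ideal.mem_map_of_mem _ ?_
        rw [← Ideal.Quotient.eq_zero_iff_mem]
        have h3 : σ (∑ i, c i • g i) = 0 := hy
        rw [map_sum] at h3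
        rw [map_sum, ← h3]
        refine Finset.sum_congr rfl fun i _ => ?_
        rw [map_smul, ← hag i, map_mul, Algebra.smul_def]
        rfl
      rw [h1, map_add, Ideal.Quotient.eq_zero_iff_mem.mpr h2, add_zero, map_sum]
      refine Ideal.sum_mem _ fun i _ => ?_
      rw [map_mul]
      exact Ideal.mul_mem_left _ _ (Ideal.subset_span (by simp [q]))
  have hidem : IsIdempotentElem (J.map q) := by
    refine le_antisymm Ideal.mul_le_left ?_
    rw [← Ideal.map_mul, ← sq, Ideal.map_le_iff_le_comap]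
    intro j hj
    obtain ⟨N, hN⟩ := ker_pow_mem σ hΔ (j := j) hj
    obtain ⟨c, hc⟩ := Ideal.Quotient.mk_surjective (σ Δ)
    have hcu : IsUnit (Ideal.Quotient.mk I c) := hc ▸ hΔ
    obtain ⟨v, hv⟩ := isUnit_iff_exists_inv.mp hcu
    obtain ⟨v, rfl⟩ := Ideal.Quotient.mk_surjective v
    have hcv : algebraMap A E (c * v) - 1 ∈ IE := by
      rw [← map_one (algebraMap A E), ← map_sub]
      refine Ideal.mem_map_of_mem _ ?_
      rw [← Ideal.Quotient.eq_zero_iff_mem, map_sub, map_mul, hv, map_one, sub_self]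
    have hΔJ : algebraMap A E c - Δ ∈ J := by
      rw [RingHom.mem_ker, map_sub]
      simp [← hc]
    have h1 : algebraMap A E c ^ N * j ∈ J ^ 2 ⊔ IE := by
      rw [show algebraMap A E c ^ N * j = (algebraMap A E c ^ N - Δ ^ N) * j + Δ ^ N * j by ring]
      refine Ideal.add_mem _ (Ideal.mem_sup_left ?_) hN
      rw [sq]
      exact Ideal.mul_mem_mul (J.mem_of_dvd (sub_dvd_pow_sub_pow _ _ N) hΔJ) hj
    have h2 : j ∈ J ^ 2 ⊔ IE := by
      have h3 : algebraMap A E (c * v) ^ N - 1 ∈ IE :=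
        IE.mem_of_dvd (sub_one_dvd_pow_sub_one _ N) hcv
      have h4 := Ideal.sub_mem (J ^ 2 ⊔ IE) (Ideal.mul_mem_left _ (algebraMap A E v ^ N) h1)
        (Ideal.mem_sup_right (IE.mul_mem_right j h3))
      rw [map_mul] at h4
      convert h4 using 1
      ring
    obtain ⟨a, ha, b, hb, rfl⟩ := Submodule.mem_sup.mp h2
    rw [Ideal.mem_comap, map_add, Ideal.Quotient.eq_zero_iff_mem.mpr hb, add_zero]
    exact Ideal.mem_map_of_mem _ ha
  obtain ⟨e', he', hspan⟩ := (Ideal.isIdempotentElem_iff_of_fg _ hfg).mp hidem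
  rw [Ideal.submodule_span_eq] at hspan
  obtain ⟨f, hf, rfl⟩ : ∃ f ∈ J, q f = e' := by
    have : e' ∈ J.map q := hspan ▸ Ideal.subset_span rfl
    exact (Ideal.mem_map_iff_of_surjective q Ideal.Quotient.mk_surjective).mp this
  refine ⟨1 - f, ?_, ?_, fun y hy => ?_⟩
  · rw [← Ideal.Quotient.eq_zero_iff_mem]
    have he2 : q f * q f = q f := he'
    simp only [map_sub, map_pow, map_one]
    linear_combination he2
  · rw [map_sub, map_one, show σ f = 0 from hf, sub_zero]
  · have : q y ∈ J.map q := Ideal.mem_map_of_mem q hy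
    rw [hspan, Ideal.mem_span_singleton'] at this
    obtain ⟨t, ht⟩ := this
    rw [← Ideal.Quotient.eq_zero_iff_mem]
    change q ((1 - f) * y) = 0
    rw [map_mul, map_sub, map_one, ← ht]
    have he2 : q f * q f = q f := he'
    linear_combination (-t) * he2

theorem exists_finite_model {A' : Type v} [CommRing A'] [Algebra A A'] [Algebra.FiniteType A A']
    [Algebra.QuasiFinite A A'] (σ : A' →ₐ[A] A ⧸ I) :
    ∃ E : Subalgebra A A', Module.Finite A E ∧ ∃ Δ : E, σ (Δ : A') = 1 ∧
      ∀ y : A', ∃ n : ℕ, (Δ : A') ^ n * y ∈ E := by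
  classical
  set J := RingHom.ker σ.toRingHom
  -- the good elements generate the unit ideal
  let G : Set A' := {r | IsIntegral A r ∧ ∀ x, ∃ m, IsIntegral A (r ^ m * x)}
  have hG : Ideal.span G = ⊤ := by
    by_contra hne
    obtain ⟨M, hM, hle⟩ := Ideal.exists_le_maximal _ hne
    haveI := hM.isPrime
    obtain ⟨r, hr, h1, h2⟩ := Algebra.zariskisMainProperty_iff.mp
      (Algebra.ZariskisMainProperty.of_finiteType (R := A) M)
    exact hr (hle (Ideal.subset_span ⟨h1, h2⟩))
  obtain ⟨c, hc1⟩ := (Finsupp.mem_span_iff_linearCombination A' G (1 : A')).mp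
    ((Ideal.eq_top_iff_one _).mp hG : (1 : A') ∈ Submodule.span A' G)
  rw [Finsupp.linearCombination_apply, Finsupp.sum] at hc1
  choose a ha using fun r : G => Ideal.Quotient.mk_surjective (σ (c r))
  set Δ : A' := ∑ r ∈ c.support, algebraMap A A' (a r) * (r : A') with hΔ
  have hΔ1 : σ Δ = 1 := by
    have := congrArg σ hc1
    rw [map_sum, map_one] at this
    rw [hΔ, map_sum, ← this]
    refine Finset.sum_congr rfl fun r _ => ?_
    rw [map_mul, AlgHom.commutes, smul_eq_mul, map_mul, ← ha r]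
    rfl
  set C := integralClosure A A'
  have hΔC : Δ ∈ C := Subalgebra.sum_mem _ fun r _ => C.mul_mem (C.algebraMap_mem _) r.2.1
  have hsat : ∀ x : A', ∃ n, Δ ^ n * x ∈ C := by
    intro x
    let T : Ideal C :=
      { carrier := {z | (z : A') * x ∈ C}
        add_mem' := fun {z w} hz hw => by
          simp only [Set.mem_setOf_eq, AddMemClass.coe_add, add_mul] at *
          exact C.add_mem hz hw
        zero_mem' := by simp
        smul_mem' := fun z w hw => by
          simp only [Set.mem_setOf_eq, smul_eq_mul, MulMemClass.coe_mul, mul_assoc] at *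
          exact C.mul_mem z.2 hw }
    have hrad : (⟨Δ, hΔC⟩ : C) ∈ T.radical := by
      have e : (⟨Δ, hΔC⟩ : C) = ∑ r ∈ c.support, algebraMap A C (a r) * ⟨(r : A'), r.2.1⟩ :=
        Subtype.ext (by simp [hΔ])
      rw [e]
      refine Ideal.sum_mem _ fun r _ => Ideal.mul_mem_left _ _ ?_
      obtain ⟨m, hm⟩ := r.2.2 x
      exact ⟨m, show (((⟨(r : A'), r.2.1⟩ : C) ^ m : C) : A') * x ∈ C by
        rw [SubmonoidClass.coe_pow]
        exact hm⟩
    obtain ⟨n, hn⟩ := hrad
    exact ⟨n, by simpa [T] using hn⟩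
  obtain ⟨ys, hys⟩ := Algebra.FiniteType.out (R := A) (A := A')
  choose nn hnn using hsat
  set t : Finset A' := insert Δ (ys.image fun y => Δ ^ nn y * y)
  have ht : ∀ z ∈ t, IsIntegral A z := by
    intro z hz
    rcases Finset.mem_insert.mp hz with rfl | hz
    · exact hΔC
    · obtain ⟨y, -, rfl⟩ := Finset.mem_image.mp hz
      exact hnn y
  set E := Algebra.adjoin A (t : Set A')
  have hΔE : Δ ∈ E := Algebra.subset_adjoin (Finset.mem_coe.mpr (Finset.mem_insert_self _ _))
  refine ⟨E, ⟨(Submodule.fg_top _).mpr (fg_adjoin_of_finite t.finite_toSet ht)⟩, ⟨Δ, hΔE⟩, hΔ1,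
    fun y => ?_⟩
  have hy : y ∈ Algebra.adjoin A (ys : Set A') := hys ▸ Algebra.mem_top
  induction hy using Algebra.adjoin_induction with
  | mem y hy =>
    exact ⟨nn y, Algebra.subset_adjoin
      (Finset.mem_coe.mpr (Finset.mem_insert_of_mem (Finset.mem_image_of_mem _ hy)))⟩
  | algebraMap r => exact ⟨0, by simp⟩
  | add y z _ _ hy hz =>
    obtain ⟨n, hn⟩ := hy
    obtain ⟨m, hm⟩ := hz
    refine ⟨n + m, ?_⟩
    show Δ ^ (n + m) * (y + z) ∈ E
    rw [show Δ ^ (n + m) * (y + z) = Δ ^ m * (Δ ^ n * y) + Δ ^ n * (Δ ^ m * z) by ring]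
    exact E.add_mem (E.mul_mem (pow_mem hΔE m) hn) (E.mul_mem (pow_mem hΔE n) hm)
  | mul y z _ _ hy hz =>
    obtain ⟨n, hn⟩ := hy
    obtain ⟨m, hm⟩ := hz
    refine ⟨n + m, ?_⟩
    show Δ ^ (n + m) * (y * z) ∈ E
    rw [show Δ ^ (n + m) * (y * z) = (Δ ^ n * y) * (Δ ^ m * z) by ring]
    exact E.mul_mem hn hm

/-- Points of finite algebras, etale near the point, lift. -/
theorem lift_of_finite (hI : I ≤ Ideal.jacobson ⊥) (hR : LiftsRankOne A I) {E : Type u}
    [CommRing E] [Algebra A E] [Module.Finite A E] (σ : E →ₐ[A] A ⧸ I) {Δ : E}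
    (hΔ : IsUnit (σ Δ)) [Algebra.Etale A (Localization.Away Δ)] :
    ∃ τ : E →ₐ[A] A, (Ideal.Quotient.mkₐ A I).comp τ = σ := by
  set IE := I.map (algebraMap A E)
  obtain ⟨x, hx, hx1, hx0⟩ := exists_rank_one σ hΔ
  obtain ⟨e, he, hex⟩ := hR E x hx fun y => by
    obtain ⟨a, ha⟩ := Ideal.Quotient.mk_surjective (σ y)
    refine ⟨a, ?_⟩
    have h1 := hx0 (y - algebraMap A E a) (by rw [map_sub]; simp [← ha])
    rwa [mul_sub, mul_comm x (algebraMap A E a)] at h1
  have hσIE : ∀ z ∈ IE, σ z = 0 := fun z hz => by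
    have : IE ≤ RingHom.ker σ.toRingHom := Ideal.map_le_iff_le_comap.mpr fun a ha => by
      rw [Ideal.mem_comap, RingHom.mem_ker]
      exact (σ.commutes a).trans (Ideal.Quotient.eq_zero_iff_mem.mpr ha)
    exact this hz
  have hσe : σ e = 1 := by
    have := hσIE _ hex
    rwa [map_sub, hx1, sub_eq_zero] at this
  set B := E ⧸ Ideal.span {1 - e}
  let q : E →ₐ[A] B := Ideal.Quotient.mkₐ A _
  have hqe : q e = 1 := by
    rw [← map_one q, eq_comm, ← sub_eq_zero, ← map_sub]
    exact Ideal.Quotient.eq_zero_iff_mem.mpr (Ideal.mem_span_singleton_self _)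
  let σB : B →ₐ[A] A ⧸ I := Ideal.Quotient.liftₐ _ σ (fun z hz => by
    obtain ⟨t, rfl⟩ := Ideal.mem_span_singleton'.mp hz
    rw [map_mul, map_sub, map_one, hσe, sub_self, mul_zero])
  have hsurj : Function.Surjective (algebraMap A B) := by
    have : (⊤ : Submodule A B) ≤ LinearMap.range (Algebra.linearMap A B) := by
      refine Submodule.le_of_le_smul_of_le_jacobson_bot Module.Finite.fg_top hI ?_
      rintro b -
      obtain ⟨y, rfl⟩ := Ideal.Quotient.mk_surjective b
      obtain ⟨a, ha⟩ := Ideal.Quotient.mk_surjective (σ y)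
      refine Submodule.mem_sup.mpr ⟨algebraMap A B a, ⟨a, rfl⟩, q y - algebraMap A B a, ?_,
        add_sub_cancel _ _⟩
      rw [Ideal.smul_top_eq_map, Submodule.restrictScalars_mem]
      have h1 : e * (y - algebraMap A E a) ∈ IE := by
        have h2 := IE.add_mem (IE.mul_mem_right (y - algebraMap A E a) hex)
          (hx0 (y - algebraMap A E a) (by rw [map_sub]; simp [← ha]))
        rwa [← add_mul, sub_add_cancel] at h2
      have h3 := Ideal.mem_map_of_mem q.toRingHom h1
      rw [show IE = I.map (algebraMap A E) from rfl, Ideal.map_map,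
        show q.toRingHom.comp (algebraMap A E) = algebraMap A B from q.comp_algebraMap] at h3
      have h4 : q (e * (y - algebraMap A E a)) = q y - algebraMap A B a := by
        rw [map_mul, hqe, one_mul, map_sub, AlgHom.commutes]
      rw [← h4]
      exact h3
    intro b
    exact this Submodule.mem_top
  set K := RingHom.ker (algebraMap A B)
  have hKI : K ≤ I := fun a ha => by
    rw [← Ideal.Quotient.eq_zero_iff_mem, ← Ideal.Quotient.algebraMap_eq, ← σB.commutes,
      show algebraMap A B a = 0 from ha, map_zero]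
  have hΔB : IsUnit (algebraMap E B Δ) := by
    obtain ⟨a, ha⟩ := hsurj (algebraMap E B Δ)
    rw [← ha]
    haveI := isLocalHom_of_le_jacobson_bot I hI
    refine (IsUnit.of_map (Ideal.Quotient.mk I) a ?_).map _ (M := A) (N := B)
    · have : σB (algebraMap A B a) = σ Δ := by rw [ha]; rfl
      rw [AlgHom.commutes] at this
      exact this ▸ hΔ
  haveI : IsLocalization.Away e B := IsLocalization.Away.quotient_of_isIdempotentElem he
  haveI : IsLocalization.Away (e * Δ) B := IsLocalization.Away.mul_of_isUnit e Δ hΔB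
  set T := Localization.Away (algebraMap E (Localization.Away Δ) e)
  haveI : IsLocalization.Away (e * Δ) T := inferInstance
  haveI : Algebra.Etale (Localization.Away Δ) T :=
    Algebra.Etale.of_isLocalizationAway (algebraMap E (Localization.Away Δ) e)
  haveI : Algebra.Etale A T := Algebra.Etale.comp A (Localization.Away Δ) T
  let eT : T ≃ₐ[A] B :=
    (IsLocalization.algEquiv (Submonoid.powers (e * Δ)) T B).restrictScalars A
  haveI hBet : Algebra.Etale A B := Algebra.Etale.of_equiv eT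
  haveI : Module.Flat A B := inferInstance
  let eK : (A ⧸ K) ≃ₐ[A] B :=
    Ideal.quotientKerAlgEquivOfSurjective (f := Algebra.ofId A B) hsurj
  haveI : Ideal.Pure K := Module.Flat.of_linearEquiv eK.toLinearEquiv
  have hKfg : K.FG :=
    Algebra.FinitePresentation.ker_fG_of_surjective (Algebra.ofId A B) hsurj
  have hK0 : K = ⊥ := by
    refine Submodule.eq_bot_of_le_smul_of_le_jacobson_bot I K hKfg ?_ hI
    refine le_trans ?_ (Submodule.smul_mono hKI le_rfl)
    rw [Ideal.smul_eq_mul]
    exact (Ideal.isIdempotentElem_of_pure K).ge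
  have hinj : Function.Injective (Algebra.ofId A B) :=
    (RingHom.injective_iff_ker_eq_bot (algebraMap A B)).mpr hK0
  let eB : A ≃ₐ[A] B := AlgEquiv.ofBijective (Algebra.ofId A B) ⟨hinj, hsurj⟩
  refine ⟨eB.symm.toAlgHom.comp q, AlgHom.ext fun y => ?_⟩
  obtain ⟨a, ha⟩ := eB.surjective (q y)
  have h1 : eB.symm (q y) = a := by rw [← ha, eB.symm_apply_apply]
  show Ideal.Quotient.mk I (eB.symm (q y)) = σ y
  rw [h1, show σ y = σB (q y) from rfl, ← ha]
  exact (σB.commutes a).symm

/-- Rank one idempotent lifting gives lifting of points of étale algebras. -/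
theorem LiftsRankOne.liftsEtale (hR : LiftsRankOne A I) (hI : I ≤ Ideal.jacobson ⊥) :
    LiftsEtale A I := by
  intro A' _ _ _ σ
  obtain ⟨E, hE, ⟨Δ, hΔE⟩, hΔ1, hsat⟩ := exists_finite_model σ
  haveI := hE
  set Δ' : E := ⟨Δ, hΔE⟩
  haveI hloc : IsLocalization.Away (algebraMap E A' Δ') (Localization.Away Δ) :=
    (inferInstance : IsLocalization.Away Δ (Localization.Away Δ))
  letI : Algebra E (Localization.Away Δ) := inferInstance
  haveI hE' : IsLocalization.Away Δ' (Localization.Away Δ) := by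
    refine IsLocalization.Away.mk Δ' ?_ ?_ ?_
    · rw [IsScalarTower.algebraMap_apply E A' (Localization.Away Δ)]
      exact IsLocalization.Away.algebraMap_isUnit _
    · intro z
      obtain ⟨n, y, hy⟩ := IsLocalization.Away.surj Δ z
      obtain ⟨m, hm⟩ := hsat y
      refine ⟨n + m, ⟨Δ ^ m * y, hm⟩, ?_⟩
      rw [IsScalarTower.algebraMap_apply E A' (Localization.Away Δ),
        IsScalarTower.algebraMap_apply E A' (Localization.Away Δ)]
      show z * algebraMap A' (Localization.Away Δ) Δ ^ (n + m) =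
        algebraMap A' (Localization.Away Δ) (Δ ^ m * y)
      rw [map_mul, map_pow, ← hy]
      ring
    · intro a b hab
      rw [IsScalarTower.algebraMap_apply E A' (Localization.Away Δ),
        IsScalarTower.algebraMap_apply E A' (Localization.Away Δ)] at hab
      obtain ⟨n, hn⟩ := IsLocalization.Away.exists_of_eq Δ hab
      exact ⟨n, Subtype.ext hn⟩
  haveI : Algebra.Etale A' (Localization.Away Δ) := Algebra.Etale.of_isLocalizationAway Δ
  haveI : Algebra.Etale A (Localization.Away Δ) := Algebra.Etale.comp A A' (Localization.Away Δ)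
  let eΔ : Localization.Away Δ ≃ₐ[A] Localization.Away Δ' :=
    (IsLocalization.algEquiv (Submonoid.powers Δ') _ _).restrictScalars A
  haveI : Algebra.Etale A (Localization.Away Δ') := Algebra.Etale.of_equiv eΔ
  have hσΔ : IsUnit ((σ.comp E.val) Δ') := by
    show IsUnit (σ Δ)
    rw [hΔ1]; exact isUnit_one
  obtain ⟨τ, hτ⟩ := lift_of_finite hI hR (σ.comp E.val) hσΔ
  have hτΔ : IsUnit (τ Δ') := isUnit_of_sub_one_mem hI (by
    rw [← Ideal.Quotient.eq, map_one, ← hΔ1]
    exact AlgHom.congr_fun hτ Δ')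
  let τ' : Localization.Away Δ →ₐ[A] A := IsLocalization.Away.liftAlgHom Δ' (f := τ) hτΔ
  refine ⟨τ'.comp (IsScalarTower.toAlgHom A A' (Localization.Away Δ)), AlgHom.ext fun y => ?_⟩
  obtain ⟨n, hn⟩ := hsat y
  have h1 : τ' (algebraMap A' (Localization.Away Δ) y) * τ Δ' ^ n = τ ⟨Δ ^ n * y, hn⟩ := by
    have e1 : ∀ z : E, τ' (algebraMap E (Localization.Away Δ) z) = τ z := fun z => by simp [τ']
    rw [← e1, ← e1, ← map_pow, ← map_mul, IsScalarTower.algebraMap_apply E A' (Localization.Away Δ),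
      IsScalarTower.algebraMap_apply E A' (Localization.Away Δ) (⟨Δ ^ n * y, hn⟩ : E), ← map_pow,
      ← map_mul]
    congr 2
    show y * Δ ^ n = Δ ^ n * y
    exact mul_comm _ _
  have h2 := congrArg (Ideal.Quotient.mk I) h1
  have h3 : ∀ z : E, Ideal.Quotient.mk I (τ z) = σ z := fun z => AlgHom.congr_fun hτ z
  rw [map_mul, map_pow, h3, h3, show ((Δ' : E) : A') = Δ from rfl, hΔ1, one_pow, mul_one,
    map_mul, map_pow, hΔ1, one_pow, one_mul] at h2
  exact h2

end Groth.Agent.HenselLib
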