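import Groth.Agent.HenselLib.Newton
import Mathlib.Algebra.Polynomial.OfFn
import Mathlib.RingTheory.LocalRing.ResidueField.Basic
import Mathlib.LinearAlgebra.Matrix.ToLinearEquiv

/-!
# Lifting factorizations of non-monic polynomials over henselian local rings
-/

universe u

open Polynomial IsLocalRing

namespace Groth.Agent.HenselLib

theorem map_ofFn {R S : Type*} [Semiring R] [Semiring S] [DecidableEq R] [DecidableEq S]
    (f : R →+* S) (n : ℕ) (v : Fin n → R) : (ofFn n v).map f = ofFn n (f ∘ v) := by
  ext i
  rw [coeff_map]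
  rcases lt_or_ge i n with h | h
  · rw [ofFn_coeff_eq_val_of_lt _ h, ofFn_coeff_eq_val_of_lt _ h]
    rfl
  · rw [ofFn_coeff_eq_zero_of_ge _ h, ofFn_coeff_eq_zero_of_ge _ h, map_zero]

/-- Factorizations with a monic factor and a coprime cofactor lift. -/
theorem exists_factor_lift {R : Type u} [CommRing R] [HenselianLocalRing R] (f : R[X])
    (g₀ h₀ : (ResidueField R)[X]) (hg : g₀.Monic) (hc : IsCoprime g₀ h₀)
    (hf : f.map (residue R) = g₀ * h₀) :
    ∃ g h : R[X], f = g * h ∧ g.Monic ∧ g.map (residue R) = g₀ ∧ h.map (residue R) = h₀ := by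
  classical
  set d := g₀.natDegree
  set e := f.natDegree
  have hfe : f.natDegree < d + (e + 1) := by omega
  have hh₀ : h₀.natDegree < e + 1 := by
    rcases eq_or_ne h₀ 0 with rfl | hne
    · simp
    have h1 := hg.natDegree_mul' hne
    rw [← hf] at h1
    have := natDegree_map_le (f := residue R) (p := f)
    omega
  let ι := Fin d ⊕ Fin (e + 1)
  let idx : ι → ℕ := fun i => (finSumFinEquiv i : ℕ)
  let G : (MvPolynomial ι R)[X] := X ^ d + ofFn d fun a => MvPolynomial.X (Sum.inl a)
  let H : (MvPolynomial ι R)[X] := ofFn (e + 1) fun b => MvPolynomial.X (Sum.inr b)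
  let P : ι → MvPolynomial ι R := fun i => (G * H - f.map MvPolynomial.C).coeff (idx i)
  let a₀ : ι → R := fun i => Function.surjInv residue_surjective
    (Sum.elim (fun a : Fin d => g₀.coeff a) (fun b : Fin (e + 1) => h₀.coeff b) i)
  let ev : MvPolynomial ι R →+* ResidueField R := (residue R).comp (MvPolynomial.eval a₀)
  have evC : ∀ c, ev (MvPolynomial.C c) = residue R c := fun c => by simp [ev]
  have evX : ∀ i, ev (MvPolynomial.X i) =
      Sum.elim (fun a : Fin d => g₀.coeff a) (fun b : Fin (e + 1) => h₀.coeff b) i := fun i => by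
    simp only [ev, RingHom.comp_apply, MvPolynomial.eval_X]
    exact Function.surjInv_eq residue_surjective _
  have hevC : ev.comp MvPolynomial.C = residue R := RingHom.ext evC
  have hG : G.map ev = g₀ := by
    ext k
    simp only [G, Polynomial.map_add, Polynomial.map_pow, map_X, map_ofFn, coeff_add, coeff_X_pow]
    rcases lt_trichotomy k d with hk | rfl | hk
    · rw [if_neg hk.ne, zero_add, ofFn_coeff_eq_val_of_lt _ hk, Function.comp_apply, evX]
      rfl
    · rw [if_pos rfl, ofFn_coeff_eq_zero_of_ge _ le_rfl, add_zero]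
      exact hg.coeff_natDegree.symm
    · rw [if_neg hk.ne', ofFn_coeff_eq_zero_of_ge _ hk.le, add_zero,
        coeff_eq_zero_of_natDegree_lt hk]
  have hH : H.map ev = h₀ := by
    ext k
    simp only [H, map_ofFn]
    rcases lt_or_ge k (e + 1) with hk | hk
    · rw [ofFn_coeff_eq_val_of_lt _ hk, Function.comp_apply, evX]
      rfl
    · rw [ofFn_coeff_eq_zero_of_ge _ hk, coeff_eq_zero_of_natDegree_lt (hh₀.trans_le hk)]
  have hidx : ∀ k < d + (e + 1), ∃ i, idx i = k := fun k hk =>
    ⟨finSumFinEquiv.symm ⟨k, hk⟩, by simp [idx]⟩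
  obtain ⟨a, ha, haI⟩ := exists_root_of_jacobian (maximalIdeal R) P a₀ (fun i => by
    rw [← residue_eq_zero_iff]
    show ev (P i) = 0
    rw [← coeff_map, Polynomial.map_sub, Polynomial.map_mul, hG, hH, Polynomial.map_map, hevC, hf,
      sub_self, coeff_zero]) (by
    rw [← residue_ne_zero_iff_isUnit, RingHom.map_det]
    intro hdet
    obtain ⟨v, hv0, hv⟩ := Matrix.exists_mulVec_eq_zero_iff.mpr hdet
    apply hv0
    let δg : (ResidueField R)[X] := ofFn d (v ∘ Sum.inl)
    let δh : (ResidueField R)[X] := ofFn (e + 1) (v ∘ Sum.inr)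
    let w : ι → R := fun j => Function.surjInv residue_surjective (v j)
    let D : Derivation R (MvPolynomial ι R) (MvPolynomial ι R) :=
      MvPolynomial.mkDerivation R fun j => MvPolynomial.C (w j)
    have hsumapp : ∀ (F : ι → Derivation R (MvPolynomial ι R) (MvPolynomial ι R))
        (q : MvPolynomial ι R), (∑ j, F j) q = ∑ j, F j q := fun F q => by
      rw [← Derivation.coeFnAddMonoidHom_apply, map_sum, Finset.sum_apply]
      rfl
    have hD : ∀ q, D q = ∑ j, MvPolynomial.C (w j) * MvPolynomial.pderiv j q := by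
      intro q
      have : D = ∑ j, (MvPolynomial.C (w j) : MvPolynomial ι R) • MvPolynomial.pderiv (R := R) j := by
        refine MvPolynomial.derivation_ext fun i => ?_
        rw [MvPolynomial.mkDerivation_X, hsumapp]
        rw [Finset.sum_eq_single i (fun j _ hj => by simp [MvPolynomial.pderiv_X_of_ne hj.symm]) (by simp)]
        simp
      rw [this, hsumapp]
      simp
    have hDG : ∀ k, ev (D (G.coeff k)) = δg.coeff k := by
      intro k
      simp only [G, coeff_add, coeff_X_pow, δg]
      rcases lt_or_ge k d with hk | hk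
      · rw [if_neg hk.ne, zero_add, ofFn_coeff_eq_val_of_lt _ hk, ofFn_coeff_eq_val_of_lt _ hk,
          MvPolynomial.mkDerivation_X, evC]
        exact Function.surjInv_eq residue_surjective _
      · rw [ofFn_coeff_eq_zero_of_ge _ hk, ofFn_coeff_eq_zero_of_ge _ hk, add_zero]
        split_ifs <;> simp
    have hDH : ∀ k, ev (D (H.coeff k)) = δh.coeff k := by
      intro k
      simp only [H, δh]
      rcases lt_or_ge k (e + 1) with hk | hk
      · rw [ofFn_coeff_eq_val_of_lt _ hk, ofFn_coeff_eq_val_of_lt _ hk,
          MvPolynomial.mkDerivation_X, evC]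
        exact Function.surjInv_eq residue_surjective _
      · rw [ofFn_coeff_eq_zero_of_ge _ hk, ofFn_coeff_eq_zero_of_ge _ hk]
        simp
    have hsum : δg * h₀ + g₀ * δh = 0 := by
      ext k
      have hcoeff : (δg * h₀ + g₀ * δh).coeff k = ev (D ((G * H - f.map MvPolynomial.C).coeff k)) := by
        rw [coeff_sub, coeff_map, map_sub, ← MvPolynomial.algebraMap_eq, D.map_algebraMap, sub_zero,
          coeff_mul, map_sum, map_sum, coeff_add, coeff_mul, coeff_mul, ← Finset.sum_add_distrib]
        refine Finset.sum_congr rfl fun x _ => ?_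
        rw [D.leibniz, smul_eq_mul, smul_eq_mul, map_add, map_mul, map_mul, hDG, hDH, ← coeff_map,
          ← coeff_map, hG, hH]
        ring
      rw [coeff_zero]
      rcases lt_or_ge k (d + (e + 1)) with hk | hk
      · obtain ⟨i, rfl⟩ := hidx k hk
        rw [hcoeff, hD, map_sum]
        have := congrFun hv i
        simp only [Matrix.mulVec, dotProduct, RingHom.mapMatrix_apply, Matrix.map_apply,
          Matrix.of_apply, Pi.zero_apply] at this
        rw [← this]
        refine Finset.sum_congr rfl fun j _ => ?_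
        rw [map_mul, evC, Function.surjInv_eq residue_surjective, mul_comm]
        rfl
      · rw [coeff_add, coeff_mul, coeff_mul, ← Finset.sum_add_distrib]
        refine Finset.sum_eq_zero fun x hx => ?_
        rw [Finset.mem_antidiagonal] at hx
        rcases lt_or_ge x.2 (e + 1) with h2 | h2
        · rw [ofFn_coeff_eq_zero_of_ge _ (show d ≤ x.1 by omega),
            coeff_eq_zero_of_natDegree_lt (show g₀.natDegree < x.1 by omega)]
          simp
        · rw [coeff_eq_zero_of_natDegree_lt (hh₀.trans_le h2), ofFn_coeff_eq_zero_of_ge _ h2]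
          simp
    have hg0 : δg = 0 := by
      refine eq_zero_of_dvd_of_degree_lt (hc.dvd_of_dvd_mul_right ⟨-δh, by linear_combination hsum⟩) ?_
      rw [degree_eq_natDegree hg.ne_zero]
      exact ofFn_degree_lt _
    have hh0 : δh = 0 := by
      rw [hg0, zero_mul, zero_add, mul_eq_zero] at hsum
      exact hsum.resolve_left hg.ne_zero
    funext j
    rcases j with j | j
    · exact congrFun (injective_ofFn d (hg0.trans (map_zero (ofFn d)).symm)) j
    · exact congrFun (injective_ofFn (e + 1) (hh0.trans (map_zero (ofFn (e + 1))).symm)) j)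
  let g : R[X] := G.map (MvPolynomial.eval a)
  let h : R[X] := H.map (MvPolynomial.eval a)
  have hgdef : g = X ^ d + ofFn d fun x => a (Sum.inl x) := by
    simp only [g, G, Polynomial.map_add, Polynomial.map_pow, map_X, map_ofFn]
    congr 2
    funext x
    simp
  have hhdef : h = ofFn (e + 1) fun x => a (Sum.inr x) := by
    simp only [h, H, map_ofFn]
    congr 1
    funext x
    simp
  have hgm : g.Monic := by
    rw [hgdef]
    exact monic_X_pow_add (ofFn_degree_lt _)
  have hres : (residue R).comp (MvPolynomial.eval a) = ev :=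
    MvPolynomial.ringHom_ext (fun c => by simp [ev])
      (fun i => by
      simp only [ev, RingHom.comp_apply, MvPolynomial.eval_X]
      exact Ideal.Quotient.eq.mpr (haI i))
  refine ⟨g, h, ?_, hgm, by rw [← hG, ← hres, ← Polynomial.map_map],
    by rw [← hH, ← hres, ← Polynomial.map_map]⟩
  ext k
  rcases lt_or_ge k (d + (e + 1)) with hk | hk
  · obtain ⟨i, rfl⟩ := hidx k hk
    have := ha i
    rw [← coeff_map, Polynomial.map_sub, Polynomial.map_mul, Polynomial.map_map, coeff_sub,
      sub_eq_zero] at this
    rw [this, show (MvPolynomial.eval a).comp MvPolynomial.C = RingHom.id R from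
      RingHom.ext fun c => by simp, Polynomial.map_id]
  · rw [coeff_eq_zero_of_natDegree_lt (hfe.trans_le hk), hgdef, hhdef, coeff_mul]
    refine (Finset.sum_eq_zero fun x hx => ?_).symm
    rw [Finset.mem_antidiagonal] at hx
    rcases lt_or_ge x.2 (e + 1) with h2 | h2
    · rw [coeff_add, coeff_X_pow, if_neg (show x.1 ≠ d by omega),
        ofFn_coeff_eq_zero_of_ge _ (show d ≤ x.1 by omega), add_zero, zero_mul]
    · rw [ofFn_coeff_eq_zero_of_ge _ h2, mul_zero]

end Groth.Agent.HenselLib
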