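import Groth.Agent.HenselLib.Split
import Mathlib.AlgebraicGeometry.ZariskisMainTheorem
import Mathlib.AlgebraicGeometry.PullbackCarrier
import Mathlib.RingTheory.Idempotents

/-!
# The finite part of a quasi-finite scheme over a henselian local ring
-/

set_option autoImplicit false
set_option linter.style.haveILetI false
set_option backward.isDefEq.respectTransparency false
set_option backward.isDefEq.respectTransparency.types false

universe u

namespace Groth.Agent.HenselLib.FinitePart

open AlgebraicGeometry CategoryTheory in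
theorem exists_finite_nhd (R : Type u) [CommRing R] [HenselianLocalRing R]
    {X : Scheme.{u}} (f : X ⟶ Spec (CommRingCat.of R))
    [LocallyQuasiFinite f] [LocallyOfFiniteType f] (x : X) (hx : f.base x = IsLocalRing.closedPoint R) :
    ∃ W : X.Opens, x ∈ W ∧ IsFinite (W.ι ≫ f) := by
  obtain ⟨U, hU, hsU, -⟩ := exists_isAffineOpen_mem_and_subset (X := X) (x := x) (U := ⊤) trivial
  obtain ⟨φ, hφ⟩ := Spec.map_surjective (hU.fromSpec ≫ f)
  haveI := hU.isOpenImmersion_fromSpec
  haveI hft : LocallyOfFiniteType (Spec.map φ) := hφ ▸ inferInstance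
  haveI hqf : LocallyQuasiFinite (Spec.map φ) := hφ ▸ inferInstance
  rw [HasRingHomProperty.Spec_iff (P := @LocallyOfFiniteType)] at hft
  rw [HasRingHomProperty.Spec_iff (P := @LocallyQuasiFinite)] at hqf
  algebraize [φ.hom]
  haveI : Algebra.QuasiFinite R Γ(X, U) := hqf
  let q : PrimeSpectrum Γ(X, U) := hU.primeIdealOf ⟨x, hsU⟩
  have hq : hU.fromSpec q = x := hU.fromSpec_primeIdealOf ⟨x, hsU⟩
  have hqm : q.comap (algebraMap R Γ(X, U)) = IsLocalRing.closedPoint R := by
    have : f (hU.fromSpec q) = PrimeSpectrum.comap (algebraMap R Γ(X, U)) q := by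
      rw [← Scheme.Hom.comp_apply, ← hφ]; rfl
    rw [← this, hq]; exact hx
  have hle : (IsLocalRing.maximalIdeal R).map (algebraMap R Γ(X, U)) ≤ q.asIdeal := by
    rw [Ideal.map_le_iff_le_comap]
    exact (congrArg PrimeSpectrum.asIdeal hqm).ge
  obtain ⟨ε, hε, hεq, hfg⟩ := Groth.Agent.HenselLib.exists_idem_at (R := R) q.asIdeal hle
  set B := Γ(X, U) ⧸ Ideal.span ({1 - ε} : Set Γ(X, U))
  haveI hfinB : Module.Finite R B := by
    refine ⟨?_⟩
    have htop : (⊤ : Submodule R B) =
        (LinearMap.range (LinearMap.mulLeft R ε)).map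
          (Ideal.Quotient.mkₐ R (Ideal.span ({1 - ε} : Set Γ(X, U)))).toLinearMap := by
      refine (top_unique fun y _ => ?_).symm
      obtain ⟨y, rfl⟩ := Ideal.Quotient.mk_surjective y
      refine ⟨ε * y, ⟨y, rfl⟩, Ideal.Quotient.eq.mpr (Ideal.mem_span_singleton'.mpr ⟨-y, ?_⟩)⟩
      ring
    rw [htop]
    exact hfg.map _
  let π : Γ(X, U) →+* B := Ideal.Quotient.mk _
  haveI : IsLocalization.Away ε B :=
    IsLocalization.away_of_isIdempotentElem hε (Ideal.mk_ker) Ideal.Quotient.mk_surjective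
  obtain ⟨w, hw⟩ : q ∈ Set.range (PrimeSpectrum.comap π) := by
    rw [show π = algebraMap _ _ from rfl, PrimeSpectrum.localization_away_comap_range _ ε]
    exact hεq
  haveI : IsOpenImmersion (Spec.map (CommRingCat.ofHom π)) := IsOpenImmersion.of_isLocalization ε
  let j := Spec.map (CommRingCat.ofHom π) ≫ hU.fromSpec
  haveI : IsFinite (j ≫ f) := by
    rw [Category.assoc, ← hφ, ← Spec.map_comp, IsFinite.SpecMap_iff]
    exact RingHom.finite_algebraMap.2 hfinB
  refine ⟨j.opensRange, ⟨w, by rw [Scheme.Hom.comp_apply, ← hq, ← hw]; rfl⟩, ?_⟩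
  rw [← j.isoOpensRange_inv_comp, Category.assoc]
  infer_instance

open AlgebraicGeometry CategoryTheory in
/-- A universally closed piece lies in every open containing its closed fibre. -/
theorem range_subset_of_closedFibre {R : Type u} [CommRing R] [IsLocalRing R] {A X : Scheme.{u}}
    (m : A ⟶ X) (f : X ⟶ Spec (CommRingCat.of R)) [UniversallyClosed (m ≫ f)] (B : X.Opens)
    (hB : ∀ a : A, f (m a) = IsLocalRing.closedPoint R → m a ∈ B) : Set.range m ⊆ B := by
  rintro _ ⟨a, rfl⟩
  by_contra haB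
  have hc : IsClosed ((m ≫ f) '' {a | m a ∉ B}) :=
    (m ≫ f).isClosedMap _ ((B.2.preimage m.continuous).isClosed_compl)
  obtain ⟨a', ha', hae⟩ := (IsLocalRing.specializes_closedPoint ((m ≫ f) a)).mem_closed hc ⟨a, haB, rfl⟩
  exact ha' (hB _ ((Scheme.Hom.comp_apply _ _ _).symm.trans hae))

end Groth.Agent.HenselLib.FinitePart
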