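import Groth.Agent.HenselLib.Nbhd
import Groth.Agent.HenselLib.Ops
import Mathlib.Algebra.Colimit.DirectLimit
import Mathlib.RingTheory.Etale.StandardEtale
import Mathlib.RingTheory.Localization.AtPrime.Basic

/-!
# The colimit of étale algebras with a point in a field

For a ring `R` and a field `K` over `R`, generated by simple roots of monic polynomials, we
construct the henselian local `R`-algebra `H` with residue field `K` which is the colimit of all
étale `R`-algebras with a `K`-point.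
-/

universe u

open Polynomial
open scoped TensorProduct

namespace Groth.Agent.HenselLib

variable (R : Type u) [CommRing R] (K : Type u) [Field K] [Algebra R K]

/-- `K` is obtained from the image of `R` by fractions and simple roots of monic polynomials. -/
def GeneratedBySimpleRoots : Prop :=
  ∀ a : K, ∃ (c : R) (F : R[X]), algebraMap R K c ≠ 0 ∧ F.Monic ∧
    aeval (algebraMap R K c * a) F = 0 ∧ aeval (algebraMap R K c * a) (derivative F) ≠ 0

/-- `H`, with `ρ : H → K`, is the henselian local colimit of the étale algebras with a `K`-point. -/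
structure IsNbhdColim (H : Type u) [CommRing H] [Algebra R H] (ρ : H →ₐ[R] K) : Prop where
  surj : Function.Surjective ρ
  isUnit : ∀ x, ρ x ≠ 0 → IsUnit x
  henselian : HenselianLocalRing H
  exists_rep : ∀ x : H, ∃ (C : Type u) (_ : CommRing C) (_ : Algebra R C) (_ : Algebra.Etale R C)
    (τ : C →ₐ[R] H) (c : C), τ c = x
  exists_kill : ∀ (C : Type u) [CommRing C] [Algebra R C] [Algebra.Etale R C] (τ : C →ₐ[R] H) (c : C),
    τ c = 0 → ∃ (D : Type u) (_ : CommRing D) (_ : Algebra R D) (_ : Algebra.Etale R D)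
      (φ : C →ₐ[R] D) (τ' : D →ₐ[R] H), τ'.comp φ = τ ∧ φ c = 0

/-- Index: an étale algebra in a small universe with a `K`-point. -/
structure NbhdIndex where
  n : ℕ
  J : Ideal (MvPolynomial (Fin n) R)
  etale : Algebra.Etale R (MvPolynomial (Fin n) R ⧸ J)
  σ : (MvPolynomial (Fin n) R ⧸ J) →ₐ[R] K

namespace NbhdIndex

variable {R K} (i : NbhdIndex R K)

/-- The étale algebra. -/
def C : Type u := MvPolynomial (Fin i.n) R ⧸ i.J

noncomputable instance : CommRing i.C :=
  inferInstanceAs (CommRing (MvPolynomial (Fin i.n) R ⧸ i.J))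

noncomputable instance : Algebra R i.C :=
  inferInstanceAs (Algebra R (MvPolynomial (Fin i.n) R ⧸ i.J))

instance : Algebra.Etale R i.C := i.etale

/-- The point, as a map out of the étale algebra. -/
noncomputable def pt : i.C →ₐ[R] K := i.σ

/-- The point. -/
noncomputable abbrev q : Ideal i.C := RingHom.ker i.pt.toRingHom

instance : i.q.IsPrime := RingHom.ker_isPrime _

/-- The local ring at the point. -/
def G : Type u := Localization.AtPrime i.q

noncomputable instance : CommRing i.G := inferInstanceAs (CommRing (Localization.AtPrime i.q))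

noncomputable instance : Algebra i.C i.G :=
  inferInstanceAs (Algebra i.C (Localization.AtPrime i.q))

noncomputable instance : Algebra R i.G :=
  inferInstanceAs (Algebra R (Localization.AtPrime i.q))

instance : IsScalarTower R i.C i.G :=
  inferInstanceAs (IsScalarTower R i.C (Localization.AtPrime i.q))

instance : IsLocalization i.q.primeCompl i.G :=
  inferInstanceAs (IsLocalization i.q.primeCompl (Localization.AtPrime i.q))

instance : IsLocalRing i.G := inferInstanceAs (IsLocalRing (Localization.AtPrime i.q))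

/-- The canonical map. -/
noncomputable abbrev toG : i.C →ₐ[R] i.G := IsScalarTower.toAlgHom R i.C i.G

theorem pt_ne_zero (s : i.q.primeCompl) : IsUnit (i.pt s) :=
  isUnit_iff_ne_zero.mpr fun h => s.2 h

/-- The residue map. -/
noncomputable def ρ : i.G →ₐ[R] K := IsLocalization.liftAlgHom i.pt_ne_zero

theorem ρ_toG (c : i.C) : i.ρ (i.toG c) = i.pt c := IsLocalization.lift_eq _ c

theorem isUnit_of_ρ_ne_zero (x : i.G) (hx : i.ρ x ≠ 0) : IsUnit x := by
  obtain ⟨c, s, rfl⟩ := IsLocalization.exists_mk'_eq i.q.primeCompl x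
  rw [IsLocalization.AtPrime.isUnit_mk'_iff i.G i.q]
  intro hc
  apply hx
  show IsLocalization.lift _ _ = 0
  rw [IsLocalization.lift_mk'_spec, mul_zero]
  exact hc

/-- A map of algebras compatible with the points extends to the local rings. -/
theorem exists_extend {H : Type*} [CommRing H] [Algebra R H] (ρH : H →ₐ[R] K)
    (hH : ∀ x, ρH x ≠ 0 → IsUnit x) (φ : i.C →ₐ[R] H) (hφ : ρH.comp φ = i.pt) :
    ∃ ψ : i.G →ₐ[R] H, ρH.comp ψ = i.ρ ∧ ψ.comp i.toG = φ := by
  have hu : ∀ s : i.q.primeCompl, IsUnit (φ s) := fun s => hH _ (by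
    rw [← AlgHom.comp_apply, hφ]
    exact (i.pt_ne_zero s).ne_zero)
  have h1 : ∀ c, (IsLocalization.liftAlgHom hu : i.G →ₐ[R] H) (i.toG c) = φ c := fun c =>
    IsLocalization.lift_eq _ c
  refine ⟨IsLocalization.liftAlgHom hu, IsLocalization.algHom_ext i.q.primeCompl
    (AlgHom.ext fun c => ?_), AlgHom.ext h1⟩
  show ρH ((IsLocalization.liftAlgHom hu : i.G →ₐ[R] H) (i.toG c)) = i.ρ (i.toG c)
  rw [h1, i.ρ_toG, ← AlgHom.comp_apply, hφ]

/-- Maps of local rings compatible with the points are unique. -/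
theorem hom_ext {H : Type*} [CommRing H] [IsLocalRing H] [Algebra R H] (ρH : H →ₐ[R] K)
    (hH : ∀ x, ρH x ≠ 0 → IsUnit x) {φ ψ : i.G →ₐ[R] H} (h : ρH.comp φ = ρH.comp ψ) : φ = ψ := by
  refine IsLocalization.algHom_ext i.q.primeCompl (algHom_ext_of_point ρH hH (AlgHom.ext fun c => ?_))
  exact AlgHom.congr_fun h (i.toG c)

instance : LE (NbhdIndex R K) :=
  ⟨fun i j => ∃ φ : i.G →ₐ[R] j.G, j.ρ.comp φ = i.ρ⟩

instance : Preorder (NbhdIndex R K) where
  le_refl i := ⟨AlgHom.id R _, AlgHom.comp_id _⟩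
  le_trans i j k := fun ⟨φ, hφ⟩ ⟨ψ, hψ⟩ => ⟨ψ.comp φ, by rw [← AlgHom.comp_assoc, hψ, hφ]⟩

/-- The transition map. -/
noncomputable def map (i j : NbhdIndex R K) (h : i ≤ j) : i.G →ₐ[R] j.G := Exists.choose h

theorem ρ_map {i j : NbhdIndex R K} (h : i ≤ j) : j.ρ.comp (map i j h) = i.ρ := Exists.choose_spec h

theorem map_eq {i j : NbhdIndex R K} (h : i ≤ j) {φ : i.G →ₐ[R] j.G} (hφ : j.ρ.comp φ = i.ρ) :
    φ = map i j h :=
  i.hom_ext j.ρ j.isUnit_of_ρ_ne_zero (hφ.trans (ρ_map h).symm)

instance : DirectedSystem (fun i : NbhdIndex R K => i.G) (map · · ·) where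
  map_self i x := by
    rw [← map_eq (le_refl i) (φ := AlgHom.id R _) (AlgHom.comp_id _)]
    rfl
  map_map {k j i} hij hjk x := by
    rw [← map_eq (hij.trans hjk) (φ := (map j k hjk).comp (map i j hij))
      (by rw [← AlgHom.comp_assoc, ρ_map, ρ_map])]
    rfl

/-- Every étale algebra with a point is isomorphic to an index. -/
theorem exists_index (T : Type u) [CommRing T] [Algebra R T] [Algebra.Etale R T] (σ : T →ₐ[R] K) :
    ∃ (j : NbhdIndex R K) (e : T ≃ₐ[R] j.C), j.pt.comp e.toAlgHom = σ := by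
  obtain ⟨n, f, hf, -⟩ := Algebra.FinitePresentation.out (R := R) (A := T)
  let e := Ideal.quotientKerAlgEquivOfSurjective hf
  refine ⟨⟨n, RingHom.ker f, Algebra.Etale.of_equiv e.symm, σ.comp e.toAlgHom⟩, e.symm,
    AlgHom.ext fun t => ?_⟩
  show σ (e (e.symm t)) = σ t
  rw [e.apply_symm_apply]

/-- A map of étale algebras compatible with the points gives `≤`. -/
theorem le_of_algHom {i j : NbhdIndex R K} (φ : i.C →ₐ[R] j.C) (h : j.pt.comp φ = i.pt) : i ≤ j := by
  obtain ⟨ψ, hψ, -⟩ := i.exists_extend j.ρ j.isUnit_of_ρ_ne_zero (j.toG.comp φ)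
    (AlgHom.ext fun c => (j.ρ_toG (φ c)).trans (AlgHom.congr_fun h c))
  exact ⟨ψ, hψ⟩

theorem exists_ge (i j : NbhdIndex R K) : ∃ k, i ≤ k ∧ j ≤ k := by
  haveI : Algebra.Etale R (i.C ⊗[R] j.C) := Algebra.Etale.comp R i.C (i.C ⊗[R] j.C)
  obtain ⟨k, e, he⟩ := exists_index (i.C ⊗[R] j.C) (Algebra.TensorProduct.productMap i.pt j.pt)
  refine ⟨k, le_of_algHom (e.toAlgHom.comp Algebra.TensorProduct.includeLeft) ?_,
    le_of_algHom (e.toAlgHom.comp Algebra.TensorProduct.includeRight) ?_⟩
  · rw [← AlgHom.comp_assoc, he, Algebra.TensorProduct.productMap_left]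
  · rw [← AlgHom.comp_assoc, he, Algebra.TensorProduct.productMap_right]

instance : IsDirectedOrder (NbhdIndex R K) := ⟨exists_ge⟩

instance : Nonempty (NbhdIndex R K) := ⟨(exists_index R (Algebra.ofId R K)).choose⟩

variable (R K)

/-- The colimit of the local rings. -/
def Colim : Type u := DirectLimit (fun i : NbhdIndex R K => i.G) (map · · ·)

noncomputable instance : CommRing (Colim R K) :=
  inferInstanceAs (CommRing (DirectLimit (fun i : NbhdIndex R K => i.G) (map · · ·)))

noncomputable instance : Algebra R (Colim R K) :=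
  inferInstanceAs (Algebra R (DirectLimit (fun i : NbhdIndex R K => i.G) (map · · ·)))

variable {R K}

/-- The map into the colimit. -/
noncomputable def of (i : NbhdIndex R K) : i.G →ₐ[R] Colim R K :=
  { DirectLimit.Ring.of (fun i : NbhdIndex R K => i.G) (map · · ·) i with
    commutes' := fun r => (DirectLimit.algebraMap_def i r).symm }

theorem of_map {i j : NbhdIndex R K} (h : i ≤ j) (x : i.G) : of j (map i j h x) = of i x :=
  (DirectLimit.eq_of_le (f := fun i j h => map i j h) ⟨i, x⟩ j h).symm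

theorem exists_of (x : Colim R K) : ∃ (i : NbhdIndex R K) (y : i.G), of i y = x := by
  obtain ⟨i, y, rfl⟩ := DirectLimit.exists_eq_mk (fun i j h => map i j h) x
  exact ⟨i, y, rfl⟩

/-- The residue map of the colimit. -/
noncomputable def ρC : Colim R K →ₐ[R] K :=
  let L := DirectLimit.Ring.lift (fun i : NbhdIndex R K => i.G) (map · · ·) K
    (fun i => i.ρ.toRingHom) (fun _ _ h x => AlgHom.congr_fun (ρ_map h) x)
  { L with
    commutes' := fun r => by
      obtain ⟨i⟩ := (inferInstance : Nonempty (NbhdIndex R K))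
      exact (congrArg L (DirectLimit.algebraMap_def i r)).trans (i.ρ.commutes r) }

theorem ρC_of (i : NbhdIndex R K) (x : i.G) : ρC (of i x) = i.ρ x := rfl

theorem isUnit_of_ρC_ne_zero (x : Colim R K) (hx : ρC x ≠ 0) : IsUnit x := by
  obtain ⟨i, y, rfl⟩ := exists_of x
  exact (i.isUnit_of_ρ_ne_zero y hx).map (of i)

instance : IsLocalRing (Colim R K) := by
  haveI : Nontrivial (Colim R K) :=
    RingHom.domain_nontrivial (ρC (R := R) (K := K)).toRingHom
  refine IsLocalRing.of_isUnit_or_isUnit_one_sub_self fun x => ?_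
  rcases eq_or_ne (ρC x) 0 with h | h
  · exact .inr (isUnit_of_ρC_ne_zero _ (by rw [map_sub, map_one, h, sub_zero]; exact one_ne_zero))
  · exact .inl (isUnit_of_ρC_ne_zero x h)

theorem exists_lift (T : Type u) [CommRing T] [Algebra R T] [Algebra.Etale R T] (σ : T →ₐ[R] K) :
    ∃ τ : T →ₐ[R] Colim R K, ρC.comp τ = σ := by
  obtain ⟨j, e, he⟩ := exists_index T σ
  refine ⟨((of j).comp j.toG).comp e.toAlgHom, AlgHom.ext fun t => ?_⟩
  show ρC (of j (j.toG (e t))) = σ t
  rw [ρC_of, ρ_toG, ← he]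
  rfl

theorem exists_rep (x : Colim R K) : ∃ (C : Type u) (_ : CommRing C) (_ : Algebra R C)
    (_ : Algebra.Etale R C) (τ : C →ₐ[R] Colim R K) (c : C), τ c = x := by
  obtain ⟨i, y, rfl⟩ := exists_of x
  obtain ⟨c, s, rfl⟩ := IsLocalization.exists_mk'_eq i.q.primeCompl y
  let ι : Localization.Away (s : i.C) →ₐ[R] i.G := IsLocalization.Away.liftAlgHom (s : i.C)
    (f := i.toG) (IsLocalization.map_units i.G s)
  have hι : ∀ d, ι (algebraMap i.C _ d) = i.toG d := fun d => IsLocalization.lift_eq _ d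
  obtain ⟨w, hw⟩ := (IsLocalization.Away.algebraMap_isUnit (S := Localization.Away (s : i.C))
    (s : i.C)).exists_right_inv
  refine ⟨Localization.Away (s : i.C), inferInstance, inferInstance, inferInstance,
    (of i).comp ι, algebraMap i.C _ c * w, congrArg (of i) ?_⟩
  rw [eq_comm, IsLocalization.mk'_eq_iff_eq_mul]
  have h1 := congrArg ι hw
  rw [map_mul, hι, map_one] at h1
  show i.toG c = ι (algebraMap i.C _ c * w) * i.toG s
  rw [map_mul, hι]
  linear_combination (-i.toG c) * h1

theorem exists_kill (C : Type u) [CommRing C] [Algebra R C] [Algebra.Etale R C]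
    (τ : C →ₐ[R] Colim R K) (c : C) (hc : τ c = 0) :
    ∃ (D : Type u) (_ : CommRing D) (_ : Algebra R D) (_ : Algebra.Etale R D)
      (φ : C →ₐ[R] D) (τ' : D →ₐ[R] Colim R K), τ'.comp φ = τ ∧ φ c = 0 := by
  obtain ⟨j, e, he⟩ := exists_index C (ρC.comp τ)
  have hτ : ((of j).comp j.toG).comp e.toAlgHom = τ :=
    algHom_ext_of_point ρC isUnit_of_ρC_ne_zero (AlgHom.ext fun t => by
      show ρC (of j (j.toG (e t))) = _
      rw [ρC_of, ρ_toG, ← he]
      rfl)
  have h0 : (⟦⟨j, j.toG (e c)⟩⟧ : Colim R K) = 0 := (AlgHom.congr_fun hτ c).trans hc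
  obtain ⟨k, hjk, hk⟩ := (DirectLimit.exists_eq_zero (f := fun i j h => map i j h) _).mp h0
  obtain ⟨s, hsM, φ', hφ'⟩ := exists_factor_away k.q.primeCompl (G := k.G)
    (((map j k hjk).comp j.toG).comp e.toAlgHom)
  let ι : Localization.Away s →ₐ[R] k.G := IsLocalization.Away.liftAlgHom s
    (f := k.toG) (IsLocalization.map_units k.G (⟨s, hsM⟩ : k.q.primeCompl))
  have hι : ∀ d, ι (algebraMap k.C _ d) = algebraMap k.C k.G d := fun d => IsLocalization.lift_eq _ d
  have hιφ := hφ' ι hι
  have hc0 : ι (φ' c) = 0 := (AlgHom.congr_fun hιφ c).trans hk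
  obtain ⟨d, ⟨_, m, rfl⟩, hd⟩ := IsLocalization.exists_mk'_eq (Submonoid.powers s) (φ' c)
  have hd0 : algebraMap k.C k.G d = 0 := by
    rw [← hι, ← IsLocalization.mk'_spec (Localization.Away s) d
      (⟨s ^ m, m, rfl⟩ : Submonoid.powers s), hd, map_mul, hc0, zero_mul]
  obtain ⟨⟨t, ht⟩, htd⟩ := (IsLocalization.map_eq_zero_iff k.q.primeCompl k.G d).mp hd0
  set L := Localization.Away (algebraMap k.C (Localization.Away s) t)
  let ι' : L →ₐ[R] k.G := IsLocalization.Away.liftAlgHom _ (f := ι) (by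
    rw [hι]
    exact IsLocalization.map_units k.G (⟨t, ht⟩ : k.q.primeCompl))
  have hι' : ∀ z, ι' (algebraMap (Localization.Away s) L z) = ι z := fun z =>
    IsLocalization.lift_eq _ z
  refine ⟨L, inferInstance, inferInstance, inferInstance,
    (IsScalarTower.toAlgHom R (Localization.Away s) L).comp φ', (of k).comp ι', ?_, ?_⟩
  · rw [← hτ]
    refine AlgHom.ext fun z => ?_
    show of k (ι' (algebraMap _ L (φ' z))) = of j (j.toG (e z))
    rw [hι', ← of_map hjk]
    exact congrArg (of k) (AlgHom.congr_fun hιφ z)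
  · show algebraMap _ L (φ' c) = 0
    refine (IsLocalization.map_eq_zero_iff
      (Submonoid.powers (algebraMap k.C (Localization.Away s) t)) L _).mpr
      ⟨⟨_, 1, pow_one _⟩, ?_⟩
    refine ((IsLocalization.map_units (Localization.Away s)
      (⟨s ^ m, m, rfl⟩ : Submonoid.powers s))).mul_left_cancel ?_
    have h1 := IsLocalization.mk'_spec (Localization.Away s) d
      (⟨s ^ m, m, rfl⟩ : Submonoid.powers s)
    rw [hd] at h1
    rw [mul_zero, mul_left_comm, mul_comm (algebraMap k.C _ (s ^ m)), h1, ← map_mul]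
    show algebraMap k.C _ (t * d) = 0
    rw [show t * d = 0 from htd, map_zero]

end NbhdIndex

variable {R K}

/-- Finitely many elements come from one étale algebra. -/
theorem exists_common_rep {H : Type u} [CommRing H] [Algebra R H]
    (hrep : ∀ x : H, ∃ (C : Type u) (_ : CommRing C) (_ : Algebra R C) (_ : Algebra.Etale R C)
      (τ : C →ₐ[R] H) (c : C), τ c = x) (s : Finset H) :
    ∃ (C : Type u) (_ : CommRing C) (_ : Algebra R C) (_ : Algebra.Etale R C) (τ : C →ₐ[R] H),
      ∀ x ∈ s, x ∈ τ.range := by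
  classical
  induction s using Finset.induction_on with
  | empty => exact ⟨R, inferInstance, inferInstance, inferInstance, Algebra.ofId R H, by simp⟩
  | @insert a s _ ih =>
    obtain ⟨C, _, _, _, τ, hτ⟩ := ih
    obtain ⟨D, _, _, _, τ', d, rfl⟩ := hrep a
    haveI : Algebra.Etale R (C ⊗[R] D) := Algebra.Etale.comp R C (C ⊗[R] D)
    refine ⟨C ⊗[R] D, inferInstance, inferInstance, inferInstance,
      Algebra.TensorProduct.productMap τ τ', fun x hx => ?_⟩
    rcases Finset.mem_insert.mp hx with rfl | hx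
    · exact ⟨1 ⊗ₜ d, by simp⟩
    · obtain ⟨c, rfl⟩ := hτ x hx
      exact ⟨c ⊗ₜ 1, by simp⟩

/-- A monic polynomial over an étale algebra with a simple root at the point gives an étale
neighbourhood with a root. -/
theorem exists_root_lift {C : Type u} [CommRing C] [Algebra R C] [Algebra.Etale R C] {H : Type u}
    [CommRing H] [IsLocalRing H] [Algebra R H] (ρ : H →ₐ[R] K) (hρ : ∀ x, ρ x ≠ 0 → IsUnit x)
    (hlift : ∀ (T : Type u) [CommRing T] [Algebra R T] [Algebra.Etale R T] (σ : T →ₐ[R] K),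
      ∃ τ : T →ₐ[R] H, ρ.comp τ = σ) (τ : C →ₐ[R] H) {F : C[X]} (hF : F.Monic) (a : K)
    (h₁ : F.eval₂ (ρ.comp τ).toRingHom a = 0)
    (h₂ : (derivative F).eval₂ (ρ.comp τ).toRingHom a ≠ 0) :
    ∃ b : H, F.eval₂ τ.toRingHom b = 0 ∧ ρ b = a := by
  letI : Algebra C K := (ρ.comp τ).toRingHom.toAlgebra
  haveI : IsScalarTower R C K := IsScalarTower.of_algebraMap_eq fun r => ((ρ.comp τ).commutes r).symm
  let P : StandardEtalePair C :=
    { f := F, monic_f := hF, g := derivative F, cond := ⟨1, 0, 1, by ring⟩ }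
  have hmap : P.HasMap a := ⟨h₁, isUnit_iff_ne_zero.mpr h₂⟩
  letI : Algebra R P.Ring := ((algebraMap C P.Ring).comp (algebraMap R C)).toAlgebra
  haveI : IsScalarTower R C P.Ring := IsScalarTower.of_algebraMap_eq fun _ => rfl
  haveI : Algebra.Etale R P.Ring := Algebra.Etale.comp R C P.Ring
  obtain ⟨τ', hτ'⟩ := hlift P.Ring ((P.lift a hmap).restrictScalars R)
  have hC : τ'.comp (IsScalarTower.toAlgHom R C P.Ring) = τ :=
    algHom_ext_of_point ρ hρ (AlgHom.ext fun c => by
      show ρ (τ' (algebraMap C P.Ring c)) = ρ (τ c)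
      rw [← AlgHom.comp_apply, hτ']
      exact (P.lift a hmap).commutes c)
  refine ⟨τ' P.X, ?_, ?_⟩
  · rw [show τ.toRingHom = τ'.toRingHom.comp (algebraMap C P.Ring) by rw [← hC]; rfl]
    show eval₂ (τ'.toRingHom.comp (algebraMap C P.Ring)) (τ'.toRingHom P.X) F = 0
    rw [← Polynomial.hom_eval₂, ← Polynomial.aeval_def, show aeval P.X F = 0 from P.hasMap_X.1,
      map_zero]
  · have := AlgHom.congr_fun hτ' P.X
    exact this.trans (P.lift_X a hmap)

variable (R K)

/-- Existence. -/
theorem exists_isNbhdColim (hK : GeneratedBySimpleRoots R K) :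
    ∃ (H : Type u) (_ : CommRing H) (_ : Algebra R H) (ρ : H →ₐ[R] K), IsNbhdColim R K H ρ := by
  refine ⟨NbhdIndex.Colim R K, inferInstance, inferInstance, NbhdIndex.ρC,
    ⟨fun a => ?_, NbhdIndex.isUnit_of_ρC_ne_zero, ?_, NbhdIndex.exists_rep, NbhdIndex.exists_kill⟩⟩
  · obtain ⟨c, F, hc, hF, h₁, h₂⟩ := hK a
    obtain ⟨b, -, hb⟩ := exists_root_lift (R := R) NbhdIndex.ρC NbhdIndex.isUnit_of_ρC_ne_zero
      NbhdIndex.exists_lift (Algebra.ofId R _) hF (algebraMap R K c * a)
      (by rw [show (NbhdIndex.ρC.comp (Algebra.ofId R (NbhdIndex.Colim R K))).toRingHom =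
            algebraMap R K from RingHom.ext fun r => AlgHom.commutes _ r]
          exact h₁)
      (by rw [show (NbhdIndex.ρC.comp (Algebra.ofId R (NbhdIndex.Colim R K))).toRingHom =
            algebraMap R K from RingHom.ext fun r => AlgHom.commutes _ r]
          exact h₂)
    have hu : IsUnit (algebraMap R (NbhdIndex.Colim R K) c) :=
      NbhdIndex.isUnit_of_ρC_ne_zero _ (by rw [AlgHom.commutes]; exact hc)
    obtain ⟨w, hw⟩ := hu.exists_left_inv
    refine ⟨w * b, ?_⟩
    have h3 := congrArg (NbhdIndex.ρC (R := R) (K := K)) hw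
    rw [map_mul, AlgHom.commutes, map_one] at h3
    rw [map_mul, hb, ← mul_assoc, h3, one_mul]
  · refine ⟨fun f hf a₀ h₁ h₂ => ?_⟩
    classical
    obtain ⟨C, _, _, _, τ, hτ⟩ := exists_common_rep NbhdIndex.exists_rep f.coeffs
    have hmem : f ∈ Polynomial.lifts τ.toRingHom := by
      rw [Polynomial.lifts_iff_coeff_lifts]
      intro n
      by_cases hn : f.coeff n = 0
      · exact ⟨0, by rw [map_zero, hn]⟩
      · exact hτ _ (Polynomial.coeff_mem_coeffs hn)
    obtain ⟨F, hFmap, -, hF⟩ := Polynomial.lifts_and_natDegree_eq_and_monic hmem hf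
    have hev : ∀ (G : C[X]) (g : (NbhdIndex.Colim R K)[X]), G.map τ.toRingHom = g →
        G.eval₂ (NbhdIndex.ρC.comp τ).toRingHom (NbhdIndex.ρC a₀) = NbhdIndex.ρC (g.eval a₀) := by
      rintro G _ rfl
      rw [Polynomial.eval_map]
      exact (Polynomial.hom_eval₂ G τ.toRingHom NbhdIndex.ρC.toRingHom a₀).symm
    obtain ⟨b, hb, hba⟩ := exists_root_lift NbhdIndex.ρC NbhdIndex.isUnit_of_ρC_ne_zero
      NbhdIndex.exists_lift τ hF (NbhdIndex.ρC a₀)
      (by
        rw [hev F f hFmap]
        by_contra hne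
        exact h₁ (NbhdIndex.isUnit_of_ρC_ne_zero _ hne))
      (by
        rw [hev (derivative F) (derivative f) (by rw [← derivative_map, hFmap])]
        exact (h₂.map NbhdIndex.ρC).ne_zero)
    refine ⟨b, by rw [IsRoot, ← hFmap, eval_map]; exact hb, fun hu => ?_⟩
    exact (hu.map NbhdIndex.ρC).ne_zero (by rw [map_sub, hba, sub_self])

end Groth.Agent.HenselLib
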