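import Groth.Agent.HenselLib.HenselizationProps
import Groth.Agent.HenselLib.EtaleNormal
import Groth.Agent.ResExt.Criterion
import Mathlib.RingTheory.Polynomial.ScaleRoots

/-!
# Noetherian, reduced and normal henselizations
-/

universe u

open IsLocalRing

namespace Groth.Agent.HenselLib

variable {R : Type u} [CommRing R] {K : Type u} [Field K] [Algebra R K]
variable {H : Type u} [CommRing H] [Algebra R H] {ρ : H →ₐ[R] K}

namespace IsNbhdColim

variable (h : IsNbhdColim R K H ρ)
include h

/-- Finite subsets come from essentially etale local algebras. -/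
theorem exists_local_rep [IsLocalRing R] (hm : ∀ r ∈ maximalIdeal R, algebraMap R K r = 0)
    (s : Finset H) : ∃ (C : Type u) (_ : CommRing C) (_ : Algebra R C) (_ : Algebra.Etale R C)
      (q : Ideal C) (_ : q.IsPrime) (θ : Localization.AtPrime q →ₐ[R] H),
      q.comap (algebraMap R C) = maximalIdeal R ∧ ∀ x ∈ s, x ∈ θ.range := by
  obtain ⟨C, _, _, _, τ, hτ⟩ := h.common_rep s
  let q : Ideal C := RingHom.ker (ρ.comp τ).toRingHom
  have : q.IsPrime := RingHom.ker_isPrime _
  have hu : ∀ y : q.primeCompl, IsUnit (τ y) := fun y => h.isUnit _ y.2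
  refine ⟨C, _, _, inferInstance, q, this, IsLocalization.liftAlgHom hu, ?_, fun x hx => ?_⟩
  · refine ((maximalIdeal.isMaximal R).eq_of_le (Ideal.comap_ne_top _ ‹q.IsPrime›.ne_top)
      fun r hr => ?_).symm
    show ρ (τ (algebraMap R C r)) = 0
    rw [τ.commutes, ρ.commutes]
    exact hm r hr
  · obtain ⟨c, hc⟩ := hτ x hx
    exact ⟨algebraMap C _ c, (IsLocalization.lift_eq _ c).trans hc⟩

/-- The colimit over a Noetherian local ring is Noetherian. -/
theorem isNoetherianRing [IsLocalRing R] [IsNoetherianRing R]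
    (hm : ∀ r ∈ maximalIdeal R, algebraMap R K r = 0) : IsNoetherianRing H := by
  have := h.isLocalRing
  have := h.flat
  classical
  refine Groth.Agent.ResExt.isNoetherianRing_of_lifts (h.map_maximalIdeal hm).symm fun {n} b => ?_
  obtain ⟨C, _, _, _, q, _, θ, hq, hθ⟩ := h.exists_local_rep hm (Finset.univ.image b)
  have : IsLocalHom (algebraMap R (Localization.AtPrime q)) := ⟨fun r hr => by
    by_contra hnu
    rw [IsScalarTower.algebraMap_apply R C, IsLocalization.AtPrime.isUnit_to_map_iff _ q] at hr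
    exact hr (show r ∈ q.comap (algebraMap R C) from hq ▸ hnu)⟩
  have hE : EGA4loc.IsEssentiallyEtale R (Localization.AtPrime q) :=
    ⟨C, _, _, q, ‹_›, ‹_›, hq, ⟨AlgEquiv.refl⟩⟩
  have : IsNoetherianRing C := Algebra.FiniteType.isNoetherianRing R C
  refine ⟨_, inferInstance, inferInstance, inferInstance, θ,
    IsLocalization.isNoetherianRing q.primeCompl _ inferInstance,
    (map_maximalIdeal_of_essEtale hE).symm, fun i => ?_⟩
  exact hθ (b i) (Finset.mem_image_of_mem b (Finset.mem_univ i))

/-- The colimit over a reduced ring is reduced. -/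
theorem isReduced [IsReduced R] : IsReduced H := by
  refine ⟨fun x ⟨n, hn⟩ => ?_⟩
  obtain ⟨C, _, _, _, τ, c, rfl⟩ := h.exists_rep x
  obtain ⟨D, _, _, _, φ, τ', hτ', hφ⟩ := h.exists_kill C τ (c ^ n) (by rw [map_pow, hn])
  have := isReduced_of_etale R D
  rw [map_pow] at hφ
  rw [← hτ', AlgHom.comp_apply, eq_zero_of_pow_eq_zero hφ, map_zero]

theorem algebraMap_regular [IsDomain R] {r : R} (hr : r ≠ 0) {x : H}
    (hx : algebraMap R H r * x = 0) : x = 0 := by
  have := h.flat
  exact (IsSMulRegular.of_flat (S := H) (IsSMulRegular.of_ne_zero hr))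
    (show algebraMap R H r • x = algebraMap R H r • 0 by rw [smul_zero, smul_eq_mul, hx])

/-- Nonzero elements divide nonzero elements of the base. -/
theorem exists_mul_eq_algebraMap [IsDomain R] [IsIntegrallyClosed R] {x : H} (hx : x ≠ 0) :
    ∃ (r : R) (w : H), r ≠ 0 ∧ x * w = algebraMap R H r := by
  have := h.isLocalRing
  obtain ⟨C, _, _, _, τ, c, rfl⟩ := h.exists_rep x
  obtain ⟨e, z, r, hr, he, hec, hcz⟩ := exists_idempotent_mul R C c
  refine ⟨r, τ z, hr, ?_⟩
  have h2 := congrArg τ hcz
  rw [map_mul, map_mul, τ.commutes] at h2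
  rcases IsLocalRing.isUnit_or_isUnit_one_sub_self (τ e) with h1 | h0
  · rw [h2, h1.mul_left_cancel ((he.map τ).eq.trans (mul_one _).symm), mul_one]
  · refine absurd ?_ hx
    rw [← hec, map_mul, (h0.mul_left_eq_zero).mp (he.map τ).mul_one_sub_self, zero_mul]

/-- The colimit over a normal domain is a domain. -/
theorem isDomain [IsDomain R] [IsIntegrallyClosed R] : IsDomain H := by
  have := h.isLocalRing
  have : NoZeroDivisors H := ⟨fun {x y} hxy => or_iff_not_imp_left.mpr fun hx => by
    obtain ⟨r, w, hr, hw⟩ := h.exists_mul_eq_algebraMap hx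
    exact h.algebraMap_regular hr (by rw [← hw, mul_comm x w, mul_assoc, hxy, mul_zero])⟩
  exact NoZeroDivisors.to_isDomain H

/-- The colimit over a normal domain is integrally closed. -/
theorem isIntegrallyClosed [IsDomain R] [IsIntegrallyClosed R] : IsIntegrallyClosed H := by
  classical
  have := h.isDomain
  refine (isIntegrallyClosed_iff (FractionRing H)).mpr fun {z} hz => ?_
  obtain ⟨a, b, hb, rfl⟩ := IsFractionRing.div_surjective (A := H) z
  obtain ⟨r, w, hr, hw⟩ := h.exists_mul_eq_algebraMap (nonZeroDivisors.ne_zero hb)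
  obtain ⟨p, hp, hpz⟩ := hz
  have hrH : algebraMap R H r ≠ 0 := fun h0 => one_ne_zero
    (h.algebraMap_regular hr (x := (1 : H)) (by rw [h0, zero_mul]))
  have inj := IsFractionRing.injective H (FractionRing H)
  have hz' : algebraMap H (FractionRing H) a / algebraMap H (FractionRing H) b *
      algebraMap H (FractionRing H) (algebraMap R H r) = algebraMap H (FractionRing H) (a * w) := by
    rw [← hw, map_mul, map_mul, ← mul_assoc, div_mul_cancel₀ _
      ((map_ne_zero_iff _ inj).mpr (nonZeroDivisors.ne_zero hb))]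
  have h0 : (p.scaleRoots (algebraMap R H r)).eval (a * w) = 0 := by
    refine inj ?_
    rw [map_zero, ← Polynomial.eval₂_at_apply, ← hz', mul_comm]
    exact Polynomial.scaleRoots_eval₂_eq_zero _ hpz
  obtain ⟨C, _, _, _, τ, hτ⟩ := h.common_rep (insert (a * w) p.coeffs)
  obtain ⟨c, hc⟩ := hτ _ (Finset.mem_insert_self _ _)
  replace hc : τ c = a * w := hc
  have hpC : p ∈ Polynomial.lifts τ.toRingHom := (Polynomial.lifts_iff_coeff_lifts p).mpr fun n => by
    by_cases hn : p.coeff n = 0
    · exact ⟨0, by rw [hn]; exact map_zero τ.toRingHom⟩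
    · obtain ⟨d, hd⟩ := hτ _ (Finset.mem_insert_of_mem (Polynomial.coeff_mem_coeffs hn))
      exact ⟨d, hd⟩
  obtain ⟨P, hP, -, hPm⟩ := Polynomial.lifts_and_natDegree_eq_and_monic hpC hp
  obtain ⟨D, _, _, _, φ, τ', hτ', hφ⟩ := h.exists_kill C τ
    ((P.scaleRoots (algebraMap R C r)).eval c) (by
      show τ.toRingHom _ = 0
      rw [← Polynomial.eval₂_at_apply, ← Polynomial.eval_map,
        Polynomial.map_scaleRoots _ _ _ (by rw [hPm.leadingCoeff, map_one]; exact one_ne_zero),
        hP]
      show Polynomial.eval (τ c) (p.scaleRoots (τ (algebraMap R C r))) = 0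
      rw [τ.commutes, hc]
      exact h0)
  let L := FractionRing R
  set u : D := φ c
  set Q := P.map φ.toRingHom
  have hQm : Q.Monic := hPm.map _
  have hrD : algebraMap D (TensorProduct R D L) (algebraMap R D r) *
      (1 ⊗ₜ (algebraMap R L r)⁻¹) = 1 := by
    rw [← IsScalarTower.algebraMap_apply, Algebra.TensorProduct.algebraMap_apply',
      Algebra.TensorProduct.tmul_mul_tmul, one_mul,
      mul_inv_cancel₀ ((map_ne_zero_iff _ (IsFractionRing.injective R L)).mpr hr)]
    rfl
  have hint : IsIntegral D (algebraMap D (TensorProduct R D L) u * (1 ⊗ₜ (algebraMap R L r)⁻¹)) := by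
    refine ⟨Q, hQm, ?_⟩
    have hu : IsUnit (algebraMap D (TensorProduct R D L) (algebraMap R D r) ^ Q.natDegree) :=
      (IsUnit.of_mul_eq_one _ hrD).pow _
    refine hu.mul_right_injective ?_
    dsimp only
    rw [mul_zero, ← Polynomial.scaleRoots_eval₂_mul, mul_left_comm, hrD, mul_one,
      Polynomial.eval₂_at_apply]
    refine (congrArg _ ?_).trans (map_zero _)
    rcases subsingleton_or_nontrivial D with _ | _
    · exact Subsingleton.elim _ _
    rw [← φ.commutes r]
    show ((P.map φ.toRingHom).scaleRoots (φ.toRingHom (algebraMap R C r))).eval (φ.toRingHom c) = 0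
    rw [← Polynomial.map_scaleRoots _ _ _ (by rw [hPm.leadingCoeff, map_one]; exact one_ne_zero),
      Polynomial.eval_map, Polynomial.eval₂_at_apply]
    exact hφ
  obtain ⟨d, hd⟩ := exists_tmul_one_eq_of_isIntegral R D hint
  have hud : u = algebraMap R D r * d := by
    refine sub_eq_zero.mp (etale_tmul_eq_zero R D ?_)
    rw [TensorProduct.sub_tmul, ← one_mul (1 : L), ← Algebra.TensorProduct.tmul_mul_tmul, hd,
      one_mul, sub_eq_zero]
    show algebraMap D (TensorProduct R D L) u =
      algebraMap D (TensorProduct R D L) (algebraMap R D r) * _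
    rw [mul_left_comm, hrD, mul_one]
  refine ⟨τ' d, ?_⟩
  refine mul_right_cancel₀ ((map_ne_zero_iff _ inj).mpr hrH) ?_
  rw [hz', ← map_mul, ← hc, ← hτ', AlgHom.comp_apply]
  show _ = algebraMap H _ (τ' u)
  rw [hud, map_mul τ', τ'.commutes, mul_comm]

end IsNbhdColim

end Groth.Agent.HenselLib
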