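import Groth.Agent.HenselLib.Nbhd
import Mathlib.RingTheory.LocalRing.ResidueField.Ideal

/-!
# Residually trivial pairs and points with values in the residue field
-/

universe u

namespace Groth.Agent.HenselLib

variable {R : Type u} [CommRing R] {p : Ideal R} [p.IsPrime] {S : Type u} [CommRing S] [Algebra R S]

theorem ker_point_le (σ : S →ₐ[R] p.ResidueField) :
    p = (RingHom.ker σ.toRingHom).comap (algebraMap R S) := by
  ext r
  rw [Ideal.mem_comap, RingHom.mem_ker, AlgHom.toRingHom_eq_coe, RingHom.coe_coe, σ.commutes,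
    Ideal.algebraMap_residueField_eq_zero]

theorem bijective_of_point {q : Ideal S} [q.IsPrime] (hq : p = q.comap (algebraMap R S))
    (σ : S →ₐ[R] p.ResidueField) (hσ : RingHom.ker σ.toRingHom = q) :
    Function.Bijective (Ideal.ResidueField.map p q (algebraMap R S) hq) := by
  refine ⟨RingHom.injective _, fun y => ?_⟩
  let g := Ideal.ResidueField.lift q σ.toRingHom hσ.ge fun s hs =>
    isUnit_iff_ne_zero.mpr fun h0 => hs (hσ ▸ h0)
  have hg : g.comp (Ideal.ResidueField.map p q (algebraMap R S) hq) = RingHom.id _ :=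
    Ideal.ResidueField.ringHom_ext (RingHom.ext fun r => by simp [g])
  exact ⟨g y, g.injective (RingHom.congr_fun hg (g y))⟩

theorem exists_point_of_bijective (q : Ideal S) [q.IsPrime] (hq : p = q.comap (algebraMap R S))
    (hb : Function.Bijective (Ideal.ResidueField.map p q (algebraMap R S) hq)) :
    ∃ σ : S →ₐ[R] p.ResidueField, RingHom.ker σ.toRingHom = q ∧
      ∀ σ' : S →ₐ[R] p.ResidueField, RingHom.ker σ'.toRingHom = q → σ' = σ := by
  let e := RingEquiv.ofBijective _ hb
  have he : ∀ r, e (algebraMap R p.ResidueField r) = algebraMap S q.ResidueField (algebraMap R S r) :=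
    Ideal.ResidueField.map_algebraMap p q (algebraMap R S) hq
  let σ : S →ₐ[R] p.ResidueField :=
    { e.symm.toRingHom.comp (algebraMap S q.ResidueField) with
      commutes' := fun r => e.injective ((e.apply_symm_apply _).trans (he r).symm) }
  refine ⟨σ, ?_, fun σ' hσ' => AlgHom.ext fun s => ?_⟩
  · ext s
    rw [RingHom.mem_ker]
    show e.symm (algebraMap S q.ResidueField s) = 0 ↔ s ∈ q
    rw [map_eq_zero_iff _ e.symm.injective, Ideal.algebraMap_residueField_eq_zero]
  · let g := Ideal.ResidueField.lift q σ'.toRingHom hσ'.ge fun s hs =>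
      isUnit_iff_ne_zero.mpr fun h0 => hs (hσ' ▸ h0)
    have hg : g.comp (Ideal.ResidueField.map p q (algebraMap R S) hq) = RingHom.id _ :=
      Ideal.ResidueField.ringHom_ext (RingHom.ext fun r => by simp [g])
    have h1 := RingHom.congr_fun hg (e.symm (algebraMap S q.ResidueField s))
    rw [RingHom.comp_apply, RingHom.id_apply] at h1
    show σ' s = e.symm (algebraMap S q.ResidueField s)
    rw [← h1, show Ideal.ResidueField.map p q (algebraMap R S) hq (e.symm (algebraMap S q.ResidueField s)) =
      algebraMap S q.ResidueField s from e.apply_symm_apply _]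
    exact (Ideal.ResidueField.lift_algebraMap _ _ _ _ _).symm

/-- Two compatible maps out of an etale algebra are equalized in an etale algebra. -/
theorem exists_equalize {C D K : Type u} [CommRing C] [Algebra R C] [Algebra.Etale R C] [CommRing D]
    [Algebra R D] [Algebra.Etale R D] [CommRing K] [Algebra R K] (σ : D →ₐ[R] K) {φ ψ : C →ₐ[R] D}
    (h : σ.comp φ = σ.comp ψ) :
    ∃ (E : Type u) (_ : CommRing E) (_ : Algebra R E) (_ : Algebra.Etale R E) (χ : D →ₐ[R] E)
      (σ' : E →ₐ[R] K), σ'.comp χ = σ ∧ χ.comp φ = χ.comp ψ := by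
  obtain ⟨g, hg, hgx⟩ := exists_mul_eq_of_unramified σ h
  let L := Localization.Away g
  refine ⟨L, inferInstance, inferInstance, Algebra.Etale.comp R D L, IsScalarTower.toAlgHom R D L,
    IsLocalization.Away.liftAlgHom g (f := σ) (by rw [hg]; exact isUnit_one),
    AlgHom.ext fun z => IsLocalization.lift_eq _ z, AlgHom.ext fun x => ?_⟩
  refine (IsLocalization.Away.algebraMap_isUnit (S := L) g).mul_left_cancel ?_
  show algebraMap D L g * algebraMap D L (φ x) = algebraMap D L g * algebraMap D L (ψ x)
  rw [← map_mul, ← map_mul, hgx]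

end Groth.Agent.HenselLib
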