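import Groth.Agent.HenselLib.HenselizationLocal
import Groth.Agent.HenselLib.ResiduePair

/-!
# The henselization of a localization as a colimit over the base
-/

universe u

open IsLocalRing

namespace Groth.Agent.HenselLib

/-- The henselization of `R_p` is the colimit of the etale `R`-algebras with a `κ(p)`-point. -/
theorem exists_colim_atPrime (R : Type u) [CommRing R] (p : Ideal R) [p.IsPrime] (Rh : Type u)
    [CommRing Rh] [IsLocalRing Rh] [Algebra (Localization.AtPrime p) Rh]
    [IsLocalHom (algebraMap (Localization.AtPrime p) Rh)]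
    [hRh : Hensel.IsHenselization (Localization.AtPrime p) Rh] [Algebra R Rh]
    [IsScalarTower R (Localization.AtPrime p) Rh] :
    ∃ ρ : Rh →ₐ[R] p.ResidueField, IsNbhdColim R p.ResidueField Rh ρ := by
  have hK : GeneratedBySimpleRoots R p.ResidueField := generated_of_fraction fun a => by
    obtain ⟨x, rfl⟩ := residue_surjective a
    obtain ⟨⟨r, s⟩, hrs⟩ := IsLocalization.surj p.primeCompl x
    refine ⟨r, s, fun h0 => s.2 (Ideal.algebraMap_residueField_eq_zero.mp h0), ?_⟩
    rw [IsScalarTower.algebraMap_apply R (Localization.AtPrime p) p.ResidueField,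
      IsScalarTower.algebraMap_apply R (Localization.AtPrime p) p.ResidueField,
      IsLocalRing.ResidueField.algebraMap_eq, ← map_mul, mul_comm, hrs]
  obtain ⟨H, _, _, ρ, h⟩ := exists_isNbhdColim R p.ResidueField hK
  have hu : ∀ s : p.primeCompl, IsUnit (algebraMap R H s) := fun s => h.isUnit _ (by
    rw [ρ.commutes]
    exact fun h0 => s.2 (Ideal.algebraMap_residueField_eq_zero.mp h0))
  let _ : Algebra (Localization.AtPrime p) H := (IsLocalization.lift hu).toAlgebra
  have : IsScalarTower R (Localization.AtPrime p) H :=
    .of_algebraMap_eq fun r => (IsLocalization.lift_eq hu r).symm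
  have := h.isLocalRing
  obtain ⟨ρ', h', -⟩ := h.restrictBase p.primeCompl (R' := Localization.AtPrime p)
  have hl : IsLocalHom (algebraMap (Localization.AtPrime p) H) :=
    h'.isLocalHom fun r hr => algebraMap_residueField_eq_zero hr
  have := isHenselization_of_colim h'
  have := h.henselian
  have := hRh.henselian
  obtain ⟨g, hg, -⟩ := hRh.universal H (algebraMap (Localization.AtPrime p) H) hl
  obtain ⟨k, hk, -⟩ := Hensel.IsHenselization.universal (R := Localization.AtPrime p) (S := H) Rh
    (algebraMap (Localization.AtPrime p) Rh) ‹_›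
  have h1 : k.comp g = RingHom.id Rh :=
    (hRh.universal Rh (algebraMap (Localization.AtPrime p) Rh) ‹_›).unique
      (by rw [RingHom.comp_assoc, hg, hk]) rfl
  have h2 : g.comp k = RingHom.id H :=
    (Hensel.IsHenselization.universal (R := Localization.AtPrime p) (S := H) H
      (algebraMap (Localization.AtPrime p) H) hl).unique
      (by rw [RingHom.comp_assoc, hk, hg]) rfl
  let e : Rh ≃ₐ[R] H := AlgEquiv.ofRingEquiv (f := RingEquiv.ofRingHom g k h2 h1) fun r => by
    show g (algebraMap R Rh r) = algebraMap R H r
    rw [IsScalarTower.algebraMap_apply R (Localization.AtPrime p) Rh, ← RingHom.comp_apply, hg,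
      ← IsScalarTower.algebraMap_apply]
  exact ⟨ρ.comp e.toAlgHom, h.of_algEquiv e⟩

end Groth.Agent.HenselLib
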