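import Groth.Agent.HenselLib.HenselizationAlg
import Groth.Agent.HenselLib.FaithfulDescent
import Groth.Agent.EtStalk.Basic
import Mathlib.RingTheory.DiscreteValuationRing.TFAE
import Mathlib.RingTheory.PrincipalIdealDomain
import Mathlib.RingTheory.TensorProduct.Maps
import Mathlib.LinearAlgebra.TensorProduct.Basis

/-!
# DVR henselizations; reducedness after scalar extensions
-/

universe u

open IsLocalRing
open scoped TensorProduct

namespace Groth.Agent.HenselLib

theorem isDVR_iff_spanFinrank {A : Type*} [CommRing A] [IsLocalRing A] [IsNoetherianRing A] :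
    (∃ _ : IsDomain A, IsDiscreteValuationRing A) ↔
      IsDomain A ∧ (maximalIdeal A).spanFinrank = 1 := by
  constructor
  · rintro ⟨_, _⟩
    refine ⟨inferInstance, ?_⟩
    rw [spanFinrank_maximalIdeal_eq_finrank_cotangentSpace]
    exact ((IsDiscreteValuationRing.TFAE A (IsDiscreteValuationRing.not_isField A)).out 0 5 rfl rfl).mp
      inferInstance
  · rintro ⟨_, h⟩
    have hnf : ¬IsField A := fun hf => by
      rw [IsLocalRing.isField_iff_maximalIdeal_eq.mp hf, Submodule.spanFinrank_bot] at h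
      exact zero_ne_one h
    rw [spanFinrank_maximalIdeal_eq_finrank_cotangentSpace] at h
    exact ⟨inferInstance, ((IsDiscreteValuationRing.TFAE A hnf).out 0 5 rfl rfl).mpr h⟩

variable {R : Type u} [CommRing R] {K : Type u} [Field K] [Algebra R K]
variable {H : Type u} [CommRing H] [Algebra R H] {ρ : H →ₐ[R] K}

theorem IsNbhdColim.isDVR_iff [IsLocalRing R] [IsNoetherianRing R] [IsLocalRing H]
    (h : IsNbhdColim R K H ρ) (hm : ∀ r ∈ maximalIdeal R, algebraMap R K r = 0) :
    (∃ _ : IsDomain R, IsDiscreteValuationRing R) ↔ (∃ _ : IsDomain H, IsDiscreteValuationRing H) := by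
  have := h.isNoetherianRing hm
  have := h.flat
  have := h.isLocalHom hm
  have := h.faithfullyFlat hm
  have e := Groth.Agent.EtStalk.spanFinrank_eq R H (h.map_maximalIdeal hm)
  refine ⟨fun hR => ?_, fun hH => ?_⟩
  · obtain ⟨_, _⟩ := hR
    refine isDVR_iff_spanFinrank.mpr ⟨h.isDomain, ?_⟩
    rw [e]
    exact (isDVR_iff_spanFinrank.mp ⟨inferInstance, inferInstance⟩).2
  · obtain ⟨_, he⟩ := isDVR_iff_spanFinrank.mp hH
    exact isDVR_iff_spanFinrank.mpr ⟨isDomain_of_faithfullyFlat R H, e ▸ he⟩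

theorem IsNbhdColim.exists_kill_finset (h : IsNbhdColim R K H ρ) {ι : Type*} (s : Finset ι) :
    ∀ (C : Type u) [CommRing C] [Algebra R C] [Algebra.Etale R C] (τ : C →ₐ[R] H) (c : ι → C),
    (∀ i ∈ s, τ (c i) = 0) → ∃ (D : Type u) (_ : CommRing D) (_ : Algebra R D) (_ : Algebra.Etale R D)
      (φ : C →ₐ[R] D) (τ' : D →ₐ[R] H), τ'.comp φ = τ ∧ ∀ i ∈ s, φ (c i) = 0 := by
  induction s using Finset.cons_induction with
  | empty => exact fun C _ _ _ τ c _ => ⟨C, _, _, inferInstance, AlgHom.id R C, τ, τ.comp_id, by simp⟩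
  | cons a s ha ih =>
    intro C _ _ _ τ c hc
    obtain ⟨D, _, _, _, φ, τ', h1, h2⟩ := h.exists_kill C τ (c a) (hc a (Finset.mem_cons_self a s))
    obtain ⟨E, _, _, _, ψ, τE, h3, h4⟩ := ih D τ' (fun i => φ (c i)) fun i hi => by
      rw [← AlgHom.comp_apply, h1]; exact hc i (Finset.mem_cons.mpr (Or.inr hi))
    refine ⟨E, _, _, inferInstance, ψ.comp φ, τE, by rw [← AlgHom.comp_assoc, h3, h1], fun i hi => ?_⟩
    rcases Finset.mem_cons.mp hi with rfl | hi
    · rw [AlgHom.comp_apply, h2, map_zero]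
    · exact h4 i hi

theorem IsNbhdColim.isReduced_baseChange (h : IsNbhdColim R K H ρ) (k L : Type u) [Field k] [Field L]
    [Algebra k L] [Algebra k R] [Algebra k H] [IsScalarTower k R H] [IsReduced (L ⊗[k] R)] :
    IsReduced (L ⊗[k] H) := by
  classical
  refine ⟨fun z ⟨n, hn⟩ => ?_⟩
  let b := Module.Basis.ofVectorSpace k L
  set e := TensorProduct.equivFinsuppOfBasisLeft (N := H) b
  obtain ⟨C, _, _, _, τ, hτ⟩ := h.common_rep ((e z).support.image (e z))
  let _ : Algebra k C := ((algebraMap R C).comp (algebraMap k R)).toAlgebra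
  have : IsScalarTower k R C := .of_algebraMap_eq' rfl
  obtain ⟨z', hz'⟩ : ∃ z', Algebra.TensorProduct.map (AlgHom.id k L) (τ.restrictScalars k) z' = z := by
    refine AlgHom.mem_range _ |>.mp ?_
    rw [← e.symm_apply_apply z, TensorProduct.equivFinsuppOfBasisLeft_symm_apply]
    refine Subalgebra.sum_mem _ fun i hi => ?_
    obtain ⟨c, hc⟩ := hτ (e z i) (Finset.mem_image_of_mem _ hi)
    refine ⟨b i ⊗ₜ c, ?_⟩
    show b i ⊗ₜ τ c = b i ⊗ₜ e z i
    exact congrArg (fun a => b i ⊗ₜ[k] a) hc
  set eC := TensorProduct.equivFinsuppOfBasisLeft (N := C) b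
  obtain ⟨D, _, _, _, φ, τ', hτ', hφ⟩ := h.exists_kill_finset (eC (z' ^ n)).support C τ (eC (z' ^ n))
    fun i _ => by
      have key : ∀ w : L ⊗[k] C, e (Algebra.TensorProduct.map (AlgHom.id k L) (τ.restrictScalars k) w) =
          (eC w).mapRange τ (map_zero τ) := by
        intro w
        induction w with
        | zero => simp [e, eC]
        | tmul l c =>
          refine Finsupp.ext fun j => ?_
          simp [e, eC, Algebra.smul_def, IsScalarTower.algebraMap_apply k R H]
        | add a b ha hb => rw [map_add, map_add, ha, hb, map_add, Finsupp.mapRange_add]; simp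
      have := DFunLike.congr_fun (key (z' ^ n)) i
      rw [map_pow, hz', hn, map_zero, Finsupp.mapRange_apply] at this
      exact this.symm
  let _ : Algebra k D := ((algebraMap R D).comp (algebraMap k R)).toAlgebra
  have : IsScalarTower k R D := .of_algebraMap_eq' rfl
  have : IsReduced (R ⊗[k] L) :=
    isReduced_of_injective (Algebra.TensorProduct.comm k R L) (AlgEquiv.injective _)
  have : IsReduced ((R ⊗[k] L) ⊗[R] D) := isReduced_of_etale (R ⊗[k] L) _
  have : IsReduced (D ⊗[R] (R ⊗[k] L)) :=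
    isReduced_of_injective (Algebra.TensorProduct.comm R D (R ⊗[k] L)) (AlgEquiv.injective _)
  have : IsReduced (D ⊗[k] L) :=
    isReduced_of_injective (Algebra.TensorProduct.cancelBaseChange k R R D L).symm (AlgEquiv.injective _)
  have : IsReduced (L ⊗[k] D) :=
    isReduced_of_injective (Algebra.TensorProduct.comm k L D) (AlgEquiv.injective _)
  let Φ := Algebra.TensorProduct.map (AlgHom.id k L) (φ.restrictScalars k)
  have hzero : Φ (z' ^ n) = 0 := by
    rw [← eC.symm_apply_apply (z' ^ n), TensorProduct.equivFinsuppOfBasisLeft_symm_apply, Finsupp.sum,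
      map_sum]
    refine Finset.sum_eq_zero fun i hi => ?_
    show b i ⊗ₜ φ (eC (z' ^ n) i) = (0 : L ⊗[k] D)
    rw [hφ i hi, TensorProduct.tmul_zero]
  rw [map_pow] at hzero
  have h5 := congrArg (Algebra.TensorProduct.map (AlgHom.id k L) (τ'.restrictScalars k))
    (eq_zero_of_pow_eq_zero hzero)
  rw [map_zero, ← AlgHom.comp_apply, ← Algebra.TensorProduct.map_comp, AlgHom.id_comp] at h5
  rw [← hz', ← show (τ'.restrictScalars k).comp (φ.restrictScalars k) = τ.restrictScalars k from
    AlgHom.ext fun x => AlgHom.congr_fun hτ' x]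
  exact h5

end Groth.Agent.HenselLib
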