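import Groth.Agent.HenselLib.HenselizationProps
import Mathlib.RingTheory.KrullDimension.Basic
import Mathlib.RingTheory.Ideal.GoingDown

/-!
# The dimension of a henselization
-/

universe u

open IsLocalRing

namespace Groth.Agent.HenselLib

variable {R : Type u} [CommRing R] {K : Type u} [Field K] [Algebra R K]
variable {H : Type u} [CommRing H] [Algebra R H] {ρ : H →ₐ[R] K}

theorem IsNbhdColim.ringKrullDim_eq [IsLocalRing R] (h : IsNbhdColim R K H ρ)
    (hm : ∀ r ∈ maximalIdeal R, algebraMap R K r = 0) : ringKrullDim H = ringKrullDim R := by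
  haveI := h.faithfullyFlat hm
  refine le_antisymm ?_ ?_
  · refine Order.krullDim_le_of_strictMono (PrimeSpectrum.comap (algebraMap R H)) fun P Q hlt => ?_
    refine lt_of_le_of_ne (Ideal.comap_mono hlt.le) fun heq => ?_
    exact hlt.ne (PrimeSpectrum.ext (h.eq_of_le_of_comap_eq hlt.le (congrArg PrimeSpectrum.asIdeal heq)))
  · refine iSup_le fun l => ?_
    obtain ⟨P, hP⟩ := PrimeSpectrum.comap_surjective_of_faithfullyFlat (A := R) (B := H) l.last
    haveI : P.asIdeal.LiesOver l.last.asIdeal := ⟨(congrArg PrimeSpectrum.asIdeal hP).symm⟩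
    obtain ⟨L, hL, -, -⟩ := Ideal.exists_ltSeries_of_hasGoingDown l P.asIdeal
    rw [← hL]
    exact Order.LTSeries.length_le_krullDim L

end Groth.Agent.HenselLib
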