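import Groth.Agent.HenselLib.HenselizationProps
import Groth.Prelude.Def_PBC
import Mathlib.CategoryTheory.Filtered.Basic

/-!
# The colimit of pointed etale algebras is ind-etale
-/

universe u

open CategoryTheory Limits
open scoped TensorProduct

namespace Groth.Agent.HenselLib

variable (R : Type u) [CommRing R] (K : Type u) [Field K] [Algebra R K]

/-- An index, with all compatible algebra maps as morphisms. -/
structure EtIdx where
  /-- The index. -/
  idx : NbhdIndex R K

namespace EtIdx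

variable {R K}

noncomputable instance : SmallCategory (EtIdx R K) where
  Hom i j := {φ : i.idx.C →ₐ[R] j.idx.C // j.idx.pt.comp φ = i.idx.pt}
  id i := ⟨AlgHom.id R _, AlgHom.comp_id _⟩
  comp f g := ⟨g.1.comp f.1, by rw [← AlgHom.comp_assoc, g.2, f.2]⟩

theorem exists_coequalizer {i j : EtIdx R K} (f g : i ⟶ j) :
    ∃ (k : EtIdx R K) (h : j ⟶ k), f ≫ h = g ≫ h := by
  obtain ⟨c, hc, hcx⟩ := exists_mul_eq_of_unramified j.idx.pt (φ := f.1) (ψ := g.1) (f.2.trans g.2.symm)
  let L := Localization.Away c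
  let σ : L →ₐ[R] K := IsLocalization.Away.liftAlgHom c (f := j.idx.pt) (by rw [hc]; exact isUnit_one)
  have : Algebra.Etale R L := Algebra.Etale.comp R j.idx.C L
  obtain ⟨k, e, he⟩ := NbhdIndex.exists_index L σ
  refine ⟨⟨k⟩, ⟨e.toAlgHom.comp (IsScalarTower.toAlgHom R j.idx.C L), ?_⟩, ?_⟩
  · rw [← AlgHom.comp_assoc, he]
    exact AlgHom.ext fun z => IsLocalization.lift_eq _ z
  · refine Subtype.ext (AlgHom.ext fun x => ?_)
    show e (algebraMap j.idx.C L (f.1 x)) = e (algebraMap j.idx.C L (g.1 x))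
    refine congrArg e ((IsLocalization.Away.algebraMap_isUnit (S := L) c).mul_left_cancel ?_)
    rw [← map_mul, ← map_mul, hcx]

theorem exists_upperBound (i j : EtIdx R K) :
    ∃ (k : EtIdx R K) (_ : i ⟶ k) (_ : j ⟶ k), True := by
  have : Algebra.Etale R (i.idx.C ⊗[R] j.idx.C) :=
    Algebra.Etale.comp R i.idx.C (i.idx.C ⊗[R] j.idx.C)
  obtain ⟨k, e, he⟩ := NbhdIndex.exists_index (i.idx.C ⊗[R] j.idx.C)
    (Algebra.TensorProduct.productMap i.idx.pt j.idx.pt)
  refine ⟨⟨k⟩, ⟨e.toAlgHom.comp Algebra.TensorProduct.includeLeft, ?_⟩,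
    ⟨e.toAlgHom.comp Algebra.TensorProduct.includeRight, ?_⟩, trivial⟩
  · rw [← AlgHom.comp_assoc, he, Algebra.TensorProduct.productMap_left]
  · rw [← AlgHom.comp_assoc, he, Algebra.TensorProduct.productMap_right]

instance : Nonempty (EtIdx R K) := ⟨⟨(Nonempty.some inferInstance : NbhdIndex R K)⟩⟩

instance : IsFiltered (EtIdx R K) where
  cocone_objs i j := exists_upperBound i j
  cocone_maps _ _ f g := exists_coequalizer f g

variable (R K) in
/-- The diagram of etale algebras. -/
noncomputable def diagram : EtIdx R K ⥤ Under (CommRingCat.of R) where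
  obj i := Under.mk (CommRingCat.ofHom (algebraMap R i.idx.C))
  map f := Under.homMk (CommRingCat.ofHom f.1.toRingHom) (CommRingCat.hom_ext f.1.comp_algebraMap)
  map_id _ := rfl
  map_comp _ _ := rfl

end EtIdx

theorem IsNbhdColim.isIndEtale {R K H : Type u} [CommRing R] [Field K] [Algebra R K] [CommRing H]
    [Algebra R H] {ρ : H →ₐ[R] K} (h : IsNbhdColim R K H ρ) : EtPBC.IsIndEtale R H := by
  choose τ hτ hτu using fun i : EtIdx R K => h.existsUnique_lift i.idx.pt
  have hnat : ∀ {i j : EtIdx R K} (f : i ⟶ j), (τ j).comp f.1 = τ i := fun f =>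
    hτu _ _ (by dsimp only; rw [← AlgHom.comp_assoc, hτ, f.2])
  let c : Cocone (EtIdx.diagram R K) :=
    { pt := Under.mk (CommRingCat.ofHom (algebraMap R H))
      ι :=
        { app := fun i => Under.homMk (CommRingCat.ofHom (τ i).toRingHom)
            (CommRingCat.hom_ext (τ i).comp_algebraMap)
          naturality := fun i j f => by
            refine Under.UnderMorphism.ext (CommRingCat.hom_ext (RingHom.ext fun x => ?_))
            exact AlgHom.congr_fun (hnat f) x } }
  have hkey : ∀ s : Cocone (EtIdx.diagram R K), ∃! d : c.pt ⟶ s.pt, ∀ i, c.ι.app i ≫ d = s.ι.app i := by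
    intro s
    let _ : Algebra R s.pt.right := s.pt.hom.hom.toAlgebra
    let leg : ∀ i : EtIdx R K, i.idx.C →ₐ[R] s.pt.right := fun i =>
      { (s.ι.app i).right.hom with
        commutes' := fun r => RingHom.congr_fun (congrArg CommRingCat.Hom.hom (Under.w (s.ι.app i))) r }
    have hleg : ∀ {i j : EtIdx R K} (f : i ⟶ j), (leg j).comp f.1 = leg i := fun f => AlgHom.ext fun x =>
      RingHom.congr_fun (congrArg (fun m => CommRingCat.Hom.hom m.right) (s.w f)) x
    have hidx : ∀ (C : Type u) [CommRing C] [Algebra R C] [Algebra.Etale R C] (t : C →ₐ[R] H),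
        ∃ (j : EtIdx R K) (e : C ≃ₐ[R] j.idx.C), (τ j).comp e.toAlgHom = t := by
      intro C _ _ _ t
      obtain ⟨j, e, he⟩ := NbhdIndex.exists_index C (ρ.comp t)
      refine ⟨⟨j⟩, e, (h.existsUnique_lift (ρ.comp t)).unique ?_ rfl⟩
      rw [← AlgHom.comp_assoc, hτ]
      exact he
    obtain ⟨g, hg⟩ := h.exists_descend (B := s.pt.right)
      (fun C _ _ t ψ => ∀ (i : EtIdx R K) (φ : i.idx.C →ₐ[R] C), t.comp φ = τ i → ψ.comp φ = leg i)
      (fun C _ _ _ t => by
        obtain ⟨j, e, he⟩ := hidx C t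
        refine ⟨(leg j).comp e.toAlgHom, fun i φ hφ => ?_⟩
        have hf : j.idx.pt.comp (e.toAlgHom.comp φ) = i.idx.pt := by
          rw [← hτ j, AlgHom.comp_assoc, ← AlgHom.comp_assoc (τ j), he, hφ, hτ]
        rw [AlgHom.comp_assoc]
        exact hleg (⟨_, hf⟩ : i ⟶ j))
      (fun C _ _ _ t ψ ψ' h1 h2 => by
        obtain ⟨j, e, he⟩ := hidx C t
        have hc : t.comp e.symm.toAlgHom = τ j := by
          rw [← he]
          exact AlgHom.ext fun z => congrArg (τ j) (e.apply_symm_apply z)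
        refine AlgHom.ext fun z => ?_
        have := AlgHom.congr_fun ((h1 j _ hc).trans (h2 j _ hc).symm) (e z)
        simpa using this)
      (fun C D _ _ _ _ φ t ψ h1 i φ₀ hφ₀ => by
        rw [AlgHom.comp_assoc]
        exact h1 i _ (by rw [← AlgHom.comp_assoc, hφ₀]))
    have hgτ : ∀ i : EtIdx R K, g.comp (τ i) = leg i := fun i =>
      hg i.idx.C (τ i) (leg i) fun i' φ hφ => by
        have hf : i.idx.pt.comp φ = i'.idx.pt := by rw [← hτ i, AlgHom.comp_assoc, hφ, hτ]
        exact hleg (⟨φ, hf⟩ : i' ⟶ i)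
    refine ⟨Under.homMk (CommRingCat.ofHom g.toRingHom) (CommRingCat.hom_ext g.comp_algebraMap),
      fun i => Under.UnderMorphism.ext (CommRingCat.hom_ext (RingHom.ext fun x => AlgHom.congr_fun (hgτ i) x)),
      fun d hd => Under.UnderMorphism.ext (CommRingCat.hom_ext (RingHom.ext fun x => ?_))⟩
    obtain ⟨C, _, _, _, t, z, rfl⟩ := h.exists_rep x
    obtain ⟨j, e, he⟩ := hidx C t
    have h1 := RingHom.congr_fun (congrArg (fun m => CommRingCat.Hom.hom m.right) (hd j)) (e z)
    have h2 := AlgHom.congr_fun (hgτ j) (e z)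
    rw [show t z = τ j (e z) from (AlgHom.congr_fun he z).symm]
    exact h1.trans h2.symm
  choose d hd hdu using hkey
  refine ⟨EtIdx R K, inferInstance, inferInstance, EtIdx.diagram R K, c,
    { desc := d, fac := hd, uniq := fun s m hm => hdu s m hm }, fun j => ?_, ⟨Iso.refl _⟩⟩
  exact (RingHom.etale_algebraMap (R := R) (S := j.idx.C)).mpr inferInstance

end Groth.Agent.HenselLib
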