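import Groth.Agent.HenselLib.Unique
import Mathlib.RingTheory.Etale.Basic
import Mathlib.RingTheory.Localization.Integer
import Mathlib.RingTheory.Localization.Away.Basic
import Mathlib.RingTheory.FinitePresentation

/-!
# Étale algebras with a field valued point
-/

universe u v w

open scoped TensorProduct

namespace Groth.Agent.HenselLib

variable {R : Type*} [CommRing R]

/-- Two maps into an algebra out of an unramified algebra which agree at a point agree after
multiplication by an element which is nonzero at the point. -/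
theorem exists_mul_eq_of_unramified {E C K : Type*} [CommRing E] [Algebra R E] [CommRing C]
    [Algebra R C] [CommRing K] [Algebra R K] [Algebra.FormallyUnramified R E]
    [Algebra.EssFiniteType R E] (σ : C →ₐ[R] K) {φ ψ : E →ₐ[R] C}
    (h : σ.comp φ = σ.comp ψ) : ∃ g : C, σ g = 1 ∧ ∀ x, g * φ x = g * ψ x := by
  obtain ⟨t, ht, ht1⟩ := (Algebra.FormallyUnramified.iff_exists_tensorProduct (R := R) (S := E)).mp
    inferInstance
  set μ := Algebra.TensorProduct.productMap φ ψ
  have key : σ.comp μ = (σ.comp φ).comp (Algebra.TensorProduct.lmul' R) := by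
    refine Algebra.TensorProduct.ext' fun a b => ?_
    have hb : σ (φ b) = σ (ψ b) := AlgHom.congr_fun h b
    simp only [AlgHom.comp_apply, μ, Algebra.TensorProduct.productMap_apply_tmul,
      Algebra.TensorProduct.lmul'_apply_tmul, map_mul, hb]
  refine ⟨μ t, ?_, fun x => ?_⟩
  · have := AlgHom.congr_fun key t
    simpa [ht1] using this
  · have h0 : (ψ x - φ x) * μ t = 0 := by
      rw [← map_zero μ, ← ht x, map_mul, map_sub]
      simp [μ]
    linear_combination -h0

/-- Maps from an unramified algebra to a local ring are determined by their composition with a map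
which kills nothing outside the maximal ideal. -/
theorem algHom_ext_of_point {E H K : Type*} [CommRing E] [Algebra R E] [CommRing H] [IsLocalRing H]
    [Algebra R H] [CommRing K] [Nontrivial K] [Algebra R K] [Algebra.FormallyUnramified R E]
    [Algebra.EssFiniteType R E] (ρ : H →ₐ[R] K)
    (hρ : ∀ x, ρ x ≠ 0 → IsUnit x) {φ ψ : E →ₐ[R] H} (h : ρ.comp φ = ρ.comp ψ) : φ = ψ := by
  obtain ⟨g, hg, hgx⟩ := exists_mul_eq_of_unramified ρ h
  exact AlgHom.ext fun x => (hρ g (by rw [hg]; exact one_ne_zero)).mul_left_cancel (hgx x)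

/-- Maps from finitely presented algebras into a localization factor through one denominator. -/
theorem exists_factor_away {C : Type u} [CommRing C] [Algebra R C] [Algebra.FinitePresentation R C]
    {D : Type v} [CommRing D] [Algebra R D] (M : Submonoid D) {G : Type w} [CommRing G] [Algebra R G]
    [Algebra D G] [IsScalarTower R D G] [IsLocalization M G] (φ : C →ₐ[R] G) :
    ∃ s : D, s ∈ M ∧ ∃ φ' : C →ₐ[R] Localization.Away s,
      ∀ (L : Localization.Away s →ₐ[R] G), (∀ d, L (algebraMap D _ d) = algebraMap D G d) →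
        L.comp φ' = φ := by
  classical
  obtain ⟨n, f, hf, s', hs'⟩ := Algebra.FinitePresentation.out (R := R) (A := C)
  obtain ⟨b, hb⟩ := IsLocalization.exist_integer_multiples_of_finite M
    (fun i => φ (f (MvPolynomial.X i)))
  choose num hnum using hb
  have hkill : ∀ P : MvPolynomial (Fin n) R, f P = 0 →
      ∃ s : D, s ∈ M ∧ ∀ (L : Type v) [CommRing L] [Algebra R L] [Algebra D L] [IsScalarTower R D L],
        ∀ v : L, algebraMap D L b * v = 1 → IsUnit (algebraMap D L s) →
          MvPolynomial.aeval (fun i => algebraMap D L (num i) * v) P = 0 := by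
    intro P hP
    let L₀ := Localization.Away (b : D)
    obtain ⟨v₀, hv₀⟩ := (IsLocalization.Away.algebraMap_isUnit (S := L₀) (b : D)).exists_right_inv
    let L₀toG : L₀ →ₐ[R] G := IsLocalization.Away.liftAlgHom (b : D)
      (f := IsScalarTower.toAlgHom R D G) (IsLocalization.map_units G b)
    have hLG : ∀ d, L₀toG (algebraMap D L₀ d) = algebraMap D G d := fun d =>
      IsLocalization.lift_eq _ d
    have heval : L₀toG (MvPolynomial.aeval (fun i => algebraMap D L₀ (num i) * v₀) P) = φ (f P) := by
      rw [← AlgHom.comp_apply, ← AlgHom.comp_apply]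
      congr 1
      refine MvPolynomial.algHom_ext fun i => ?_
      simp only [AlgHom.comp_apply, MvPolynomial.aeval_X, map_mul, hLG]
      rw [hnum, Algebra.smul_def, mul_comm (algebraMap D G _), mul_assoc, ← hLG, ← map_mul, hv₀,
        map_one, mul_one]
    rw [hP, map_zero] at heval
    obtain ⟨d, ⟨_, k, rfl⟩, hd⟩ := IsLocalization.exists_mk'_eq (Submonoid.powers (b : D))
      (MvPolynomial.aeval (fun i => algebraMap D L₀ (num i) * v₀) P)
    have hd0 : algebraMap D G d = 0 := by
      rw [← hLG, ← IsLocalization.mk'_spec L₀ d (⟨(b : D) ^ k, k, rfl⟩ : Submonoid.powers (b : D)),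
        hd, map_mul, heval, zero_mul]
    obtain ⟨⟨s, hs⟩, hsd⟩ := (IsLocalization.map_eq_zero_iff M G d).mp hd0
    refine ⟨s, hs, fun L _ _ _ _ v hv hu => ?_⟩
    let ι : L₀ →ₐ[R] L := IsLocalization.Away.liftAlgHom (b : D)
      (f := IsScalarTower.toAlgHom R D L) (IsUnit.of_mul_eq_one v hv)
    have hι : ∀ d, ι (algebraMap D L₀ d) = algebraMap D L d := fun d => IsLocalization.lift_eq _ d
    have hιv : ι v₀ = v := by
      have h1 := congrArg ι hv₀
      rw [map_mul, hι, map_one] at h1
      exact (IsUnit.of_mul_eq_one v hv).mul_left_cancel (h1.trans hv.symm)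
    have h2 : MvPolynomial.aeval (fun i => algebraMap D L (num i) * v) P =
        ι (MvPolynomial.aeval (fun i => algebraMap D L₀ (num i) * v₀) P) := by
      rw [← AlgHom.comp_apply, MvPolynomial.comp_aeval]
      congr 2
      funext i
      rw [map_mul, hι, hιv]
    rw [h2, ← hd]
    have h3 : algebraMap D L d = 0 := by
      refine hu.mul_left_cancel ?_
      rw [← map_mul, mul_zero, show s * d = 0 from hsd, map_zero]
    have h4 := congrArg ι (IsLocalization.mk'_spec L₀ d
      (⟨(b : D) ^ k, k, rfl⟩ : Submonoid.powers (b : D)))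
    rw [map_mul, hι, hι, h3, map_pow] at h4
    exact ((IsUnit.of_mul_eq_one v hv).pow k).mul_left_eq_zero.mp h4
  choose! sP hsPM hsP using hkill
  have hsub : ∀ P ∈ s', f P = 0 := fun P hP => by
    have : P ∈ RingHom.ker f.toRingHom := hs' ▸ Ideal.subset_span hP
    exact this
  set s : D := b * ∏ P ∈ s', sP P with hs
  obtain ⟨w, hw⟩ := (IsLocalization.Away.algebraMap_isUnit (S := Localization.Away s) s).exists_right_inv
  set v := algebraMap D (Localization.Away s) (∏ P ∈ s', sP P) * w with hv
  have hbv : algebraMap D (Localization.Away s) b * v = 1 := by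
    rw [hv, ← mul_assoc, ← map_mul, ← hs, hw]
  have hsu : ∀ P ∈ s', IsUnit (algebraMap D (Localization.Away s) (sP P)) := fun P hP =>
    isUnit_of_dvd_unit (map_dvd _ ((Finset.dvd_prod_of_mem _ hP).trans (dvd_mul_left _ _)))
      (IsLocalization.Away.algebraMap_isUnit (S := Localization.Away s) s)
  let g₀ : MvPolynomial (Fin n) R →ₐ[R] Localization.Away s :=
    MvPolynomial.aeval fun i => algebraMap D _ (num i) * v
  have hker : RingHom.ker f ≤ RingHom.ker g₀ := by
    rw [show RingHom.ker f = RingHom.ker f.toRingHom from rfl, ← hs']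
    exact Ideal.span_le.mpr fun P hP =>
      hsP P (hsub P hP) (Localization.Away s) v hbv (hsu P hP)
  refine ⟨s, M.mul_mem b.2 (Submonoid.prod_mem _ fun P hP => hsPM P (hsub P hP)),
    (Ideal.Quotient.liftₐ (RingHom.ker f) g₀ hker).comp
      (Ideal.quotientKerAlgEquivOfSurjective hf).symm.toAlgHom, fun L hL => ?_⟩
  refine AlgHom.ext fun c => ?_
  obtain ⟨P, rfl⟩ := hf c
  have h1 : (Ideal.quotientKerAlgEquivOfSurjective hf).symm (f P) =
      Ideal.Quotient.mk (RingHom.ker f) P := by
    rw [AlgEquiv.symm_apply_eq]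
    rfl
  show L (Ideal.Quotient.liftₐ (RingHom.ker f) g₀ hker
    ((Ideal.quotientKerAlgEquivOfSurjective hf).symm (f P))) = φ (f P)
  rw [h1]
  show L (g₀ P) = φ (f P)
  rw [← AlgHom.comp_apply, ← AlgHom.comp_apply]
  congr 1
  refine MvPolynomial.algHom_ext fun i => ?_
  simp only [AlgHom.comp_apply, g₀, MvPolynomial.aeval_X, map_mul, hL]
  have h2 := congrArg L hbv
  rw [map_mul, hL, map_one] at h2
  rw [hnum, Algebra.smul_def]
  linear_combination φ (f (MvPolynomial.X i)) * h2

end Groth.Agent.HenselLib
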