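import Mathlib.RingTheory.Etale.Basic
import Mathlib.RingTheory.Spectrum.Prime.Topology
import Mathlib.RingTheory.Localization.Away.Basic

/-!
# Basic open neighbourhoods of a closed subset of the spectrum
-/

universe u

namespace Groth.Agent.HenselLib

variable {R : Type u} [CommRing R] (J : Ideal R)

theorem exists_basicOpen_of_zeroLocus_subset {U : Set (PrimeSpectrum R)} (hU : IsOpen U)
    (hJ : PrimeSpectrum.zeroLocus (J : Set R) ⊆ U) :
    ∃ g : R, g - 1 ∈ J ∧ (PrimeSpectrum.basicOpen g : Set (PrimeSpectrum R)) ⊆ U := by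
  obtain ⟨s, hs⟩ := (PrimeSpectrum.isClosed_iff_zeroLocus _).mp hU.isClosed_compl
  have hsup : J ⊔ Ideal.span s = ⊤ := by
    by_contra hne
    obtain ⟨M, hM, hle⟩ := Ideal.exists_le_maximal _ hne
    have h1 : (⟨M, hM.isPrime⟩ : PrimeSpectrum R) ∈ U :=
      hJ ((PrimeSpectrum.mem_zeroLocus _ _).mpr
        (SetLike.coe_subset_coe.mpr ((le_sup_left : J ≤ J ⊔ Ideal.span s).trans hle)))
    have h2 : (⟨M, hM.isPrime⟩ : PrimeSpectrum R) ∈ Uᶜ := by
      rw [hs]
      exact (PrimeSpectrum.mem_zeroLocus _ _).mpr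
        (Ideal.subset_span.trans (SetLike.coe_subset_coe.mpr
          ((le_sup_right : Ideal.span s ≤ J ⊔ Ideal.span s).trans hle)))
    exact h2 h1
  obtain ⟨a, ha, g, hg, hag⟩ := Submodule.mem_sup.mp (hsup ▸ (Submodule.mem_top : (1 : R) ∈ ⊤))
  refine ⟨g, by rw [← hag, sub_add_cancel_right]; exact J.neg_mem ha, fun q hq => ?_⟩
  by_contra hqU
  have h3 : q ∈ PrimeSpectrum.zeroLocus s := hs ▸ hqU
  exact hq (Ideal.span_le.mpr ((PrimeSpectrum.mem_zeroLocus _ _).mp h3) hg)

theorem quotientMap_away_bijective {g : R} (hg : g - 1 ∈ J) :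
    Function.Bijective (Ideal.quotientMap (J.map (algebraMap R (Localization.Away g)))
      (algebraMap R (Localization.Away g)) Ideal.le_comap_map) := by
  set L := Localization.Away g
  have hu : IsUnit (Ideal.Quotient.mk J g) := by
    rw [show Ideal.Quotient.mk J g = 1 from (Ideal.Quotient.eq.mpr hg).trans (map_one _)]
    exact isUnit_one
  let l : L →+* R ⧸ J := IsLocalization.Away.lift g (g := Ideal.Quotient.mk J) hu
  have hl : ∀ r, l (algebraMap R L r) = Ideal.Quotient.mk J r := IsLocalization.Away.lift_eq g hu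
  have hker : ∀ y ∈ J.map (algebraMap R L), l y = 0 := fun y hy => by
    have h1 := Ideal.mem_map_of_mem l hy
    rw [Ideal.map_map, show l.comp (algebraMap R L) = Ideal.Quotient.mk J from RingHom.ext hl,
      Ideal.map_quotient_self] at h1
    exact h1
  refine ⟨Function.LeftInverse.injective (g := Ideal.Quotient.lift _ l hker) fun x => ?_, fun y => ?_⟩
  · obtain ⟨r, rfl⟩ := Ideal.Quotient.mk_surjective x
    exact hl r
  · obtain ⟨d, rfl⟩ := Ideal.Quotient.mk_surjective y
    obtain ⟨⟨r, ⟨_, m, rfl⟩⟩, hrm⟩ := IsLocalization.surj (Submonoid.powers g) d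
    refine ⟨Ideal.Quotient.mk J r, ?_⟩
    rw [Ideal.quotientMap_mk]
    replace hrm : d * algebraMap R L (g ^ m) = algebraMap R L r := hrm
    rw [← hrm, map_mul, show Ideal.Quotient.mk (J.map (algebraMap R L)) (algebraMap R L (g ^ m)) = 1 from ?_,
      mul_one]
    rw [map_pow, map_pow, show Ideal.Quotient.mk (J.map (algebraMap R L)) (algebraMap R L g) = 1 from ?_,
      one_pow]
    rw [← map_one (Ideal.Quotient.mk (J.map (algebraMap R L))), Ideal.Quotient.eq, ← map_one (algebraMap R L),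
      ← map_sub]
    exact Ideal.mem_map_of_mem _ hg

end Groth.Agent.HenselLib
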