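import Groth.Agent.HenselLib.Unique
import Mathlib.RingTheory.Smooth.StandardSmoothCotangent

/-!
# The multivariate Hensel lemma
-/

universe u

open MvPolynomial

namespace Groth.Agent.HenselLib

/-- Multivariate Hensel lemma in a henselian pair. -/
theorem exists_root_of_jacobian {A : Type u} [CommRing A] (I : Ideal A) [HenselianRing A I]
    {ι : Type} [Fintype ι] [DecidableEq ι] (P : ι → MvPolynomial ι A) (a₀ : ι → A)
    (h₀ : ∀ i, eval a₀ (P i) ∈ I)
    (hJ : IsUnit (Matrix.of fun i j => eval a₀ (pderiv j (P i))).det) :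
    ∃ a : ι → A, (∀ i, eval a (P i) = 0) ∧ ∀ j, a j - a₀ j ∈ I := by
  set E₀ := MvPolynomial ι A ⧸ Ideal.span (Set.range P)
  let P₀ : Algebra.PreSubmersivePresentation A E₀ ι ι :=
    Algebra.PreSubmersivePresentation.naive (v := P) id Function.injective_id
  set E₁ := Localization.Away P₀.jacobian
  let Q := Algebra.PreSubmersivePresentation.localizationAway E₁ P₀.jacobian
  let S : Algebra.SubmersivePresentation A E₁ (Unit ⊕ ι) (Unit ⊕ ι) :=
    { Q.comp P₀ with
      jacobian_isUnit := by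
        rw [Algebra.PreSubmersivePresentation.comp_jacobian_eq_jacobian_smul_jacobian,
          Algebra.smul_def, IsUnit.mul_iff]
        exact ⟨IsLocalization.map_units E₁ (⟨P₀.jacobian, 1, by simp⟩ : Submonoid.powers P₀.jacobian),
          (Algebra.SubmersivePresentation.localizationAway E₁ P₀.jacobian).jacobian_isUnit⟩ }
  haveI : Algebra.IsStandardSmoothOfRelativeDimension 0 A E₁ :=
    S.isStandardSmoothOfRelativeDimension (by simp [Algebra.Presentation.dimension])
  let σ₀ : E₀ →ₐ[A] A ⧸ I := Ideal.Quotient.liftₐ _ ((Ideal.Quotient.mkₐ A I).comp (aeval a₀))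
    (fun p hp => by
      refine (Ideal.span_le.mpr ?_ :
        Ideal.span (Set.range P) ≤ RingHom.ker ((Ideal.Quotient.mkₐ A I).comp (aeval a₀))) hp
      rintro _ ⟨i, rfl⟩
      exact Ideal.Quotient.eq_zero_iff_mem.mpr (h₀ i))
  have hσ₀ : ∀ p, σ₀ (Ideal.Quotient.mk _ p) = Ideal.Quotient.mk I (eval a₀ p) := fun p => rfl
  have hunit : IsUnit (σ₀ P₀.jacobian) := by
    rw [Algebra.PreSubmersivePresentation.jacobian_eq_jacobiMatrix_det,
      show algebraMap P₀.Ring E₀ P₀.jacobiMatrix.det = Ideal.Quotient.mk _ P₀.jacobiMatrix.det from rfl,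
      hσ₀, RingHom.map_det]
    refine IsUnit.map _ ?_
    convert hJ using 1
    rw [← Matrix.det_transpose]
    congr 1
    ext i j
    simp only [Matrix.transpose_apply, Matrix.of_apply, RingHom.mapMatrix_apply, Matrix.map_apply,
      Algebra.PreSubmersivePresentation.jacobiMatrix_apply]
    rfl
  obtain ⟨τ, hτ, -⟩ := existsUnique_lift I
    (IsLocalization.Away.liftAlgHom P₀.jacobian (f := σ₀) hunit : E₁ →ₐ[A] A ⧸ I)
  let f : MvPolynomial ι A →ₐ[A] A :=
    (τ.comp (IsScalarTower.toAlgHom A E₀ E₁)).comp (Ideal.Quotient.mkₐ A _)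
  have hf : f = aeval (fun j => f (X j)) := aeval_unique f
  refine ⟨fun j => f (X j), fun i => ?_, fun j => ?_⟩
  · rw [← coe_aeval_eq_eval, ← hf]
    show f (P i) = 0
    have : Ideal.Quotient.mkₐ A (Ideal.span (Set.range P)) (P i) = 0 :=
      Ideal.Quotient.eq_zero_iff_mem.mpr (Ideal.subset_span ⟨i, rfl⟩)
    simp only [f, AlgHom.comp_apply, this, map_zero]
  · rw [← Ideal.Quotient.eq]
    have := AlgHom.congr_fun hτ (algebraMap E₀ E₁ (Ideal.Quotient.mk _ (X j)))
    simp [hσ₀] at this
    exact this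

end Groth.Agent.HenselLib
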