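import Groth.Agent.HenselLib.PairHenselization
import Groth.Agent.HenselLib.PairNbhd
import Groth.Agent.HenselLib.Ops
import Mathlib.RingTheory.FinitePresentation
import Mathlib.Algebra.Colimit.DirectLimit
import Mathlib.Algebra.MvPolynomial.Rename

/-!
# Henselian finitely presented algebras
-/

universe u

open MvPolynomial

namespace Groth.Agent.HenselLib

variable {A : Type u} [CommRing A] {I : Ideal A}

/-- A quotient of the henselization of a finitely presented algebra by finitely many elements is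
again the henselization of a finitely presented algebra. -/
theorem exists_fp_of_quotient_span {R : Type u} [CommRing R] [Algebra A R]
    [Algebra.FinitePresentation A R] {H : Type u} [CommRing H] [Algebra R H] [Algebra A H]
    [IsScalarTower A R H] (hH : Hens2.IsPairHenselization R (I.map (algebraMap A R)) H)
    (s : Finset H) :
    ∃ (R' : Type u) (_ : CommRing R') (_ : Algebra A R')
      (_ : Algebra R' (H ⧸ Ideal.span (s : Set H))) (_ : IsScalarTower A R' (H ⧸ Ideal.span (s : Set H))),
      Algebra.FinitePresentation A R' ∧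
        Hens2.IsPairHenselization R' (I.map (algebraMap A R')) (H ⧸ Ideal.span (s : Set H)) := by
  classical
  set IR := I.map (algebraMap A R)
  obtain ⟨ρ, h⟩ := exists_colim_of_isPairHenselization hH
  obtain ⟨C, _, _, _, τ, hτ⟩ := exists_common_rep (R := R) h.exists_rep s
  obtain ⟨D, _, _, _, χ, σ', hneat, hσ'⟩ := exists_isNeat (ρ.comp τ)
  obtain ⟨τ', hτ', -⟩ := h.existsUnique_lift σ'
  have hττ : τ'.comp χ = τ := algHom_ext_of_reflectsUnit ρ h.reflectsUnit (by
    rw [← AlgHom.comp_assoc, hτ', hσ'])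
  have hd : ∀ x : {x // x ∈ s}, ∃ d : D, τ' d = x.1 := fun x => by
    obtain ⟨c, hc⟩ := hτ x.1 x.2
    exact ⟨χ c, (AlgHom.congr_fun hττ c).trans hc⟩
  choose d hd using hd
  let _ : Algebra A D := ((algebraMap R D).comp (algebraMap A R)).toAlgebra
  have : IsScalarTower A R D := IsScalarTower.of_algebraMap_eq' rfl
  have : Algebra.FinitePresentation A D := Algebra.FinitePresentation.trans A R D
  have hAH : ∀ a, τ' (algebraMap A D a) = algebraMap A H a := fun a =>
    (τ'.commutes _).trans (IsScalarTower.algebraMap_apply A R H a).symm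
  set 𝔞 : Ideal D := Ideal.span (Set.range d)
  set K : Ideal H := Ideal.span (s : Set H)
  have hK : 𝔞.map τ'.toRingHom = K := by
    rw [Ideal.map_span]
    congr 1
    refine Set.Subset.antisymm ?_ fun x hx => ⟨_, ⟨⟨x, hx⟩, rfl⟩, hd ⟨x, hx⟩⟩
    rintro _ ⟨_, ⟨x, rfl⟩, rfl⟩
    exact (hd x).symm ▸ x.2
  let φ : (D ⧸ 𝔞) →+* H ⧸ K :=
    Ideal.Quotient.lift 𝔞 ((Ideal.Quotient.mk K).comp τ'.toRingHom) fun z hz => by
      exact Ideal.Quotient.eq_zero_iff_mem.2 (hK.le (Ideal.mem_map_of_mem _ hz))
  let _ : Algebra (D ⧸ 𝔞) (H ⧸ K) := φ.toAlgebra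
  have hT : IsScalarTower A (D ⧸ 𝔞) (H ⧸ K) := IsScalarTower.of_algebraMap_eq fun a => by
    show Ideal.Quotient.mk K (algebraMap A H a) = Ideal.Quotient.mk K (τ' (algebraMap A D a))
    rw [hAH]
  refine ⟨D ⧸ 𝔞, inferInstance, inferInstance, inferInstance, hT,
    Algebra.FinitePresentation.quotient (Submodule.fg_span (Set.finite_range d)), ?_, ?_⟩
  · rw [Ideal.map_map, ← IsScalarTower.algebraMap_eq,
      show algebraMap A (H ⧸ K) = (Ideal.Quotient.mk K).comp (algebraMap A H) from rfl,
      ← Ideal.map_map, show I.map (algebraMap A H) = IR.map (algebraMap R H) by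
        rw [Ideal.map_map, ← IsScalarTower.algebraMap_eq]]
    have := hH.1
    exact henselianRing_quotient K _
  intro T _ J f hJ hle
  set fD : D →+* T := f.comp (Ideal.Quotient.mk 𝔞)
  have hfR : IR.map (fD.comp (algebraMap R D)) ≤ J := by
    refine le_trans (le_of_eq ?_) hle
    rw [Ideal.map_map, Ideal.map_map]
    rfl
  obtain ⟨g, hg, hgu⟩ := hH.2 T J _ hJ hfR
  let _ : Algebra R T := (fD.comp (algebraMap R D)).toAlgebra
  let fDR : D →ₐ[R] T := { fD with commutes' := fun _ => rfl }
  let gR : H →ₐ[R] T := { g with commutes' := RingHom.congr_fun hg }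
  have hgf : gR.comp τ' = fDR := by
    refine algHom_ext_of_jacobson hJ.jac fun x => ?_
    obtain ⟨z, hz⟩ := hneat.2 (Ideal.Quotient.mk _ x)
    obtain ⟨r, rfl⟩ := Ideal.Quotient.mk_surjective z
    rw [Ideal.quotientMap_mk] at hz
    have hmem := Ideal.Quotient.eq.mp hz
    have key : ∀ ψ : D →ₐ[R] T, ψ x - algebraMap R T r ∈ J := fun ψ => by
      have h1 := Ideal.mem_map_of_mem ψ.toRingHom hmem
      rw [Ideal.map_map, AlgHom.toRingHom_eq_coe, ψ.comp_algebraMap] at h1
      have h2 : ψ (algebraMap R D r - x) ∈ J := hfR h1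
      rw [map_sub, ψ.commutes] at h2
      simpa using J.neg_mem h2
    simpa using J.sub_mem (key (gR.comp τ')) (key fDR)
  have hgf' : ∀ z, g (τ' z) = f (Ideal.Quotient.mk 𝔞 z) := fun z => AlgHom.congr_fun hgf z
  refine ⟨Ideal.Quotient.lift K g fun z hz => ?_, Ideal.Quotient.ringHom_ext (RingHom.ext hgf'),
    fun g' hg' => Ideal.Quotient.ringHom_ext ?_⟩
  · have hker : 𝔞.map τ'.toRingHom ≤ RingHom.ker g := by
      refine Ideal.map_le_iff_le_comap.2 fun y hy => ?_
      show g (τ' y) = 0
      rw [hgf' y, Ideal.Quotient.eq_zero_iff_mem.2 hy, map_zero]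
    exact hker (hK.ge hz)
  · refine (hgu (g'.comp (Ideal.Quotient.mk K)) (RingHom.ext fun r => ?_)).trans (RingHom.ext fun _ => rfl)
    show g' (Ideal.Quotient.mk K (algebraMap R H r)) = f (Ideal.Quotient.mk 𝔞 (algebraMap R D r))
    rw [← τ'.commutes r]
    exact RingHom.congr_fun hg' (Ideal.Quotient.mk 𝔞 (algebraMap R D r))

section Index

variable (A) (B : Type u) [CommRing B] [Algebra A B]

/-- Evaluation of the free algebra on the underlying set. -/
noncomputable def evalAll : MvPolynomial B A →ₐ[A] B := aeval id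

/-- Index: finitely many elements and finitely many relations. -/
abbrev FPIdx : Type u := Finset B × Finset (RingHom.ker (evalAll A B).toRingHom)

variable {A B}

/-- The relations involving only the chosen elements. -/
noncomputable def fpRel (k : FPIdx A B) : Ideal (MvPolynomial {b // b ∈ k.1} A) :=
  Ideal.span (rename (Subtype.val : {b // b ∈ k.1} → B) ⁻¹'
    (Subtype.val '' (k.2 : Set (RingHom.ker (evalAll A B).toRingHom))))

theorem fpRel_fg (k : FPIdx A B) : (fpRel k).FG :=
  Submodule.fg_span ((k.2.finite_toSet.image _).preimage (rename_injective _ Subtype.val_injective).injOn)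

/-- The stage. -/
abbrev FPStage (k : FPIdx A B) : Type u := MvPolynomial {b // b ∈ k.1} A ⧸ fpRel k

/-- The map to `B`. -/
noncomputable def fpToB (k : FPIdx A B) : FPStage k →ₐ[A] B :=
  Ideal.Quotient.liftₐ _ (aeval fun b : {b // b ∈ k.1} => (b : B)) fun q hq => by
    refine (Ideal.span_le (I := RingHom.ker (aeval fun b : {b // b ∈ k.1} => (b : B)).toRingHom)).2
      (fun p hp => ?_) hq
    obtain ⟨z, -, hz⟩ := hp
    show aeval _ p = 0
    have h0 : evalAll A B z.1 = 0 := z.2
    rw [hz] at h0
    exact (aeval_rename _ id p).symm.trans h0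

/-- The transition maps. -/
noncomputable def fpMap {k l : FPIdx A B} (h : k ≤ l) : FPStage k →ₐ[A] FPStage l :=
  Ideal.Quotient.liftₐ _ ((Ideal.Quotient.mkₐ A (fpRel l)).comp
      (rename fun b : {b // b ∈ k.1} => (⟨b.1, h.1 b.2⟩ : {b // b ∈ l.1}))) fun q hq => by
    refine (Ideal.span_le (I := RingHom.ker ((Ideal.Quotient.mkₐ A (fpRel l)).comp
      (rename fun b : {b // b ∈ k.1} => (⟨b.1, h.1 b.2⟩ : {b // b ∈ l.1}))).toRingHom)).2
      (fun p hp => ?_) hq
    obtain ⟨z, hz, hzp⟩ := hp
    refine Ideal.Quotient.eq_zero_iff_mem.2 (Ideal.subset_span ⟨z, h.2 hz, ?_⟩)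
    rw [hzp]
    show rename Subtype.val p = rename Subtype.val
      (rename (fun b : {b // b ∈ k.1} => (⟨b.1, h.1 b.2⟩ : {b // b ∈ l.1})) p)
    rw [rename_rename (fun b : {b // b ∈ k.1} => (⟨b.1, h.1 b.2⟩ : {b // b ∈ l.1})) Subtype.val p]
    rfl

/-- An algebra over a henselian pair which is compact among henselian pairs is the henselization
of a finitely presented algebra. -/
theorem exists_fp_of_factor [HenselianRing B (I.map (algebraMap A B))]
    (h : ∀ (κ : Type u) [Preorder κ] [IsDirectedOrder κ] [Nonempty κ]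
      (Ra : κ → Type u) [∀ a, CommRing (Ra a)] [∀ a, Algebra A (Ra a)]
      [∀ a, HenselianRing (Ra a) (I.map (algebraMap A (Ra a)))]
      (t : ∀ a b : κ, a ≤ b → (Ra a →+* Ra b)) [DirectedSystem Ra (fun a b hab => t a b hab)],
      (∀ (a b : κ) (hab : a ≤ b), (t a b hab).comp (algebraMap A (Ra a)) = algebraMap A (Ra b)) →
      ∀ [Algebra A (DirectLimit Ra t)],
      (∀ (a : κ) (x : A), algebraMap A (DirectLimit Ra t) x =
        DirectLimit.Ring.of Ra t a (algebraMap A (Ra a) x)) →
      ∀ χ : B →ₐ[A] DirectLimit Ra t, ∃ (a : κ) (φ : B →ₐ[A] Ra a),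
          ∀ x : B, DirectLimit.Ring.of Ra t a (φ x) = χ x) :
    ∃ (R : Type u) (_ : CommRing R) (_ : Algebra A R) (_ : Algebra R B) (_ : IsScalarTower A R B),
      Algebra.FinitePresentation A R ∧ Hens2.IsPairHenselization R (I.map (algebraMap A R)) B := by
  classical
  choose H iC iA hH using fun k : FPIdx A B =>
    exists_pairHenselization (FPStage k) (I.map (algebraMap A (FPStage k)))
  let _ : ∀ k, Algebra A (H k) := fun k =>
    ((algebraMap (FPStage k) (H k)).comp (algebraMap A (FPStage k))).toAlgebra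
  have hTow : ∀ k, @IsScalarTower A (FPStage k) (H k) Algebra.toSMul Algebra.toSMul Algebra.toSMul :=
    fun k => IsScalarTower.of_algebraMap_eq' rfl
  have hIH : ∀ k, (I.map (algebraMap A (FPStage k))).map (algebraMap (FPStage k) (H k)) =
      I.map (algebraMap A (H k)) := fun k => Ideal.map_map _ _
  have hHh : ∀ k, HenselianRing (H k) (I.map (algebraMap A (H k))) := fun k => hIH k ▸ (hH k).1
  have hex : ∀ k l : FPIdx A B, ∀ hkl : k ≤ l, ∃! g : H k →+* H l,
      g.comp (algebraMap (FPStage k) (H k)) =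
        (algebraMap (FPStage l) (H l)).comp (fpMap hkl).toRingHom := fun k l hkl =>
    (hH k).2 _ _ _ (hHh l) (by
      rw [Ideal.map_map, RingHom.comp_assoc]
      refine le_of_eq (congrArg (fun f => I.map f) (RingHom.ext fun a => ?_))
      show algebraMap (FPStage l) (H l) (fpMap hkl (algebraMap A (FPStage k) a)) = _
      rw [AlgHom.commutes]
      rfl)
  choose t ht htu using hex
  have ht' : ∀ k l hkl x, t k l hkl (algebraMap (FPStage k) (H k) x) =
      algebraMap (FPStage l) (H l) (fpMap hkl x) := fun k l hkl x => RingHom.congr_fun (ht k l hkl) x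
  have htA : ∀ k l hkl, (t k l hkl).comp (algebraMap A (H k)) = algebraMap A (H l) := fun k l hkl =>
    RingHom.ext fun a => (ht' k l hkl _).trans (by rw [AlgHom.commutes]; rfl)
  have hmapid : ∀ (k : FPIdx A B) (h : k ≤ k) (x : FPStage k), fpMap h x = x := fun k h x => by
    obtain ⟨q, rfl⟩ := Ideal.Quotient.mk_surjective x
    show Ideal.Quotient.mk _ (rename _ q) = _
    rw [show (fun b : {b // b ∈ k.1} => (⟨b.1, h.1 b.2⟩ : {b // b ∈ k.1})) = id from rfl, rename_id]
    rfl
  have hmapmap : ∀ {k l m : FPIdx A B} (h₁ : k ≤ l) (h₂ : l ≤ m) (x : FPStage k),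
      fpMap h₂ (fpMap h₁ x) = fpMap (h₁.trans h₂) x := fun {k l m} h₁ h₂ x => by
    obtain ⟨q, rfl⟩ := Ideal.Quotient.mk_surjective x
    show Ideal.Quotient.mk _ (rename _ (rename _ q)) = Ideal.Quotient.mk _ (rename _ q)
    rw [rename_rename]
    rfl
  have hDS : DirectedSystem H (fun k l hkl => t k l hkl) :=
    { map_self := fun k x => by
        have e := htu k k le_rfl (RingHom.id _) (RingHom.ext fun z => by
          show algebraMap _ _ z = algebraMap _ _ (fpMap le_rfl z)
          rw [hmapid])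
        exact (RingHom.congr_fun e x).symm
      map_map := fun m l k h₁ h₂ x => by
        have e := htu k m (h₁.trans h₂) ((t l m h₂).comp (t k l h₁)) (RingHom.ext fun z => by
          show t l m h₂ (t k l h₁ (algebraMap _ _ z)) = _
          rw [ht', ht', hmapmap]
          rfl)
        exact RingHom.congr_fun e x }
  let k₀ : FPIdx A B := (∅, ∅)
  let _ : Algebra A (DirectLimit H t) := ((DirectLimit.Ring.of H t k₀).comp (algebraMap A (H k₀))).toAlgebra
  have halg : ∀ k x, algebraMap A (DirectLimit H t) x =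
      DirectLimit.Ring.of H t k (algebraMap A (H k) x) := fun k x => by
    obtain ⟨l, h₁, h₂⟩ := exists_ge_ge k₀ k
    show DirectLimit.Ring.of H t k₀ (algebraMap A (H k₀) x) = _
    rw [← DirectLimit.Ring.of_f (f := t) h₁, ← DirectLimit.Ring.of_f (f := t) h₂]
    exact congrArg _ ((RingHom.congr_fun (htA k₀ l h₁) x).trans (RingHom.congr_fun (htA k l h₂) x).symm)
  let kB : B → FPIdx A B := fun b => (({b} : Finset B), ∅)
  let xB : B → DirectLimit H t := fun b => DirectLimit.Ring.of H t (kB b)
    (algebraMap (FPStage (kB b)) (H (kB b))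
      (Ideal.Quotient.mk _ (X (⟨b, Finset.mem_singleton_self b⟩ : {x // x ∈ (kB b).1}))))
  let ι₀ : MvPolynomial B A →ₐ[A] DirectLimit H t := aeval xB
  have hι₀ : ∀ (k : FPIdx A B) (q : MvPolynomial {b // b ∈ k.1} A),
      ι₀ (rename Subtype.val q) =
        DirectLimit.Ring.of H t k (algebraMap (FPStage k) (H k) (Ideal.Quotient.mk _ q)) := by
    intro k q
    induction q using MvPolynomial.induction_on with
    | C a => rw [rename_C, ← MvPolynomial.algebraMap_eq, AlgHom.commutes, halg k]; rfl
    | add p q hp hq => simp only [map_add, hp, hq]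
    | mul_X p b hp =>
      rw [map_mul, map_mul, hp, rename_X, map_mul, map_mul, map_mul]
      congr 1
      have hle : (({b.1}, ∅) : FPIdx A B) ≤ k :=
        ⟨Finset.singleton_subset_iff.2 b.2, Finset.empty_subset _⟩
      simp only [ι₀, xB, aeval_X]
      rw [← DirectLimit.Ring.of_f (f := t) hle, ht']
      show DirectLimit.Ring.of H t k (algebraMap _ _ (Ideal.Quotient.mk _ (rename _ (X _)))) = _
      rw [rename_X]
  have hsurj : Function.Surjective (evalAll A B) := fun b => ⟨X b, by simp [evalAll]⟩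
  have hker : RingHom.ker (evalAll A B).toRingHom ≤ RingHom.ker ι₀.toRingHom := fun q hq => by
    obtain ⟨s, q', rfl⟩ := exists_finset_rename q
    show ι₀ (rename _ q') = 0
    let z : RingHom.ker (evalAll A B).toRingHom := ⟨_, hq⟩
    have h0 : Ideal.Quotient.mk (fpRel ((s, {z}) : FPIdx A B)) q' = 0 :=
      Ideal.Quotient.eq_zero_iff_mem.2 (Ideal.subset_span
        ⟨z, Finset.mem_coe.2 (Finset.mem_singleton_self z), rfl⟩)
    rw [hι₀ (s, {z}) q', h0, map_zero, map_zero]
  let ι : B →ₐ[A] DirectLimit H t := AlgHom.liftOfSurjective (evalAll A B) hsurj ι₀ hker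
  have hexπ : ∀ k, ∃! g : H k →+* B, g.comp (algebraMap (FPStage k) (H k)) = (fpToB k).toRingHom :=
    fun k => (hH k).2 B (I.map (algebraMap A B)) _ inferInstance (by
      rw [Ideal.map_map]
      exact le_of_eq (congrArg (fun f => I.map f) (fpToB k).comp_algebraMap))
  choose π hπ hπu using hexπ
  have hπ' : ∀ k x, π k (algebraMap (FPStage k) (H k) x) = fpToB k x := fun k x =>
    RingHom.congr_fun (hπ k) x
  have hπt : ∀ k l hkl x, π l (t k l hkl x) = π k x := fun k l hkl x =>
    RingHom.congr_fun (hπu k ((π l).comp (t k l hkl)) (RingHom.ext fun z => by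
      show π l (t k l hkl (algebraMap _ _ z)) = fpToB k z
      rw [ht', hπ']
      obtain ⟨q, rfl⟩ := Ideal.Quotient.mk_surjective z
      show aeval _ (rename _ q) = aeval _ q
      rw [aeval_rename]
      rfl)) x
  let Ψ : DirectLimit H t →+* B := DirectLimit.Ring.lift H t B π hπt
  have hΨ : ∀ b : B, Ψ (ι b) = b := fun b => by
    have e : ι b = xB b := by
      conv_lhs => rw [← show evalAll A B (X b) = b by simp [evalAll]]
      exact (AlgHom.liftOfSurjective_apply ..).trans (aeval_X _ _)
    rw [e]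
    show π _ (algebraMap _ _ _) = b
    rw [hπ']
    exact aeval_X _ _
  obtain ⟨k, φ, hφ⟩ := h (FPIdx A B) H t htA halg ι
  have hsec : ∀ b, π k (φ b) = b := fun b => by
    have := congrArg Ψ (hφ b)
    rwa [hΨ] at this
  have hπA : ∀ a, π k (algebraMap A (H k) a) = algebraMap A B a := fun a =>
    (hπ' k _).trans ((fpToB k).commutes a)
  let gen : {b // b ∈ k.1} → H k := fun b =>
    algebraMap (FPStage k) (H k) (Ideal.Quotient.mk _ (X b))
  let s : Finset (H k) := Finset.univ.image fun b => φ (π k (gen b)) - gen b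
  set K : Ideal (H k) := Ideal.span (s : Set (H k))
  let πA : H k →ₐ[A] B := { π k with commutes' := hπA }
  have hKπ : ∀ z ∈ K, πA z = 0 := fun z hz => by
    refine (Ideal.span_le (I := RingHom.ker πA.toRingHom)).2 (fun y hy => ?_) hz
    obtain ⟨b, -, rfl⟩ := Finset.mem_image.1 (Finset.mem_coe.1 hy)
    show πA (_ - _) = 0
    rw [map_sub]
    show π k (φ (π k (gen b))) - π k (gen b) = 0
    rw [hsec, sub_self]
  have := hHh k
  have hres : ∀ x, Ideal.Quotient.mk K (φ (π k x)) = Ideal.Quotient.mk K x := by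
    have := henselianRing_quotient K (I.map (algebraMap A (H k)))
    intro x
    refine RingHom.congr_fun (pairHenselization_hom_ext (hH k)
      ((I.map (algebraMap A (H k))).map (Ideal.Quotient.mk K)) (g := Ideal.Quotient.mk K)
      (g' := ((Ideal.Quotient.mk K).comp φ.toRingHom).comp (π k)) ?_ ?_) x
    · rw [← hIH k]
      exact le_of_eq (Ideal.map_map _ _).symm
    · refine Ideal.Quotient.ringHom_ext (MvPolynomial.ringHom_ext (fun a => ?_) fun b => ?_)
      · show Ideal.Quotient.mk K (φ (π k (algebraMap A (H k) a))) =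
          Ideal.Quotient.mk K (algebraMap A (H k) a)
        rw [hπA, φ.commutes]
      · exact Ideal.Quotient.eq.2 (Ideal.subset_span
          (Finset.mem_coe.2 (Finset.mem_image_of_mem _ (Finset.mem_univ b))))
  let π' : (H k ⧸ K) →ₐ[A] B := Ideal.Quotient.liftₐ K πA hKπ
  have hbij : Function.Bijective π' := by
    refine ⟨(injective_iff_map_eq_zero π').2 fun z hz => ?_, fun b =>
      ⟨Ideal.Quotient.mk K (φ b), hsec b⟩⟩
    obtain ⟨x, rfl⟩ := Ideal.Quotient.mk_surjective z
    rw [← hres x, show π k x = 0 from hz, map_zero, map_zero]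
  have : Algebra.FinitePresentation A (FPStage k) := Algebra.FinitePresentation.quotient (fpRel_fg k)
  obtain ⟨R, _, _, _, _, hR, hR'⟩ := exists_fp_of_quotient_span (A := A) (hH k) s
  let e : (H k ⧸ K) ≃ₐ[A] B := AlgEquiv.ofBijective π' hbij
  let _ : Algebra R B := (e.toRingEquiv.toRingHom.comp (algebraMap R (H k ⧸ K))).toAlgebra
  have : IsScalarTower A R B := IsScalarTower.of_algebraMap_eq fun a => by
    show algebraMap A B a = e (algebraMap R (H k ⧸ K) (algebraMap A R a))
    rw [← IsScalarTower.algebraMap_apply, e.commutes]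
  exact ⟨R, inferInstance, inferInstance, inferInstance, this, hR,
    isPairHenselization_of_algEquiv hR' (AlgEquiv.ofRingEquiv (f := e.toRingEquiv) fun _ => rfl)⟩

end Index

end Groth.Agent.HenselLib
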