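import Groth.Agent.HenselLib.PairFP

/-!
# Operations on henselian finitely presented algebras
-/

universe u

open MvPolynomial
open scoped TensorProduct

namespace Groth.Agent.HenselLib

variable {A : Type u} [CommRing A] {I : Ideal A}

/-- `C` is the henselization of some finitely presented `A`-algebra. -/
def IsHFP (I : Ideal A) (C : Type u) [CommRing C] [Algebra A C] : Prop :=
  ∃ (T : Type u) (_ : CommRing T) (_ : Algebra A T) (_ : Algebra T C) (_ : IsScalarTower A T C),
    Algebra.FinitePresentation A T ∧ Hens2.IsPairHenselization T (I.map (algebraMap A T)) C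

/-- Transport of `exists_fp_of_quotient_span` along a presentation. -/
theorem isHFP_of_inverse {R : Type u} [CommRing R] [Algebra A R] [Algebra.FinitePresentation A R]
    {G : Type u} [CommRing G] [Algebra R G] [Algebra A G] [IsScalarTower A R G]
    (hG : Hens2.IsPairHenselization R (I.map (algebraMap A R)) G) (s : Finset G)
    {C : Type u} [CommRing C] [Algebra A C] (θ : G →ₐ[A] C) (hθ : ∀ z ∈ s, θ z = 0)
    (ψ : C →+* G ⧸ Ideal.span (s : Set G)) (h₁ : ∀ x, ψ (θ x) = Ideal.Quotient.mk _ x)
    (h₂ : ∀ c, ∀ x, Ideal.Quotient.mk _ x = ψ c → θ x = c) : IsHFP I C := by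
  obtain ⟨T, _, _, _, _, hT, hT'⟩ := exists_fp_of_quotient_span (A := A) hG s
  have hK : ∀ z ∈ Ideal.span (s : Set G), θ z = 0 := fun z hz =>
    (Ideal.span_le (I := RingHom.ker θ.toRingHom)).2 hθ hz
  let θ' : (G ⧸ Ideal.span (s : Set G)) →ₐ[A] C :=
    Ideal.Quotient.liftₐ (Ideal.span (s : Set G)) θ hK
  have hbij : Function.Bijective θ' := by
    refine ⟨fun z w h => ?_, fun c => ?_⟩
    · obtain ⟨x, rfl⟩ := Ideal.Quotient.mk_surjective z
      obtain ⟨y, rfl⟩ := Ideal.Quotient.mk_surjective w
      rw [← h₁ x, ← h₁ y]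
      exact congrArg ψ h
    · obtain ⟨x, hx⟩ := Ideal.Quotient.mk_surjective (ψ c)
      exact ⟨Ideal.Quotient.mk _ x, h₂ c x hx⟩
  let e : (G ⧸ Ideal.span (s : Set G)) ≃ₐ[A] C := AlgEquiv.ofBijective θ' hbij
  let _ : Algebra T C :=
    (e.toRingEquiv.toRingHom.comp (algebraMap T (G ⧸ Ideal.span (s : Set G)))).toAlgebra
  have : IsScalarTower A T C := IsScalarTower.of_algebraMap_eq fun a => by
    show algebraMap A C a = e (algebraMap T (G ⧸ Ideal.span (s : Set G)) (algebraMap A T a))
    rw [← IsScalarTower.algebraMap_apply, e.commutes]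
  exact ⟨T, inferInstance, inferInstance, inferInstance, this, hT,
    isPairHenselization_of_algEquiv hT' (AlgEquiv.ofRingEquiv (f := e.toRingEquiv) fun _ => rfl)⟩

theorem map_map_le {R T : Type u} [CommRing R] [Algebra A R] [CommRing T] [Algebra A T]
    (f : R →+* T) (hf : ∀ a, f (algebraMap A R a) = algebraMap A T a) :
    (I.map (algebraMap A R)).map f ≤ I.map (algebraMap A T) := by
  rw [Ideal.map_map]
  exact le_of_eq (congrArg (fun g => I.map g) (RingHom.ext hf))

theorem henselianRing_quotient_algebraMap {G : Type u} [CommRing G] [Algebra A G]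
    [HenselianRing G (I.map (algebraMap A G))] (K : Ideal G) :
    HenselianRing (G ⧸ K) (I.map (algebraMap A (G ⧸ K))) := by
  rw [show algebraMap A (G ⧸ K) = (Ideal.Quotient.mk K).comp (algebraMap A G) from rfl,
    ← Ideal.map_map]
  exact henselianRing_quotient K _

theorem henselianRing_of_isPairHenselization {R H : Type u} [CommRing R] [Algebra A R] [CommRing H]
    [Algebra R H] [Algebra A H] [IsScalarTower A R H]
    (hH : Hens2.IsPairHenselization R (I.map (algebraMap A R)) H) :
    HenselianRing H (I.map (algebraMap A H)) := by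
  have := hH.1
  rwa [Ideal.map_map, ← IsScalarTower.algebraMap_eq] at this

/-- Composition. -/
theorem isHFP_trans {R : Type u} [CommRing R] [Algebra A R] [Algebra.FinitePresentation A R]
    {B : Type u} [CommRing B] [Algebra R B] [Algebra A B] [IsScalarTower A R B]
    (hB : Hens2.IsPairHenselization R (I.map (algebraMap A R)) B)
    {S : Type u} [CommRing S] [Algebra B S] [Algebra A S] [IsScalarTower A B S]
    [Algebra.FinitePresentation B S]
    {C : Type u} [CommRing C] [Algebra S C] [Algebra B C] [Algebra A C] [IsScalarTower B S C]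
    [IsScalarTower A B C]
    (hC : Hens2.IsPairHenselization S (I.map (algebraMap A S)) C) : IsHFP I C := by
  classical
  have hSC : ∀ a, algebraMap S C (algebraMap A S a) = algebraMap A C a := fun a => by
    rw [IsScalarTower.algebraMap_apply A B S, ← IsScalarTower.algebraMap_apply B S C,
      ← IsScalarTower.algebraMap_apply]
  have : IsScalarTower A S C := IsScalarTower.of_algebraMap_eq fun a => (hSC a).symm
  have hCh : HenselianRing C (I.map (algebraMap A C)) := henselianRing_of_isPairHenselization hC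
  have hBh : HenselianRing B (I.map (algebraMap A B)) := henselianRing_of_isPairHenselization hB
  obtain ⟨n, π, hπ, hk⟩ := Algebra.FinitePresentation.out (R := B) (A := S)
  obtain ⟨rels, hrels⟩ := hk
  obtain ⟨G, _, _, hG⟩ := exists_pairHenselization (MvPolynomial (Fin n) R)
    (I.map (algebraMap A (MvPolynomial (Fin n) R)))
  let _ : Algebra A G :=
    ((algebraMap (MvPolynomial (Fin n) R) G).comp (algebraMap A (MvPolynomial (Fin n) R))).toAlgebra
  have : IsScalarTower A (MvPolynomial (Fin n) R) G := IsScalarTower.of_algebraMap_eq' rfl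
  have : Algebra.FinitePresentation A (MvPolynomial (Fin n) R) :=
    Algebra.FinitePresentation.trans A R _
  have hGh : HenselianRing G (I.map (algebraMap A G)) := henselianRing_of_isPairHenselization hG
  -- `B → G`
  set cR : R →+* G := (algebraMap (MvPolynomial (Fin n) R) G).comp MvPolynomial.C
  obtain ⟨ιB, hιB, -⟩ := hB.2 G _ cR hGh (map_map_le cR fun a => rfl)
  have hιB' : ∀ r, ιB (algebraMap R B r) = cR r := RingHom.congr_fun hιB
  have hιA : ∀ a, ιB (algebraMap A B a) = algebraMap A G a := fun a => by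
    rw [IsScalarTower.algebraMap_apply A R B, hιB']; rfl
  let gX : Fin n → G := fun i => algebraMap (MvPolynomial (Fin n) R) G (X i)
  let pB : MvPolynomial (Fin n) B →+* G := eval₂Hom ιB gX
  let s : Finset G := rels.image pB
  set K : Ideal G := Ideal.span (s : Set G)
  -- `G → C`
  let f₀ : MvPolynomial (Fin n) R →+* C :=
    eval₂Hom ((algebraMap B C).comp (algebraMap R B)) fun i => algebraMap S C (π (X i))
  obtain ⟨θ₀, hθ₀, -⟩ := hG.2 C _ f₀ hCh (map_map_le f₀ fun a => by
    show f₀ (MvPolynomial.C (algebraMap A R a)) = _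
    rw [eval₂Hom_C, RingHom.comp_apply, ← IsScalarTower.algebraMap_apply A R B,
      ← IsScalarTower.algebraMap_apply])
  have hθ₀' : ∀ p, θ₀ (algebraMap _ G p) = f₀ p := RingHom.congr_fun hθ₀
  have hθA : ∀ a, θ₀ (algebraMap A G a) = algebraMap A C a := fun a => by
    refine (hθ₀' _).trans ?_
    show f₀ (MvPolynomial.C (algebraMap A R a)) = _
    rw [eval₂Hom_C, RingHom.comp_apply, ← IsScalarTower.algebraMap_apply A R B,
      ← IsScalarTower.algebraMap_apply]
  let θ : G →ₐ[A] C := { θ₀ with commutes' := hθA }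
  have hθB : θ₀.comp ιB = algebraMap B C :=
    pairHenselization_hom_ext hB (I.map (algebraMap A C)) (g := algebraMap B C)
      (by rw [Ideal.map_map, RingHom.comp_assoc, ← IsScalarTower.algebraMap_eq A R B,
        ← IsScalarTower.algebraMap_eq])
      (RingHom.ext fun r => by
        show θ₀ (ιB (algebraMap R B r)) = algebraMap B C (algebraMap R B r)
        rw [hιB']
        exact (hθ₀' _).trans (eval₂Hom_C _ _ _))
  have hθp : ∀ q, θ₀ (pB q) = algebraMap S C (π q) := by
    have : θ₀.comp pB = (algebraMap S C).comp π.toRingHom := by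
      refine MvPolynomial.ringHom_ext (fun b => ?_) fun i => ?_
      · show θ₀ (pB (MvPolynomial.C b)) = algebraMap S C (π (MvPolynomial.C b))
        rw [eval₂Hom_C, ← MvPolynomial.algebraMap_eq, AlgHom.commutes,
          ← IsScalarTower.algebraMap_apply]
        exact RingHom.congr_fun hθB b
      · show θ₀ (pB (X i)) = algebraMap S C (π (X i))
        rw [eval₂Hom_X', hθ₀', eval₂Hom_X']
    exact RingHom.congr_fun this
  -- `C → G / K`
  have hker : RingHom.ker π.toRingHom ≤ RingHom.ker ((Ideal.Quotient.mk K).comp pB) := by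
    refine hrels.ge.trans (Ideal.span_le.2 fun q hq => ?_)
    exact Ideal.Quotient.eq_zero_iff_mem.2 (Ideal.subset_span
      (Finset.mem_coe.2 (Finset.mem_image_of_mem pB hq)))
  let fS : S →+* G ⧸ K := RingHom.liftOfSurjective π.toRingHom hπ ⟨_, hker⟩
  have hfS : ∀ q, fS (π q) = Ideal.Quotient.mk K (pB q) := fun q =>
    RingHom.liftOfRightInverse_comp_apply ..
  have hKh := henselianRing_quotient_algebraMap (I := I) K
  have hfSA : ∀ a, fS (algebraMap A S a) = algebraMap A (G ⧸ K) a := fun a => by
    rw [IsScalarTower.algebraMap_apply A B S, ← π.commutes (algebraMap A B a), hfS]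
    show Ideal.Quotient.mk K (pB (MvPolynomial.C _)) = _
    rw [eval₂Hom_C, hιA]
    rfl
  obtain ⟨ψ, hψ, -⟩ := hC.2 (G ⧸ K) _ fS hKh (map_map_le fS hfSA)
  have hψ' : ∀ x, ψ (algebraMap S C x) = fS x := RingHom.congr_fun hψ
  have hs : ∀ z ∈ s, θ z = 0 := fun z hz => by
    obtain ⟨q, hq, rfl⟩ := Finset.mem_image.1 hz
    show θ₀ (pB q) = 0
    rw [hθp, show π q = 0 from hrels.le (Ideal.subset_span hq), map_zero]
  refine isHFP_of_inverse hG s θ hs ψ (fun x => ?_) fun c x hx => ?_
  · refine RingHom.congr_fun (pairHenselization_hom_ext hG (I.map (algebraMap A (G ⧸ K)))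
      (g := Ideal.Quotient.mk K) (g' := ψ.comp θ₀) ?_ ?_) x
    · rw [Ideal.map_map, RingHom.comp_assoc]; exact le_rfl
    · have hpB : pB.comp (MvPolynomial.map (algebraMap R B)) = algebraMap (MvPolynomial (Fin n) R) G := by
        refine MvPolynomial.ringHom_ext (fun r => ?_) fun i => ?_
        · show pB (MvPolynomial.map _ (MvPolynomial.C r)) = _
          rw [map_C, eval₂Hom_C, hιB']; rfl
        · show pB (MvPolynomial.map _ (X i)) = _
          rw [map_X, eval₂Hom_X']
      refine RingHom.ext fun p => ?_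
      show ψ (θ₀ (algebraMap _ G p)) = Ideal.Quotient.mk K (algebraMap _ G p)
      rw [← hpB, RingHom.comp_apply, hθp, hψ', hfS]
  · have hc : (Ideal.Quotient.lift K θ₀ fun z hz => (Ideal.span_le
        (I := RingHom.ker θ.toRingHom)).2 hs hz).comp ψ = RingHom.id C := by
      refine pairHenselization_hom_ext hC (I.map (algebraMap A C)) (g := RingHom.id C)
        (by rw [RingHom.id_comp]; exact map_map_le _ hSC) (RingHom.ext fun y => ?_)
      obtain ⟨q, rfl⟩ := hπ y
      show Ideal.Quotient.lift K θ₀ (fun z hz => (Ideal.span_le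
        (I := RingHom.ker θ.toRingHom)).2 hs hz) (ψ (algebraMap S C (π q))) = algebraMap S C (π q)
      rw [hψ', hfS]
      exact hθp q
    have := RingHom.congr_fun hc c
    rw [RingHom.comp_apply, ← hx] at this
    exact this

/-- A map between henselian finitely presented algebras is henselian finitely presented. -/
theorem isHFP_of_algHom {R : Type u} [CommRing R] [Algebra A R] [Algebra.FiniteType A R]
    {B : Type u} [CommRing B] [Algebra R B] [Algebra A B] [IsScalarTower A R B]
    (hB : Hens2.IsPairHenselization R (I.map (algebraMap A R)) B)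
    {S : Type u} [CommRing S] [Algebra A S] [Algebra.FinitePresentation A S]
    {C : Type u} [CommRing C] [Algebra S C] [Algebra A C] [IsScalarTower A S C]
    (hC : Hens2.IsPairHenselization S (I.map (algebraMap A S)) C)
    [Algebra B C] [IsScalarTower A B C] : IsHFP (I.map (algebraMap A B)) C := by
  classical
  obtain ⟨gens, hgens⟩ := Algebra.FiniteType.out (R := A) (A := R)
  obtain ⟨G, _, _, hG⟩ := exists_pairHenselization (B ⊗[A] S)
    ((I.map (algebraMap A B)).map (algebraMap B (B ⊗[A] S)))
  let _ : Algebra B G := ((algebraMap (B ⊗[A] S) G).comp (algebraMap B (B ⊗[A] S))).toAlgebra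
  have : IsScalarTower B (B ⊗[A] S) G := IsScalarTower.of_algebraMap_eq' rfl
  have hGh : HenselianRing G ((I.map (algebraMap A B)).map (algebraMap B G)) :=
    henselianRing_of_isPairHenselization hG
  have hCh : HenselianRing C ((I.map (algebraMap A B)).map (algebraMap B C)) := by
    rw [Ideal.map_map, ← IsScalarTower.algebraMap_eq]
    exact henselianRing_of_isPairHenselization hC
  have hTG : ∀ a, algebraMap B G (algebraMap A B a) =
      algebraMap (B ⊗[A] S) G (1 ⊗ₜ algebraMap A S a) := fun a => by
    show algebraMap (B ⊗[A] S) G (algebraMap B (B ⊗[A] S) (algebraMap A B a)) = _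
    rw [Algebra.TensorProduct.algebraMap_apply, Algebra.algebraMap_self, RingHom.id_apply,
      Algebra.TensorProduct.tmul_one_eq_one_tmul]
  -- `C → G`
  let fS : S →+* G :=
    (algebraMap (B ⊗[A] S) G).comp (Algebra.TensorProduct.includeRight : S →ₐ[A] B ⊗[A] S).toRingHom
  have hfSI : (I.map (algebraMap A S)).map fS ≤ (I.map (algebraMap A B)).map (algebraMap B G) := by
    rw [Ideal.map_map, Ideal.map_map]
    exact le_of_eq (congrArg (fun g => I.map g) (RingHom.ext fun a => (hTG a).symm))
  obtain ⟨γ, hγ, -⟩ := hC.2 G _ fS hGh hfSI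
  have hγ' : ∀ x, γ (algebraMap S C x) = fS x := RingHom.congr_fun hγ
  have hγA : ∀ a, γ (algebraMap A C a) = algebraMap B G (algebraMap A B a) := fun a => by
    rw [IsScalarTower.algebraMap_apply A S C, hγ', hTG]; rfl
  let d : R → G := fun r => algebraMap B G (algebraMap R B r) - γ (algebraMap B C (algebraMap R B r))
  let s : Finset G := gens.image d
  set K : Ideal G := Ideal.span (s : Set G)
  have hd : ∀ r, Ideal.Quotient.mk K (algebraMap B G (algebraMap R B r)) =
      Ideal.Quotient.mk K (γ (algebraMap B C (algebraMap R B r))) := by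
    intro r
    have hr : r ∈ Algebra.adjoin A (gens : Set R) := hgens ▸ Algebra.mem_top
    induction hr using Algebra.adjoin_induction with
    | mem r hr => exact Ideal.Quotient.eq.2 (Ideal.subset_span
        (Finset.mem_coe.2 (Finset.mem_image_of_mem d hr)))
    | algebraMap a =>
      rw [← IsScalarTower.algebraMap_apply A R B, ← IsScalarTower.algebraMap_apply A B C, hγA]
    | add x y _ _ hx hy => simp only [map_add, hx, hy]
    | mul x y _ _ hx hy => simp only [map_mul, hx, hy]
  -- `G → C`
  let f₀ : B ⊗[A] S →ₐ[B] C :=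
    Algebra.TensorProduct.lift (Algebra.ofId B C) (IsScalarTower.toAlgHom A S C)
      fun _ _ => Commute.all _ _
  obtain ⟨θ₀, hθ₀, -⟩ := hG.2 C _ f₀.toRingHom hCh (map_map_le _ f₀.commutes)
  have hθ₀' : ∀ p, θ₀ (algebraMap _ G p) = f₀ p := RingHom.congr_fun hθ₀
  let θ : G →ₐ[B] C := { θ₀ with commutes' := fun b => (hθ₀' _).trans (f₀.commutes b) }
  have hθS : ∀ x, θ₀ (fS x) = algebraMap S C x := fun x => by
    refine (hθ₀' _).trans ?_
    simp [f₀]
  have hCA : HenselianRing C (I.map (algebraMap A C)) := henselianRing_of_isPairHenselization hC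
  have hθγ : θ₀.comp γ = RingHom.id C :=
    pairHenselization_hom_ext hC (I.map (algebraMap A C)) (g := RingHom.id C)
      (by rw [RingHom.id_comp]; exact map_map_le _ fun a => (IsScalarTower.algebraMap_apply A S C a).symm)
      (RingHom.ext fun x => by
        show θ₀ (γ (algebraMap S C x)) = algebraMap S C x
        rw [hγ', hθS])
  have hKh := henselianRing_quotient_algebraMap (I := I.map (algebraMap A B)) K
  set ψ : C →+* G ⧸ K := (Ideal.Quotient.mk K).comp γ
  have hψB : ψ.comp (algebraMap B C) = (Ideal.Quotient.mk K).comp (algebraMap B G) := by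
    refine pairHenselization_hom_ext hB ((I.map (algebraMap A B)).map (algebraMap B (G ⧸ K)))
      (g := (Ideal.Quotient.mk K).comp (algebraMap B G)) ?_ (RingHom.ext fun r => (hd r).symm)
    rw [Ideal.map_map, Ideal.map_map, RingHom.comp_assoc, RingHom.comp_assoc,
      ← IsScalarTower.algebraMap_eq A R B]
    exact le_rfl
  refine isHFP_of_inverse hG s θ (fun z hz => ?_) ψ (fun x => ?_) fun c x hx => ?_
  · obtain ⟨r, -, rfl⟩ := Finset.mem_image.1 hz
    show θ (algebraMap B G (algebraMap R B r) - γ (algebraMap B C (algebraMap R B r))) = 0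
    rw [map_sub, θ.commutes]
    show _ - θ₀ (γ _) = 0
    rw [← RingHom.comp_apply θ₀ γ, hθγ, RingHom.id_apply, sub_self]
  · refine RingHom.congr_fun (pairHenselization_hom_ext hG
      ((I.map (algebraMap A B)).map (algebraMap B (G ⧸ K)))
      (g := Ideal.Quotient.mk K) (g' := ψ.comp θ₀) ?_ ?_) x
    · rw [Ideal.map_map, RingHom.comp_assoc]; exact le_rfl
    · refine RingHom.ext fun p => ?_
      induction p using TensorProduct.induction_on with
      | zero => simp
      | add p q hp hq => simp only [map_add, hp, hq]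
      | tmul b x =>
        show ψ (θ₀ (algebraMap _ G (b ⊗ₜ x))) = Ideal.Quotient.mk K (algebraMap _ G (b ⊗ₜ x))
        rw [hθ₀', show f₀ (b ⊗ₜ x) = algebraMap B C b * algebraMap S C x by simp [f₀], map_mul,
          show (b ⊗ₜ x : B ⊗[A] S) = (b ⊗ₜ 1) * (1 ⊗ₜ x) by simp, map_mul, map_mul,
          ← RingHom.comp_apply ψ, hψB, ← hθS x]
        show _ * Ideal.Quotient.mk K (γ (θ₀ (fS x))) = _
        rw [hθS, hγ']
        rfl
  · have hxK : x - γ c ∈ K := Ideal.Quotient.eq.1 hx
    have h0 : θ₀ (x - γ c) = 0 := by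
      refine (Ideal.span_le (I := RingHom.ker θ₀)).2 (fun z hz => ?_) hxK
      obtain ⟨r, -, rfl⟩ := Finset.mem_image.1 (Finset.mem_coe.1 hz)
      show θ₀ (_ - _) = 0
      rw [map_sub, ← RingHom.comp_apply θ₀ γ, hθγ]
      exact sub_eq_zero.2 (θ.commutes _)
    rw [map_sub, ← RingHom.comp_apply θ₀ γ, hθγ, sub_eq_zero] at h0
    exact h0

/-- A henselization of a finitely presented algebra is a quotient of a henselized polynomial
ring by finitely many elements. -/
theorem exists_presentation {R : Type u} [CommRing R] [Algebra A R] [Algebra.FinitePresentation A R]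
    {B : Type u} [CommRing B] [Algebra R B] [Algebra A B] [IsScalarTower A R B]
    (hB : Hens2.IsPairHenselization R (I.map (algebraMap A R)) B) :
    ∃ (n : ℕ) (P : Type u) (_ : CommRing P) (_ : Algebra (MvPolynomial (Fin n) A) P) (_ : Algebra A P)
        (_ : IsScalarTower A (MvPolynomial (Fin n) A) P),
        Hens2.IsPairHenselization (MvPolynomial (Fin n) A)
          (I.map (algebraMap A (MvPolynomial (Fin n) A))) P ∧
        ∃ φ : P →ₐ[A] B, Function.Surjective φ ∧ (RingHom.ker φ).FG := by
  classical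
  have hBh : HenselianRing B (I.map (algebraMap A B)) := henselianRing_of_isPairHenselization hB
  obtain ⟨n, π, hπ, hk⟩ := Algebra.FinitePresentation.out (R := A) (A := R)
  obtain ⟨rels, hrels⟩ := hk
  obtain ⟨P, _, _, hP⟩ := exists_pairHenselization (MvPolynomial (Fin n) A)
    (I.map (algebraMap A (MvPolynomial (Fin n) A)))
  let _ : Algebra A P :=
    ((algebraMap (MvPolynomial (Fin n) A) P).comp (algebraMap A (MvPolynomial (Fin n) A))).toAlgebra
  have hT : IsScalarTower A (MvPolynomial (Fin n) A) P := IsScalarTower.of_algebraMap_eq' rfl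
  have hPh : HenselianRing P (I.map (algebraMap A P)) := henselianRing_of_isPairHenselization hP
  let f₀ : MvPolynomial (Fin n) A →+* B := (algebraMap R B).comp π.toRingHom
  have hf₀ : ∀ a, f₀ (algebraMap A _ a) = algebraMap A B a := fun a => by
    show algebraMap R B (π (algebraMap A _ a)) = _
    rw [π.commutes, ← IsScalarTower.algebraMap_apply]
  obtain ⟨φ₀, hφ₀, -⟩ := hP.2 B _ f₀ hBh (map_map_le f₀ hf₀)
  have hφ₀' : ∀ q, φ₀ (algebraMap _ P q) = f₀ q := RingHom.congr_fun hφ₀
  let φ : P →ₐ[A] B := { φ₀ with commutes' := fun a => (hφ₀' _).trans (hf₀ a) }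
  set K : Ideal P := (RingHom.ker π.toRingHom).map (algebraMap (MvPolynomial (Fin n) A) P)
  have hKle : K ≤ RingHom.ker φ₀ := Ideal.map_le_iff_le_comap.2 fun q hq => by
    show φ₀ (algebraMap _ P q) = 0
    rw [hφ₀']
    show algebraMap R B (π q) = 0
    rw [show π q = 0 from hq, map_zero]
  let fR : R →+* P ⧸ K := RingHom.liftOfSurjective π.toRingHom hπ
    ⟨(Ideal.Quotient.mk K).comp (algebraMap (MvPolynomial (Fin n) A) P), fun q hq =>
      Ideal.Quotient.eq_zero_iff_mem.2 (Ideal.mem_map_of_mem _ hq)⟩
  have hfR : ∀ q, fR (π q) = Ideal.Quotient.mk K (algebraMap _ P q) := fun q =>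
    RingHom.liftOfRightInverse_comp_apply ..
  have hKh := henselianRing_quotient_algebraMap (I := I) K
  obtain ⟨ψ, hψ, -⟩ := hB.2 (P ⧸ K) _ fR hKh (map_map_le fR fun a => by
    rw [← π.commutes, hfR]; rfl)
  have hψ' : ∀ r, ψ (algebraMap R B r) = fR r := RingHom.congr_fun hψ
  have hψφ : ψ.comp φ₀ = Ideal.Quotient.mk K := by
    refine pairHenselization_hom_ext hP (I.map (algebraMap A (P ⧸ K))) ?_ (RingHom.ext fun q => ?_)
    · rw [Ideal.map_map, RingHom.comp_assoc]; exact le_rfl
    · show ψ (φ₀ (algebraMap _ P q)) = _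
      rw [hφ₀']
      exact (hψ' _).trans (hfR q)
  have hφψ : (Ideal.Quotient.lift K φ₀ fun z hz => hKle hz).comp ψ = RingHom.id B := by
    refine pairHenselization_hom_ext hB (I.map (algebraMap A B)) (g := RingHom.id B)
      (by rw [RingHom.id_comp]; exact map_map_le _ fun a => (IsScalarTower.algebraMap_apply A R B a).symm)
      (RingHom.ext fun r => ?_)
    obtain ⟨q, rfl⟩ := hπ r
    show Ideal.Quotient.lift K φ₀ (fun z hz => hKle hz) (ψ (algebraMap R B (π q))) = algebraMap R B (π q)
    rw [hψ', hfR]
    exact hφ₀' q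
  refine ⟨n, P, inferInstance, inferInstance, inferInstance, hT, hP, φ, fun b => ?_, ?_⟩
  · obtain ⟨x, hx⟩ := Ideal.Quotient.mk_surjective (ψ b)
    refine ⟨x, ?_⟩
    have := RingHom.congr_fun hφψ b
    rw [RingHom.comp_apply, ← hx] at this
    exact this
  · have : RingHom.ker φ = K := le_antisymm (fun x hx => by
      rw [← Ideal.Quotient.eq_zero_iff_mem, ← hψφ, RingHom.comp_apply, show φ₀ x = 0 from hx, map_zero])
      (fun x hx => hKle hx)
    rw [this]
    exact Ideal.FG.map ⟨rels, hrels⟩ _

/-- A quotient of the henselization of a finitely presented algebra by a finitely generated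
ideal is henselian finitely presented. -/
theorem isHFP_of_surjective {R : Type u} [CommRing R] [Algebra A R] [Algebra.FinitePresentation A R]
    {P : Type u} [CommRing P] [Algebra R P] [Algebra A P] [IsScalarTower A R P]
    (hP : Hens2.IsPairHenselization R (I.map (algebraMap A R)) P) {B : Type u} [CommRing B]
    [Algebra A B] (φ : P →ₐ[A] B) (hφ : Function.Surjective φ) (hk : (RingHom.ker φ).FG) :
    IsHFP I B := by
  classical
  obtain ⟨s, hs⟩ := hk
  let ψ : B →+* P ⧸ Ideal.span (s : Set P) := RingHom.liftOfSurjective φ.toRingHom hφ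
    ⟨Ideal.Quotient.mk _, fun x hx => Ideal.Quotient.eq_zero_iff_mem.2 (hs.ge hx)⟩
  have hψ : ∀ x, ψ (φ x) = Ideal.Quotient.mk _ x := fun x =>
    RingHom.liftOfRightInverse_comp_apply ..
  refine isHFP_of_inverse hP s φ (fun z hz => hs.le (Ideal.subset_span hz)) ψ hψ fun c x hx => ?_
  obtain ⟨y, rfl⟩ := hφ c
  rw [hψ, Ideal.Quotient.eq] at hx
  have : φ (x - y) = 0 := hs.le hx
  rwa [map_sub, sub_eq_zero] at this

end Groth.Agent.HenselLib
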