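import Groth.Agent.HenselLib.Etale
import Groth.Agent.HenselLib.Ops
import Groth.Agent.HenselLib.TFAE
import Groth.Agent.HenselLib.PairHenselization

/-!
# Henselian finite type algebras which are finite modulo the ideal are finite
-/

universe u

open Polynomial

namespace Groth.Agent.HenselLib

variable {A : Type u} [CommRing A] {I : Ideal A}

section
variable {R : Type u} [CommRing R] [Algebra A R]

/-- The elements along which `R` is the localisation of a finite algebra. -/
def goodSet (A R : Type u) [CommRing A] [CommRing R] [Algebra A R] : Set R :=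
  {r | IsIntegral A r ∧ ∀ x, ∃ m, IsIntegral A (r ^ m * x)}

/-- Zariski's main theorem along `V(I R)` when `R / I R` is finite over `A`. -/
theorem span_goodSet_sup [Algebra.FiniteType A R]
    [Module.Finite A (R ⧸ I.map (algebraMap A R))] :
    Ideal.span (goodSet A R) ⊔ I.map (algebraMap A R) = ⊤ := by
  by_contra hne
  obtain ⟨M, hM, hle⟩ := Ideal.exists_le_maximal _ hne
  have := hM.isPrime
  have hIM : I.map (algebraMap A R) ≤ (M.under A).map (algebraMap A R) :=
    Ideal.map_mono (Ideal.map_le_iff_le_comap.1 (le_sup_right.trans hle))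
  let π : (R ⧸ I.map (algebraMap A R)) →ₐ[A] R ⧸ (M.under A).map (algebraMap A R) :=
    Ideal.Quotient.factorₐ A hIM
  have hfin : Module.Finite A (R ⧸ (M.under A).map (algebraMap A R)) :=
    .of_surjective π.toLinearMap (Ideal.Quotient.factor_surjective hIM)
  have hker : RingHom.ker (Ideal.Quotient.mk ((M.under A).map (algebraMap A R))) ≤ M := by
    rw [Ideal.mk_ker]
    exact Ideal.map_comap_le
  have : (M.map (Ideal.Quotient.mk ((M.under A).map (algebraMap A R)))).IsPrime :=
    Ideal.map_isPrime_of_surjective Ideal.Quotient.mk_surjective hker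
  have : Algebra.WeaklyQuasiFiniteAt A M :=
    .of_isLocalization (M.map (Ideal.Quotient.mk ((M.under A).map (algebraMap A R)))).primeCompl
  obtain ⟨r, hr, h1, h2⟩ := Algebra.zariskisMainProperty_iff.mp
    (Algebra.ZariskisMainProperty.of_finiteType_of_weaklyQuasiFiniteAt (R := A) M)
  exact hr (hle (Ideal.mem_sup_left (Ideal.subset_span ⟨h1, h2⟩)))

/-- A finite subalgebra from which `R` is obtained, near `V(I R)`, by inverting one element. -/
theorem exists_finite_model_of_quotient_finite [Algebra.FiniteType A R]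
    [Module.Finite A (R ⧸ I.map (algebraMap A R))] :
    ∃ E : Subalgebra A R, Module.Finite A E ∧ ∃ Δ : E, (Δ : R) - 1 ∈ I.map (algebraMap A R) ∧
      ∀ y : R, ∃ n : ℕ, (Δ : R) ^ n * y ∈ E := by
  classical
  set C := integralClosure A R
  set IR := I.map (algebraMap A R)
  let g : Ideal C := Ideal.span {z : C | (z : R) ∈ goodSet A R}
  have : Algebra.IsIntegral C (R ⧸ IR) := Algebra.IsIntegral.tower_top A
  have htop : g ⊔ RingHom.ker (algebraMap C (R ⧸ IR)) = ⊤ := by
    by_contra hne
    obtain ⟨P, hP, hle⟩ := Ideal.exists_le_maximal _ hne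
    have := hP.isPrime
    obtain ⟨Q, -, hQ, hQP⟩ := Ideal.exists_ideal_over_prime_of_isIntegral P
      (⊥ : Ideal (R ⧸ IR)) (le_trans (le_of_eq rfl) (le_sup_right.trans hle))
    refine hQ.ne_top (Ideal.eq_top_iff_one _ |>.2 ?_)
    have h1 : (1 : R) ∈ Q.comap (Ideal.Quotient.mk IR) := by
      refine (?_ : Ideal.span (goodSet A R) ⊔ IR ≤ _) ((span_goodSet_sup (A := A) (R := R) (I := I)).ge Submodule.mem_top)
      refine sup_le (Ideal.span_le.2 fun r hr => ?_) (fun r hr => ?_)
      · exact hQP.ge (hle (Ideal.mem_sup_left (Ideal.subset_span (show (⟨r, hr.1⟩ : C) ∈ _ from hr))))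
      · rw [Ideal.mem_comap, Ideal.Quotient.eq_zero_iff_mem.2 hr]
        exact Q.zero_mem
    simpa using h1
  obtain ⟨D, hD, k, hk, hDk⟩ := Submodule.mem_sup.1 ((Ideal.eq_top_iff_one _).1 htop)
  set Δ : R := (D : R)
  have hΔ1 : Δ - 1 ∈ IR := by
    have hk' : (k : R) ∈ IR := Ideal.Quotient.eq_zero_iff_mem.1 hk
    have := congrArg (fun z : C => (z : R)) hDk
    simp only [AddMemClass.coe_add, OneMemClass.coe_one] at this
    rw [show Δ - 1 = -(k : R) by linear_combination this]
    exact IR.neg_mem hk'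
  have hsat : ∀ x : R, ∃ n, Δ ^ n * x ∈ C := by
    intro x
    let T : Ideal C :=
      { carrier := {z | (z : R) * x ∈ C}
        add_mem' := fun {z w} hz hw => by
          simp only [Set.mem_setOf_eq, AddMemClass.coe_add, add_mul] at *
          exact C.add_mem hz hw
        zero_mem' := by simp
        smul_mem' := fun z w hw => by
          simp only [Set.mem_setOf_eq, smul_eq_mul, MulMemClass.coe_mul, mul_assoc] at *
          exact C.mul_mem z.2 hw }
    have hrad : g ≤ T.radical := by
      refine Ideal.span_le.2 fun z hz => ?_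
      obtain ⟨m, hm⟩ := hz.2 x
      exact ⟨m, show ((z ^ m : C) : R) * x ∈ C by rw [SubmonoidClass.coe_pow]; exact hm⟩
    obtain ⟨n, hn⟩ := hrad hD
    exact ⟨n, by simpa [T] using hn⟩
  obtain ⟨ys, hys⟩ := Algebra.FiniteType.out (R := A) (A := R)
  choose nn hnn using hsat
  set t : Finset R := insert Δ (ys.image fun y => Δ ^ nn y * y)
  have ht : ∀ z ∈ t, IsIntegral A z := by
    intro z hz
    rcases Finset.mem_insert.mp hz with rfl | hz
    · exact D.2
    · obtain ⟨y, -, rfl⟩ := Finset.mem_image.mp hz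
      exact hnn y
  set E := Algebra.adjoin A (t : Set R)
  have hΔE : Δ ∈ E := Algebra.subset_adjoin (Finset.mem_coe.mpr (Finset.mem_insert_self _ _))
  refine ⟨E, ⟨(Submodule.fg_top _).mpr (fg_adjoin_of_finite t.finite_toSet ht)⟩, ⟨Δ, hΔE⟩, hΔ1,
    fun y => ?_⟩
  have hy : y ∈ Algebra.adjoin A (ys : Set R) := hys ▸ Algebra.mem_top
  induction hy using Algebra.adjoin_induction with
  | mem y hy =>
    exact ⟨nn y, Algebra.subset_adjoin
      (Finset.mem_coe.mpr (Finset.mem_insert_of_mem (Finset.mem_image_of_mem _ hy)))⟩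
  | algebraMap r => exact ⟨0, by simp⟩
  | add y z _ _ hy hz =>
    obtain ⟨n, hn⟩ := hy
    obtain ⟨m, hm⟩ := hz
    refine ⟨n + m, ?_⟩
    show Δ ^ (n + m) * (y + z) ∈ E
    rw [show Δ ^ (n + m) * (y + z) = Δ ^ m * (Δ ^ n * y) + Δ ^ n * (Δ ^ m * z) by ring]
    exact E.add_mem (E.mul_mem (pow_mem hΔE m) hn) (E.mul_mem (pow_mem hΔE n) hm)
  | mul y z _ _ hy hz =>
    obtain ⟨n, hn⟩ := hy
    obtain ⟨m, hm⟩ := hz
    refine ⟨n + m, ?_⟩
    show Δ ^ (n + m) * (y * z) ∈ E
    rw [show Δ ^ (n + m) * (y * z) = (Δ ^ n * y) * (Δ ^ m * z) by ring]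
    exact E.mul_mem hn hm

/-- Over a henselian pair, the henselization of a finite type algebra which is finite modulo
the ideal is a finite algebra. -/
theorem exists_pairHenselization_finite [HenselianRing A I] [Algebra.FiniteType A R]
    [Module.Finite A (R ⧸ I.map (algebraMap A R))] :
    ∃ (B : Type u) (_ : CommRing B) (_ : Algebra R B) (_ : Algebra A B) (_ : IsScalarTower A R B)
      (r : R), IsLocalization.Away r B ∧ Module.Finite A B ∧
      Hens2.IsPairHenselization R (I.map (algebraMap A R)) B := by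
  classical
  obtain ⟨E, hE, Δ, hΔ1, hsat⟩ := exists_finite_model_of_quotient_finite (A := A) (R := R) (I := I)
  set IE := I.map (algebraMap A E)
  set IR := I.map (algebraMap A R)
  have hval : IE.map E.val.toRingHom = IR := by
    rw [Ideal.map_map]
    exact congrArg (fun φ => I.map φ) E.val.comp_algebraMap
  have hpush : ∀ y ∈ IR, ∃ n, ∃ z ∈ IE, (z : R) = (Δ : R) ^ n * y := by
    intro y hy
    induction hy using Submodule.span_induction with
    | mem y hy =>
      obtain ⟨a, ha, rfl⟩ := hy
      exact ⟨0, algebraMap A E a, Ideal.mem_map_of_mem _ ha, by simp⟩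
    | zero => exact ⟨0, 0, IE.zero_mem, by simp⟩
    | add y z _ _ hy hz =>
      obtain ⟨n, y', hy', ey⟩ := hy
      obtain ⟨m, z', hz', ez⟩ := hz
      refine ⟨n + m, Δ ^ m * y' + Δ ^ n * z', IE.add_mem (IE.mul_mem_left _ hy')
        (IE.mul_mem_left _ hz'), ?_⟩
      simp only [AddMemClass.coe_add, MulMemClass.coe_mul, SubmonoidClass.coe_pow, ey, ez]
      ring
    | smul c y _ hy =>
      obtain ⟨n, y', hy', ey⟩ := hy
      obtain ⟨m, hm⟩ := hsat c
      refine ⟨n + m, (⟨_, hm⟩ : E) * y', IE.mul_mem_left _ hy', ?_⟩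
      simp only [MulMemClass.coe_mul, ey, smul_eq_mul]
      ring
  obtain ⟨n, w, hw, ew⟩ := hpush _ hΔ1
  set x : E := Δ ^ (n + 1)
  have hsucc : ∀ j, Δ ^ (n + j) - Δ ^ n ∈ IE := by
    intro j
    induction j with
    | zero => simp
    | succ j ih =>
      have h1 : Δ ^ (n + 1) - Δ ^ n = w := Subtype.ext (by
        simp only [AddSubgroupClass.coe_sub, SubmonoidClass.coe_pow, ew]; ring)
      rw [show Δ ^ (n + (j + 1)) - Δ ^ n = Δ * (Δ ^ (n + j) - Δ ^ n) + (Δ ^ (n + 1) - Δ ^ n) by ring,
        h1]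
      exact IE.add_mem (IE.mul_mem_left _ ih) hw
  have hx : x ^ 2 - x ∈ IE := by
    rw [show x ^ 2 - x = (Δ ^ (n + (n + 2)) - Δ ^ n) - (Δ ^ (n + 1) - Δ ^ n) by simp only [x]; ring]
    exact IE.sub_mem (hsucc _) (hsucc _)
  obtain ⟨e, he, hex⟩ := (liftsIdem I).exists_idem hx
  set B := E ⧸ Ideal.span {1 - e}
  let q : E →ₐ[A] B := Ideal.Quotient.mkₐ A _
  have hqe : q e = 1 := by
    rw [← map_one q, eq_comm, ← sub_eq_zero, ← map_sub]
    exact Ideal.Quotient.eq_zero_iff_mem.mpr (Ideal.mem_span_singleton_self _)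
  have hjac : I ≤ Ideal.jacobson ⊥ := HenselianRing.jac
  have hqΔ : IsUnit (q Δ) := by
    have h1 : q x - 1 ∈ I.map (algebraMap A B) := by
      rw [← hqe, ← map_sub, show x - e = -(e - x) by ring, map_neg, Ideal.neg_mem_iff,
        show algebraMap A B = q.toRingHom.comp (algebraMap A E) from q.comp_algebraMap.symm,
        ← Ideal.map_map]
      exact Ideal.mem_map_of_mem q.toRingHom hex
    have h2 := isUnit_of_sub_one_mem (map_le_jacobson hjac) h1
    rw [map_pow] at h2
    exact (isUnit_pow_iff n.succ_ne_zero).1 h2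
  -- `R → B`
  have hE' : IsLocalization.Away Δ (Localization.Away (Δ : R)) := by
    refine IsLocalization.Away.mk Δ ?_ ?_ ?_
    · rw [IsScalarTower.algebraMap_apply E R (Localization.Away (Δ : R))]
      exact IsLocalization.Away.algebraMap_isUnit (Δ : R)
    · intro z
      obtain ⟨n, y, hy⟩ := IsLocalization.Away.surj (Δ : R) z
      obtain ⟨m, hm⟩ := hsat y
      refine ⟨n + m, ⟨(Δ : R) ^ m * y, hm⟩, ?_⟩
      rw [IsScalarTower.algebraMap_apply E R (Localization.Away (Δ : R)),
        IsScalarTower.algebraMap_apply E R (Localization.Away (Δ : R))]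
      show z * algebraMap R (Localization.Away (Δ : R)) Δ ^ (n + m) =
        algebraMap R (Localization.Away (Δ : R)) ((Δ : R) ^ m * y)
      rw [map_mul, map_pow, ← hy]
      ring
    · intro a b hab
      rw [IsScalarTower.algebraMap_apply E R (Localization.Away (Δ : R)),
        IsScalarTower.algebraMap_apply E R (Localization.Away (Δ : R))] at hab
      obtain ⟨n, hn⟩ := IsLocalization.Away.exists_of_eq (Δ : R) hab
      exact ⟨n, Subtype.ext hn⟩
  let ψ : Localization.Away (Δ : R) →ₐ[A] B := IsLocalization.Away.liftAlgHom Δ (f := q) hqΔ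
  let φ : R →ₐ[A] B := ψ.comp (IsScalarTower.toAlgHom A R (Localization.Away (Δ : R)))
  let _ : Algebra R B := φ.toRingHom.toAlgebra
  have hAR : IsScalarTower A R B := IsScalarTower.of_algebraMap_eq fun a => (φ.commutes a).symm
  have hφ : ∀ z : E, algebraMap R B (z : R) = q z := fun z => by
    show ψ (algebraMap R (Localization.Away (Δ : R)) (z : R)) = q z
    rw [show algebraMap R (Localization.Away (Δ : R)) (z : R) =
      algebraMap E (Localization.Away (Δ : R)) z from rfl]
    simp [ψ]
  set r : R := (e : R) * Δ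
  have hr : algebraMap R B r = q Δ := by
    rw [map_mul, hφ, hφ, hqe, one_mul]
  have hloc : IsLocalization.Away r B := by
    refine IsLocalization.Away.mk r (hr ▸ hqΔ) (fun b => ?_) fun y₁ y₂ h => ?_
    · obtain ⟨z, rfl⟩ := Ideal.Quotient.mk_surjective b
      exact ⟨0, (z : R), by rw [pow_zero, mul_one]; exact (hφ z).symm⟩
    · obtain ⟨m₁, hm₁⟩ := hsat y₁
      obtain ⟨m₂, hm₂⟩ := hsat y₂
      set m := m₁ + m₂ + 1
      let z₁ : E := Δ ^ (m₂ + 1) * ⟨_, hm₁⟩
      let z₂ : E := Δ ^ (m₁ + 1) * ⟨_, hm₂⟩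
      have ez₁ : (z₁ : R) = (Δ : R) ^ m * y₁ := by
        simp only [z₁, m, MulMemClass.coe_mul, SubmonoidClass.coe_pow]; ring
      have ez₂ : (z₂ : R) = (Δ : R) ^ m * y₂ := by
        simp only [z₂, m, MulMemClass.coe_mul, SubmonoidClass.coe_pow]; ring
      have hz : q z₁ = q z₂ := by
        rw [← hφ, ← hφ, ez₁, ez₂, map_mul, map_mul, h]
      have hz' : e * (z₁ - z₂) = 0 := by
        obtain ⟨c, hc⟩ := Ideal.mem_span_singleton'.1 (Ideal.Quotient.eq.1 hz)
        have he' : e * e = e := he
        linear_combination (-e) * hc - c * he'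
      refine ⟨m, ?_⟩
      have hem : e ^ m = e := by
        simp only [m]; exact he.pow_succ_eq _
      have hem' : (e : R) ^ m = e := by rw [← SubmonoidClass.coe_pow, hem]
      have h0 : (e : R) * ((Δ : R) ^ m * y₁ - (Δ : R) ^ m * y₂) = 0 := by
        rw [← ez₁, ← ez₂]
        exact congrArg (fun t : E => (t : R)) hz'
      simp only [r, mul_pow, hem']
      linear_combination h0
  refine ⟨B, inferInstance, inferInstance, inferInstance, hAR, r, hloc, inferInstance, ?_, ?_⟩
  · rw [Ideal.map_map, ← IsScalarTower.algebraMap_eq]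
    exact henselianRing_of_isIntegral I B
  · intro C _ J f hJ hle
    have hr1 : r - 1 ∈ IR := by
      have h1 : (e : R) - (Δ : R) ^ (n + 1) ∈ IR := by
        rw [← hval]
        have := Ideal.mem_map_of_mem E.val.toRingHom hex
        simpa [x] using this
      have h2 : (Δ : R) ^ (n + 1) * Δ - 1 ∈ IR := by
        rw [← pow_succ]
        exact IR.mem_of_dvd (sub_one_dvd_pow_sub_one _ _) hΔ1
      rw [show r - 1 = ((e : R) - (Δ : R) ^ (n + 1)) * Δ + ((Δ : R) ^ (n + 1) * Δ - 1) by
        simp only [r]; ring]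
      exact IR.add_mem (IR.mul_mem_right _ h1) h2
    have hfr : IsUnit (f r) := isUnit_of_sub_one_mem hJ.jac
      (by simpa using hle (Ideal.mem_map_of_mem f hr1))
    exact ⟨IsLocalization.Away.lift r hfr, IsLocalization.Away.lift_comp r hfr, fun g hg =>
      IsLocalization.ringHom_ext (Submonoid.powers r)
        (hg.trans (IsLocalization.Away.lift_comp r hfr).symm)⟩

/-- The henselization itself. -/
theorem finite_of_quotient_finite [HenselianRing A I] [Algebra.FiniteType A R]
    (B : Type u) [CommRing B] [Algebra R B] [Algebra A B] [IsScalarTower A R B]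
    (hB : Hens2.IsPairHenselization R (I.map (algebraMap A R)) B)
    (hfin : (Ideal.quotientMap (I.map (algebraMap A B)) (algebraMap A B)
      Ideal.le_comap_map).Finite) :
    Module.Finite A B ∧ ∃ r : R, IsLocalization.Away r B := by
  set IR := I.map (algebraMap A R)
  have hIB : IR.map (algebraMap R B) = I.map (algebraMap A B) := by
    rw [Ideal.map_map, ← IsScalarTower.algebraMap_eq]
  have h1 : (algebraMap A (B ⧸ I.map (algebraMap A B))).Finite := by
    have h := hfin.comp (RingHom.Finite.of_surjective (Ideal.Quotient.mk I) Ideal.Quotient.mk_surjective)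
    convert h using 1
    exact RingHom.ext fun _ => rfl
  have : Module.Finite A (R ⧸ IR) := by
    have : Module.Finite A (B ⧸ I.map (algebraMap A B)) := RingHom.finite_algebraMap.1 h1
    have hb := quotient_pow_bijective hB 1
    let ψ : (R ⧸ IR) →ₐ[A] B ⧸ I.map (algebraMap A B) :=
      { Ideal.quotientMap (I.map (algebraMap A B)) (algebraMap R B)
          (hIB ▸ Ideal.le_comap_map) with
        commutes' := fun a => by
          show Ideal.Quotient.mk _ (algebraMap R B (algebraMap A R a)) = Ideal.Quotient.mk _ _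
          rw [← IsScalarTower.algebraMap_apply] }
    have hψ : Function.Bijective ψ := by
      refine ⟨(injective_iff_map_eq_zero ψ).2 fun z hz => ?_, fun z => ?_⟩
      · obtain ⟨y, rfl⟩ := Ideal.Quotient.mk_surjective z
        have h0 : algebraMap R B y ∈ (IR ^ 1).map (algebraMap R B) := by
          rw [pow_one, hIB]; exact Ideal.Quotient.eq_zero_iff_mem.1 hz
        have h' : Ideal.Quotient.mk (IR ^ 1) y = 0 :=
          hb.1 ((Ideal.Quotient.eq_zero_iff_mem.2 h0).trans (map_zero _).symm)
        rw [Ideal.Quotient.eq_zero_iff_mem, pow_one] at h'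
        exact Ideal.Quotient.eq_zero_iff_mem.2 h'
      · obtain ⟨b, rfl⟩ := Ideal.Quotient.mk_surjective z
        obtain ⟨z', hz'⟩ := hb.2 (Ideal.Quotient.mk _ b)
        obtain ⟨y, rfl⟩ := Ideal.Quotient.mk_surjective z'
        have h' : algebraMap R B y - b ∈ (IR ^ 1).map (algebraMap R B) := Ideal.Quotient.eq.1 hz'
        rw [pow_one, hIB] at h'
        exact ⟨Ideal.Quotient.mk _ y, Ideal.Quotient.eq.2 h'⟩
    exact Module.Finite.equiv (AlgEquiv.ofBijective ψ hψ).toLinearEquiv.symm
  obtain ⟨B', _, _, _, _, r, hr, hfinB', hB'⟩ := exists_pairHenselization_finite (A := A) (R := R) (I := I)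
  obtain ⟨e⟩ := exists_algEquiv_of_isPairHenselization hB' hB
  exact ⟨Module.Finite.equiv (e.restrictScalars A).toLinearEquiv,
    r, IsLocalization.isLocalization_of_algEquiv (Submonoid.powers r) e⟩

end

end Groth.Agent.HenselLib
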