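import Groth.Agent.HenselLib.PairTrunc
import Mathlib.RingTheory.Unramified.Basic
import Mathlib.RingTheory.Smooth.Basic

/-!
# Lifting along nilpotent thickenings killed by powers of the ideal of a pair
-/

universe u

open scoped TensorProduct

namespace Groth.Agent.HenselLib

variable {A : Type u} [CommRing A]

/-- The algebra structure over a quotient. -/
abbrev quotientAlgebra {E : Type u} [CommRing E] [Algebra A E] {K : Ideal A}
    (h : K.map (algebraMap A E) = ⊥) : Algebra (A ⧸ K) E :=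
  (Ideal.Quotient.lift K (algebraMap A E) fun _ ha =>
    (Ideal.mem_bot (R := E)).mp (h ▸ Ideal.mem_map_of_mem _ ha)).toAlgebra

/-- Algebra maps over `A` between algebras over a quotient. -/
def algHomOfQuotient {K : Ideal A} {X Y : Type u} [CommRing X] [CommRing Y] [Algebra A X]
    [Algebra A Y] [Algebra (A ⧸ K) X] [Algebra (A ⧸ K) Y] [IsScalarTower A (A ⧸ K) X]
    [IsScalarTower A (A ⧸ K) Y] (e : X →ₐ[A] Y) : X →ₐ[A ⧸ K] Y :=
  { e.toRingHom with
    commutes' := fun a => by
      obtain ⟨a, rfl⟩ := Ideal.Quotient.mk_surjective a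
      show e (algebraMap (A ⧸ K) X (algebraMap A (A ⧸ K) a)) =
        algebraMap (A ⧸ K) Y (algebraMap A (A ⧸ K) a)
      rw [← IsScalarTower.algebraMap_apply, ← IsScalarTower.algebraMap_apply, e.commutes] }

variable {B : Type u} [CommRing B] [Algebra A B]

theorem exists_factor {K : Ideal A} {E : Type u} [CommRing E] [Algebra A E]
    (h : K.map (algebraMap A E) = ⊥) (v : B →ₐ[A] E) :
    ∃ v' : (B ⧸ K.map (algebraMap A B)) →ₐ[A] E, ∀ b, v' (Ideal.Quotient.mk _ b) = v b := by
  have hv : ∀ x ∈ K.map (algebraMap A B), v x = 0 := fun x hx => by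
    have h1 := Ideal.mem_map_of_mem v.toRingHom hx
    rw [Ideal.map_map, AlgHom.toRingHom_eq_coe, AlgHom.comp_algebraMap, h] at h1
    exact h1
  exact ⟨Ideal.Quotient.liftₐ _ v hv, fun b => rfl⟩

variable {I : Ideal A}

theorem lift_unique_of_trunc (r : ℕ) [Algebra.FormallyUnramified (A ⧸ I ^ r) (B ⧸ (I ^ r).map (algebraMap A B))]
    {E C : Type u} [CommRing E] [CommRing C] [Algebra A E] [Algebra A C]
    (hE : (I ^ r).map (algebraMap A E) = ⊥) (p : E →ₐ[A] C) (hp : IsNilpotent (RingHom.ker p))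
    {v w : B →ₐ[A] E} (hvw : p.comp v = p.comp w) : v = w := by
  let _ := quotientAlgebra hE
  have : IsScalarTower A (A ⧸ I ^ r) E := .of_algebraMap_eq fun _ => rfl
  obtain ⟨v', hv⟩ := exists_factor hE v
  obtain ⟨w', hw⟩ := exists_factor hE w
  have : algHomOfQuotient v' = algHomOfQuotient w' :=
    Algebra.FormallyUnramified.ext' (R := A ⧸ I ^ r) p.toRingHom hp _ _ fun x => by
      obtain ⟨b, rfl⟩ := Ideal.Quotient.mk_surjective x
      show p (v' _) = p (w' _)
      rw [hv, hw]
      exact AlgHom.congr_fun hvw b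
  refine AlgHom.ext fun b => ?_
  rw [← hv, ← hw]
  exact AlgHom.congr_fun this (Ideal.Quotient.mk _ b)

theorem exists_lift_of_trunc (r : ℕ) [Algebra.FormallySmooth (A ⧸ I ^ r) (B ⧸ (I ^ r).map (algebraMap A B))]
    {E C : Type u} [CommRing E] [CommRing C] [Algebra A E] [Algebra A C]
    (hE : (I ^ r).map (algebraMap A E) = ⊥) (hC : (I ^ r).map (algebraMap A C) = ⊥)
    (p : E →ₐ[A] C) (hs : Function.Surjective p) (hp : IsNilpotent (RingHom.ker p))
    (u : B →ₐ[A] C) : ∃ v : B →ₐ[A] E, p.comp v = u := by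
  let _ := quotientAlgebra hE
  let _ := quotientAlgebra hC
  have : IsScalarTower A (A ⧸ I ^ r) E := .of_algebraMap_eq fun _ => rfl
  have : IsScalarTower A (A ⧸ I ^ r) C := .of_algebraMap_eq fun _ => rfl
  obtain ⟨u', hu⟩ := exists_factor hC u
  let p' : E →ₐ[A ⧸ I ^ r] C := algHomOfQuotient p
  let v' := Algebra.FormallySmooth.liftOfSurjective (algHomOfQuotient u') p' hs hp
  refine ⟨(v'.restrictScalars A).comp (Ideal.Quotient.mkₐ A _), AlgHom.ext fun b => ?_⟩
  show p' (v' (Ideal.Quotient.mk _ b)) = u b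
  exact (Algebra.FormallySmooth.liftOfSurjective_apply (algHomOfQuotient u') p' hs hp _).trans (hu b)

/-- Algebras over the truncation are killed by the power. -/
theorem trunc_map_eq_bot (r : ℕ) {X : Type u} [CommRing X] [Algebra (A ⧸ I ^ r) X] (N : Ideal X) :
    let _ : Algebra A X := ((algebraMap (A ⧸ I ^ r) X).comp (Ideal.Quotient.mk _)).toAlgebra
    (I ^ r).map (algebraMap A X) = ⊥ ∧ (I ^ r).map (algebraMap A (X ⧸ N)) = ⊥ := by
  intro _
  have hX : (I ^ r).map (algebraMap A X) = ⊥ := by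
    rw [show algebraMap A X = (algebraMap (A ⧸ I ^ r) X).comp (Ideal.Quotient.mk _) from rfl,
      ← Ideal.map_map, Ideal.map_quotient_self, Ideal.map_bot]
  refine ⟨hX, ?_⟩
  rw [show algebraMap A (X ⧸ N) = (Ideal.Quotient.mk N).comp (algebraMap A X) from rfl,
    ← Ideal.map_map, hX, Ideal.map_bot]

end Groth.Agent.HenselLib
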