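import Groth.Agent.HenselLib.Nbhd
import Groth.Agent.HenselLib.Ops
import Groth.Agent.HenselLib.Henselization
import Mathlib.Algebra.Colimit.DirectLimit
import Mathlib.RingTheory.Etale.StandardEtale
import Mathlib.RingTheory.Localization.Away.Basic

/-!
# The colimit of étale algebras with a point in a ring

For a ring `R` and an `R`-algebra `K` we construct the colimit of the étale `R`-algebras with a
`K`-point, each localized at the elements which become units in `K`.
-/

universe u v

open Polynomial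
open scoped TensorProduct

namespace Groth.Agent.HenselLib

/-- Maps from an unramified algebra are determined by their composition with a map reflecting
units. -/
theorem algHom_ext_of_reflectsUnit {R : Type*} [CommRing R] {E H K : Type*} [CommRing E] [Algebra R E]
    [CommRing H] [Algebra R H] [CommRing K] [Algebra R K] [Algebra.FormallyUnramified R E]
    [Algebra.EssFiniteType R E] (ρ : H →ₐ[R] K) (hρ : ∀ x, IsUnit (ρ x) → IsUnit x)
    {φ ψ : E →ₐ[R] H} (h : ρ.comp φ = ρ.comp ψ) : φ = ψ := by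
  obtain ⟨g, hg, hgx⟩ := exists_mul_eq_of_unramified ρ h
  exact AlgHom.ext fun x => (hρ g (by rw [hg]; exact isUnit_one)).mul_left_cancel (hgx x)

variable (R : Type u) [CommRing R] (K : Type u) [CommRing K] [Algebra R K]

/-- Index: an étale algebra in a small universe with a `K`-point. -/
structure PairIdx where
  n : ℕ
  J : Ideal (MvPolynomial (Fin n) R)
  etale : Algebra.Etale R (MvPolynomial (Fin n) R ⧸ J)
  σ : (MvPolynomial (Fin n) R ⧸ J) →ₐ[R] K

namespace PairIdx

variable {R K} (i : PairIdx R K)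

/-- The étale algebra. -/
def C : Type u := MvPolynomial (Fin i.n) R ⧸ i.J

noncomputable instance : CommRing i.C :=
  inferInstanceAs (CommRing (MvPolynomial (Fin i.n) R ⧸ i.J))

noncomputable instance : Algebra R i.C :=
  inferInstanceAs (Algebra R (MvPolynomial (Fin i.n) R ⧸ i.J))

instance : Algebra.Etale R i.C := i.etale

/-- The point, as a map out of the étale algebra. -/
noncomputable def pt : i.C →ₐ[R] K := i.σ

/-- The elements invertible at the point. -/
noncomputable abbrev M : Submonoid i.C := (IsUnit.submonoid K).comap i.pt.toRingHom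

/-- The localization at the point. -/
def G : Type u := Localization i.M

noncomputable instance : CommRing i.G := inferInstanceAs (CommRing (Localization i.M))

noncomputable instance : Algebra i.C i.G := inferInstanceAs (Algebra i.C (Localization i.M))

noncomputable instance : Algebra R i.G := inferInstanceAs (Algebra R (Localization i.M))

instance : IsScalarTower R i.C i.G := inferInstanceAs (IsScalarTower R i.C (Localization i.M))

instance : IsLocalization i.M i.G := inferInstanceAs (IsLocalization i.M (Localization i.M))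

/-- The canonical map. -/
noncomputable abbrev toG : i.C →ₐ[R] i.G := IsScalarTower.toAlgHom R i.C i.G

/-- The map to `K`. -/
noncomputable def ρ : i.G →ₐ[R] K := IsLocalization.liftAlgHom (M := i.M) (f := i.pt) fun s => s.2

theorem ρ_toG (c : i.C) : i.ρ (i.toG c) = i.pt c := IsLocalization.lift_eq _ c

theorem reflectsUnit (x : i.G) (hx : IsUnit (i.ρ x)) : IsUnit x := by
  obtain ⟨⟨c, s⟩, hcs⟩ := IsLocalization.surj i.M x
  have h1 := congrArg i.ρ hcs
  rw [map_mul] at h1
  change i.ρ x * i.ρ (i.toG s) = i.ρ (i.toG c) at h1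
  rw [i.ρ_toG, i.ρ_toG] at h1
  have hc : c ∈ i.M := by
    show IsUnit (i.pt c)
    rw [← h1]
    exact hx.mul s.2
  exact (IsUnit.mul_iff.mp (hcs ▸ IsLocalization.map_units i.G (⟨c, hc⟩ : i.M))).1

/-- A map of algebras compatible with the points extends to the localizations. -/
theorem exists_extend {H : Type*} [CommRing H] [Algebra R H] (ρH : H →ₐ[R] K)
    (hH : ∀ x, IsUnit (ρH x) → IsUnit x) (φ : i.C →ₐ[R] H) (hφ : ρH.comp φ = i.pt) :
    ∃ ψ : i.G →ₐ[R] H, ρH.comp ψ = i.ρ ∧ ψ.comp i.toG = φ := by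
  have hu : ∀ s : i.M, IsUnit (φ s) := fun s => hH _ (by
    rw [← AlgHom.comp_apply, hφ]
    exact s.2)
  have h1 : ∀ c, (IsLocalization.liftAlgHom hu : i.G →ₐ[R] H) (i.toG c) = φ c := fun c =>
    IsLocalization.lift_eq _ c
  refine ⟨IsLocalization.liftAlgHom hu, IsLocalization.algHom_ext i.M
    (AlgHom.ext fun c => ?_), AlgHom.ext h1⟩
  show ρH ((IsLocalization.liftAlgHom hu : i.G →ₐ[R] H) (i.toG c)) = i.ρ (i.toG c)
  rw [h1, i.ρ_toG, ← AlgHom.comp_apply, hφ]

/-- Maps compatible with the points are unique. -/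
theorem hom_ext {H : Type*} [CommRing H] [Algebra R H] (ρH : H →ₐ[R] K)
    (hH : ∀ x, IsUnit (ρH x) → IsUnit x) {φ ψ : i.G →ₐ[R] H} (h : ρH.comp φ = ρH.comp ψ) : φ = ψ := by
  refine IsLocalization.algHom_ext i.M (algHom_ext_of_reflectsUnit ρH hH (AlgHom.ext fun c => ?_))
  exact AlgHom.congr_fun h (i.toG c)

instance : LE (PairIdx R K) :=
  ⟨fun i j => ∃ φ : i.G →ₐ[R] j.G, j.ρ.comp φ = i.ρ⟩

instance : Preorder (PairIdx R K) where
  le_refl i := ⟨AlgHom.id R _, AlgHom.comp_id _⟩
  le_trans i j k := fun ⟨φ, hφ⟩ ⟨ψ, hψ⟩ => ⟨ψ.comp φ, by rw [← AlgHom.comp_assoc, hψ, hφ]⟩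

/-- The transition map. -/
noncomputable def map (i j : PairIdx R K) (h : i ≤ j) : i.G →ₐ[R] j.G := Exists.choose h

theorem ρ_map {i j : PairIdx R K} (h : i ≤ j) : j.ρ.comp (map i j h) = i.ρ := Exists.choose_spec h

theorem map_eq {i j : PairIdx R K} (h : i ≤ j) {φ : i.G →ₐ[R] j.G} (hφ : j.ρ.comp φ = i.ρ) :
    φ = map i j h :=
  i.hom_ext j.ρ j.reflectsUnit (hφ.trans (ρ_map h).symm)

instance : DirectedSystem (fun i : PairIdx R K => i.G) (map · · ·) where
  map_self i x := by
    rw [← map_eq (le_refl i) (φ := AlgHom.id R _) (AlgHom.comp_id _)]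
    rfl
  map_map {k j i} hij hjk x := by
    rw [← map_eq (hij.trans hjk) (φ := (map j k hjk).comp (map i j hij))
      (by rw [← AlgHom.comp_assoc, ρ_map, ρ_map])]
    rfl

/-- Every étale algebra with a point is isomorphic to an index. -/
theorem exists_index (T : Type u) [CommRing T] [Algebra R T] [Algebra.Etale R T] (σ : T →ₐ[R] K) :
    ∃ (j : PairIdx R K) (e : T ≃ₐ[R] j.C), j.pt.comp e.toAlgHom = σ := by
  obtain ⟨n, f, hf, -⟩ := Algebra.FinitePresentation.out (R := R) (A := T)
  let e := Ideal.quotientKerAlgEquivOfSurjective hf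
  refine ⟨⟨n, RingHom.ker f, Algebra.Etale.of_equiv e.symm, σ.comp e.toAlgHom⟩, e.symm,
    AlgHom.ext fun t => ?_⟩
  show σ (e (e.symm t)) = σ t
  rw [e.apply_symm_apply]

/-- A map of étale algebras compatible with the points gives `≤`. -/
theorem le_of_algHom {i j : PairIdx R K} (φ : i.C →ₐ[R] j.C) (h : j.pt.comp φ = i.pt) : i ≤ j := by
  obtain ⟨ψ, hψ, -⟩ := i.exists_extend j.ρ j.reflectsUnit (j.toG.comp φ)
    (AlgHom.ext fun c => (j.ρ_toG (φ c)).trans (AlgHom.congr_fun h c))
  exact ⟨ψ, hψ⟩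

theorem exists_ge (i j : PairIdx R K) : ∃ k, i ≤ k ∧ j ≤ k := by
  have : Algebra.Etale R (i.C ⊗[R] j.C) := Algebra.Etale.comp R i.C (i.C ⊗[R] j.C)
  obtain ⟨k, e, he⟩ := exists_index (i.C ⊗[R] j.C) (Algebra.TensorProduct.productMap i.pt j.pt)
  refine ⟨k, le_of_algHom (e.toAlgHom.comp Algebra.TensorProduct.includeLeft) ?_,
    le_of_algHom (e.toAlgHom.comp Algebra.TensorProduct.includeRight) ?_⟩
  · rw [← AlgHom.comp_assoc, he, Algebra.TensorProduct.productMap_left]
  · rw [← AlgHom.comp_assoc, he, Algebra.TensorProduct.productMap_right]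

instance : IsDirectedOrder (PairIdx R K) := ⟨exists_ge⟩

instance : Nonempty (PairIdx R K) := ⟨(exists_index R (Algebra.ofId R K)).choose⟩

variable (R K)

/-- The colimit of the localizations. -/
def Colim : Type u := DirectLimit (fun i : PairIdx R K => i.G) (map · · ·)

noncomputable instance : CommRing (Colim R K) :=
  inferInstanceAs (CommRing (DirectLimit (fun i : PairIdx R K => i.G) (map · · ·)))

noncomputable instance : Algebra R (Colim R K) :=
  inferInstanceAs (Algebra R (DirectLimit (fun i : PairIdx R K => i.G) (map · · ·)))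

variable {R K}

/-- The map into the colimit. -/
noncomputable def of (i : PairIdx R K) : i.G →ₐ[R] Colim R K :=
  { DirectLimit.Ring.of (fun i : PairIdx R K => i.G) (map · · ·) i with
    commutes' := fun r => (DirectLimit.algebraMap_def i r).symm }

theorem of_map {i j : PairIdx R K} (h : i ≤ j) (x : i.G) : of j (map i j h x) = of i x :=
  (DirectLimit.eq_of_le (f := fun i j h => map i j h) ⟨i, x⟩ j h).symm

theorem exists_of (x : Colim R K) : ∃ (i : PairIdx R K) (y : i.G), of i y = x := by
  obtain ⟨i, y, rfl⟩ := DirectLimit.exists_eq_mk (fun i j h => map i j h) x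
  exact ⟨i, y, rfl⟩

/-- The map from the colimit to `K`. -/
noncomputable def ρC : Colim R K →ₐ[R] K :=
  let L := DirectLimit.Ring.lift (fun i : PairIdx R K => i.G) (map · · ·) K
    (fun i => i.ρ.toRingHom) (fun _ _ h x => AlgHom.congr_fun (ρ_map h) x)
  { L with
    commutes' := fun r => by
      obtain ⟨i⟩ := (inferInstance : Nonempty (PairIdx R K))
      exact (congrArg L (DirectLimit.algebraMap_def i r)).trans (i.ρ.commutes r) }

theorem ρC_of (i : PairIdx R K) (x : i.G) : ρC (of i x) = i.ρ x := rfl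

theorem reflectsUnit_ρC (x : Colim R K) (hx : IsUnit (ρC x)) : IsUnit x := by
  obtain ⟨i, y, rfl⟩ := exists_of x
  exact (i.reflectsUnit y hx).map (of i)

theorem exists_lift (T : Type u) [CommRing T] [Algebra R T] [Algebra.Etale R T] (σ : T →ₐ[R] K) :
    ∃ τ : T →ₐ[R] Colim R K, ρC.comp τ = σ := by
  obtain ⟨j, e, he⟩ := exists_index T σ
  refine ⟨((of j).comp j.toG).comp e.toAlgHom, AlgHom.ext fun t => ?_⟩
  show ρC (of j (j.toG (e t))) = σ t
  rw [ρC_of, ρ_toG, ← he]
  rfl

theorem exists_rep (x : Colim R K) : ∃ (C : Type u) (_ : CommRing C) (_ : Algebra R C)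
    (_ : Algebra.Etale R C) (τ : C →ₐ[R] Colim R K) (c : C), τ c = x := by
  obtain ⟨i, y, rfl⟩ := exists_of x
  obtain ⟨c, s, rfl⟩ := IsLocalization.exists_mk'_eq i.M y
  let ι : Localization.Away (s : i.C) →ₐ[R] i.G := IsLocalization.Away.liftAlgHom (s : i.C)
    (f := i.toG) (IsLocalization.map_units i.G s)
  have hι : ∀ d, ι (algebraMap i.C _ d) = i.toG d := fun d => IsLocalization.lift_eq _ d
  obtain ⟨w, hw⟩ := (IsLocalization.Away.algebraMap_isUnit (S := Localization.Away (s : i.C))
    (s : i.C)).exists_right_inv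
  refine ⟨Localization.Away (s : i.C), inferInstance, inferInstance, inferInstance,
    (of i).comp ι, algebraMap i.C _ c * w, congrArg (of i) ?_⟩
  rw [eq_comm, IsLocalization.mk'_eq_iff_eq_mul]
  have h1 := congrArg ι hw
  rw [map_mul, hι, map_one] at h1
  show i.toG c = ι (algebraMap i.C _ c * w) * i.toG s
  rw [map_mul, hι]
  linear_combination (-i.toG c) * h1

theorem exists_kill (C : Type u) [CommRing C] [Algebra R C] [Algebra.Etale R C]
    (τ : C →ₐ[R] Colim R K) (c : C) (hc : τ c = 0) :
    ∃ (D : Type u) (_ : CommRing D) (_ : Algebra R D) (_ : Algebra.Etale R D)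
      (φ : C →ₐ[R] D) (τ' : D →ₐ[R] Colim R K), τ'.comp φ = τ ∧ φ c = 0 := by
  obtain ⟨j, e, he⟩ := exists_index C (ρC.comp τ)
  have hτ : ((of j).comp j.toG).comp e.toAlgHom = τ :=
    algHom_ext_of_reflectsUnit ρC reflectsUnit_ρC (AlgHom.ext fun t => by
      show ρC (of j (j.toG (e t))) = _
      rw [ρC_of, ρ_toG, ← he]
      rfl)
  have h0 : (⟦⟨j, j.toG (e c)⟩⟧ : Colim R K) = 0 := (AlgHom.congr_fun hτ c).trans hc
  obtain ⟨k, hjk, hk⟩ := (DirectLimit.exists_eq_zero (f := fun i j h => map i j h) _).mp h0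
  obtain ⟨s, hsM, φ', hφ'⟩ := exists_factor_away k.M (G := k.G)
    (((map j k hjk).comp j.toG).comp e.toAlgHom)
  let ι : Localization.Away s →ₐ[R] k.G := IsLocalization.Away.liftAlgHom s
    (f := k.toG) (IsLocalization.map_units k.G (⟨s, hsM⟩ : k.M))
  have hι : ∀ d, ι (algebraMap k.C _ d) = algebraMap k.C k.G d := fun d => IsLocalization.lift_eq _ d
  have hιφ := hφ' ι hι
  have hc0 : ι (φ' c) = 0 := (AlgHom.congr_fun hιφ c).trans hk
  obtain ⟨d, ⟨_, m, rfl⟩, hd⟩ := IsLocalization.exists_mk'_eq (Submonoid.powers s) (φ' c)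
  have hd0 : algebraMap k.C k.G d = 0 := by
    rw [← hι, ← IsLocalization.mk'_spec (Localization.Away s) d
      (⟨s ^ m, m, rfl⟩ : Submonoid.powers s), hd, map_mul, hc0, zero_mul]
  obtain ⟨⟨t, ht⟩, htd⟩ := (IsLocalization.map_eq_zero_iff k.M k.G d).mp hd0
  set L := Localization.Away (algebraMap k.C (Localization.Away s) t)
  let ι' : L →ₐ[R] k.G := IsLocalization.Away.liftAlgHom _ (f := ι) (by
    rw [hι]
    exact IsLocalization.map_units k.G (⟨t, ht⟩ : k.M))
  have hι' : ∀ z, ι' (algebraMap (Localization.Away s) L z) = ι z := fun z =>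
    IsLocalization.lift_eq _ z
  refine ⟨L, inferInstance, inferInstance, inferInstance,
    (IsScalarTower.toAlgHom R (Localization.Away s) L).comp φ', (of k).comp ι', ?_, ?_⟩
  · rw [← hτ]
    refine AlgHom.ext fun z => ?_
    show of k (ι' (algebraMap _ L (φ' z))) = of j (j.toG (e z))
    rw [hι', ← of_map hjk]
    exact congrArg (of k) (AlgHom.congr_fun hιφ z)
  · show algebraMap _ L (φ' c) = 0
    refine (IsLocalization.map_eq_zero_iff
      (Submonoid.powers (algebraMap k.C (Localization.Away s) t)) L _).mpr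
      ⟨⟨_, 1, pow_one _⟩, ?_⟩
    refine ((IsLocalization.map_units (Localization.Away s)
      (⟨s ^ m, m, rfl⟩ : Submonoid.powers s))).mul_left_cancel ?_
    have h1 := IsLocalization.mk'_spec (Localization.Away s) d
      (⟨s ^ m, m, rfl⟩ : Submonoid.powers s)
    rw [hd] at h1
    rw [mul_zero, mul_left_comm, mul_comm (algebraMap k.C _ (s ^ m)), h1, ← map_mul]
    show algebraMap k.C _ (t * d) = 0
    rw [show t * d = 0 from htd, map_zero]

/-- A monic polynomial with a simple root at the point has a root in the colimit. -/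
theorem exists_root {F : (Colim R K)[X]} (hF : F.Monic) (a₀ : Colim R K)
    (h₁ : ρC (F.eval a₀) = 0) (h₂ : IsUnit (ρC ((derivative F).eval a₀))) :
    ∃ b : Colim R K, F.IsRoot b ∧ ρC b = ρC a₀ := by
  classical
  obtain ⟨C, _, _, _, τ, hτ⟩ := exists_common_rep (R := R) exists_rep F.coeffs
  have hmem : F ∈ Polynomial.lifts τ.toRingHom := by
    rw [Polynomial.lifts_iff_coeff_lifts]
    intro n
    by_cases hn : F.coeff n = 0
    · exact ⟨0, by rw [map_zero, hn]⟩
    · exact hτ _ (Polynomial.coeff_mem_coeffs hn)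
  obtain ⟨F', hFmap, -, hF'⟩ := Polynomial.lifts_and_natDegree_eq_and_monic hmem hF
  let _ : Algebra C K := (ρC.comp τ).toRingHom.toAlgebra
  have : IsScalarTower R C K := IsScalarTower.of_algebraMap_eq fun r => ((ρC.comp τ).commutes r).symm
  let P : StandardEtalePair C :=
    { f := F', monic_f := hF', g := derivative F', cond := ⟨1, 0, 1, by ring⟩ }
  have hev : ∀ (G : C[X]) (g : (Colim R K)[X]), G.map τ.toRingHom = g →
      aeval (ρC a₀) G = ρC (g.eval a₀) := by
    rintro G _ rfl
    rw [Polynomial.eval_map]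
    exact (Polynomial.hom_eval₂ G τ.toRingHom ρC.toRingHom a₀).symm
  have hmap : P.HasMap (ρC a₀) :=
    ⟨by rw [hev F' F hFmap]; exact h₁,
      by rw [hev (derivative F') (derivative F) (by rw [← derivative_map, hFmap])]; exact h₂⟩
  let _ : Algebra R P.Ring := ((algebraMap C P.Ring).comp (algebraMap R C)).toAlgebra
  have : IsScalarTower R C P.Ring := IsScalarTower.of_algebraMap_eq fun _ => rfl
  have : Algebra.Etale R P.Ring := Algebra.Etale.comp R C P.Ring
  obtain ⟨τ', hτ'⟩ := exists_lift P.Ring ((P.lift _ hmap).restrictScalars R)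
  have hC : τ'.comp (IsScalarTower.toAlgHom R C P.Ring) = τ :=
    algHom_ext_of_reflectsUnit ρC reflectsUnit_ρC (AlgHom.ext fun c => by
      show ρC (τ' (algebraMap C P.Ring c)) = ρC (τ c)
      rw [← AlgHom.comp_apply, hτ']
      exact (P.lift _ hmap).commutes c)
  refine ⟨τ' P.X, ?_, (AlgHom.congr_fun hτ' P.X).trans (P.lift_X _ hmap)⟩
  rw [IsRoot, ← hFmap, eval_map,
    show τ.toRingHom = τ'.toRingHom.comp (algebraMap C P.Ring) by rw [← hC]; rfl]
  show eval₂ (τ'.toRingHom.comp (algebraMap C P.Ring)) (τ'.toRingHom P.X) F' = 0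
  rw [← Polynomial.hom_eval₂, ← Polynomial.aeval_def, show aeval P.X F' = 0 from P.hasMap_X.1,
    map_zero]

end PairIdx

end Groth.Agent.HenselLib
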