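import Groth.Agent.HenselLib.PairHenselization
import Mathlib.RingTheory.TensorProduct.Quotient
import Mathlib.RingTheory.Flat.Stability
import Mathlib.RingTheory.Smooth.Flat
import Mathlib.RingTheory.Etale.Basic

/-!
# Truncations of henselizations of étale and smooth algebras
-/

universe u

open scoped TensorProduct

namespace Groth.Agent.HenselLib

variable {A : Type u} [CommRing A]

/-- Algebra maps over `A` between `A ⧸ K`-algebras are linear over `A ⧸ K`. -/
def algEquivOfQuotient {K : Ideal A} {X Y : Type u} [CommRing X] [CommRing Y] [Algebra A X]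
    [Algebra A Y] [Algebra (A ⧸ K) X] [Algebra (A ⧸ K) Y] [IsScalarTower A (A ⧸ K) X]
    [IsScalarTower A (A ⧸ K) Y] (e : X ≃ₐ[A] Y) : X ≃ₐ[A ⧸ K] Y :=
  AlgEquiv.ofRingEquiv (f := e.toRingEquiv) fun a => by
    obtain ⟨a, rfl⟩ := Ideal.Quotient.mk_surjective a
    show e (algebraMap (A ⧸ K) X (algebraMap A (A ⧸ K) a)) =
      algebraMap (A ⧸ K) Y (algebraMap A (A ⧸ K) a)
    rw [← IsScalarTower.algebraMap_apply, ← IsScalarTower.algebraMap_apply, e.commutes]

variable {I : Ideal A} {R : Type u} [CommRing R] [Algebra A R] {B : Type u} [CommRing B]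
  [Algebra R B] [Algebra A B] [IsScalarTower A R B]

theorem exists_trunc_equiv (hB : Hens2.IsPairHenselization R (I.map (algebraMap A R)) B) (r : ℕ) :
    Nonempty (((A ⧸ I ^ r) ⊗[A] R) ≃ₐ[A ⧸ I ^ r] B ⧸ (I ^ r).map (algebraMap A B)) := by
  have hmap : ((I.map (algebraMap A R)) ^ r).map (algebraMap R B) = (I ^ r).map (algebraMap A B) := by
    rw [← Ideal.map_pow, Ideal.map_map, ← IsScalarTower.algebraMap_eq]
  have hb := quotient_pow_bijective hB r
  let q : (R ⧸ (I ^ r).map (algebraMap A R)) →ₐ[A] B ⧸ (I ^ r).map (algebraMap A B) :=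
    Ideal.quotientMapₐ _ (IsScalarTower.toAlgHom A R B) (by
      rw [← Ideal.map_le_iff_le_comap]
      show Ideal.map (algebraMap R B) _ ≤ _
      rw [Ideal.map_map, ← IsScalarTower.algebraMap_eq])
  have hq : Function.Bijective q := by
    refine ⟨fun x y hxy => ?_, fun y => ?_⟩
    · obtain ⟨x, rfl⟩ := Ideal.Quotient.mk_surjective x
      obtain ⟨y, rfl⟩ := Ideal.Quotient.mk_surjective y
      have h1 : algebraMap R B x - algebraMap R B y ∈ ((I.map (algebraMap A R)) ^ r).map (algebraMap R B) :=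
        hmap ▸ Ideal.Quotient.eq.mp hxy
      have h2 : Ideal.Quotient.mk ((I.map (algebraMap A R)) ^ r) x = Ideal.Quotient.mk _ y :=
        hb.1 (Ideal.Quotient.eq.mpr h1)
      rw [Ideal.Quotient.eq, ← Ideal.map_pow] at h2
      exact Ideal.Quotient.eq.mpr h2
    · obtain ⟨b, rfl⟩ := Ideal.Quotient.mk_surjective y
      obtain ⟨x, hx⟩ := hb.2 (Ideal.Quotient.mk _ b)
      obtain ⟨x, rfl⟩ := Ideal.Quotient.mk_surjective x
      rw [Ideal.quotientMap_mk, Ideal.Quotient.eq, hmap] at hx
      exact ⟨Ideal.Quotient.mk _ x, Ideal.Quotient.eq.mpr hx⟩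
  exact ⟨algEquivOfQuotient (((Algebra.TensorProduct.comm A (A ⧸ I ^ r) R).trans
    ((Algebra.TensorProduct.quotIdealMapEquivTensorQuot R (I ^ r)).symm.restrictScalars A)).trans
    (AlgEquiv.ofBijective q hq))⟩

theorem flat_of_pairHenselization [Module.Flat A R]
    (hB : Hens2.IsPairHenselization R (I.map (algebraMap A R)) B) : Module.Flat A B :=
  have := flat_of_isPairHenselization hB
  Module.Flat.trans A R B

end Groth.Agent.HenselLib
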