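import Groth.Agent.HenselLib.Newton
import Groth.Agent.HenselLib.ProjLift
import Mathlib.RingTheory.Smooth.Basic
import Mathlib.RingTheory.FinitePresentation
import Mathlib.Algebra.MvPolynomial.PDeriv

/-!
# Smooth algebras lift along henselian pairs
-/

universe u

open MvPolynomial Finset

namespace Groth.Agent.HenselLib

variable {R : Type u} [CommRing R]

/-- Chain rule. -/
theorem pderiv_aeval {ι κ : Type*} [Fintype ι] {A : Type*} [CommRing A] [Algebra R A]
    (a : ι → MvPolynomial κ A) (p : MvPolynomial ι R) (l : κ) :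
    pderiv l (aeval a p) = ∑ j, aeval a (pderiv j p) * pderiv l (a j) := by
  classical
  induction p using MvPolynomial.induction_on with
  | C r => simp [MvPolynomial.algebraMap_apply]
  | add p q hp hq => simp only [map_add, hp, hq, add_mul, sum_add_distrib]
  | mul_X p i hp =>
    rw [map_mul, aeval_X, pderiv_mul, hp, sum_mul]
    simp only [pderiv_mul, map_add, map_mul, aeval_X, add_mul, sum_add_distrib]
    congr 1
    · exact sum_congr rfl fun j _ => by ring
    · rw [sum_eq_single i]
      · simp
      · intro j _ hj; simp [pderiv_X, hj]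
      · simp

/-- First order Taylor expansion. -/
theorem taylor_mem_sq {ι : Type*} [Fintype ι] (J : Ideal (MvPolynomial ι R))
    (δ : ι → MvPolynomial ι R) (hδ : ∀ j, δ j ∈ J) (p : MvPolynomial ι R) :
    aeval (fun j => X j - δ j) p - (p - ∑ j, pderiv j p * δ j) ∈ J ^ 2 := by
  classical
  induction p using MvPolynomial.induction_on with
  | C r => simp [MvPolynomial.aeval_C]
  | add p q hp hq =>
    convert add_mem hp hq using 1
    simp only [map_add, add_mul, sum_add_distrib]
    ring
  | mul_X p i hp =>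
    have h1 : ∑ j, pderiv j (p * X i) * δ j = (∑ j, pderiv j p * δ j) * X i + p * δ i := by
      simp only [pderiv_mul, add_mul, sum_add_distrib]
      congr 1
      · rw [sum_mul]; exact sum_congr rfl fun j _ => by ring
      · rw [sum_eq_single i]
        · simp
        · intro j _ hj; simp [pderiv_X, hj.symm]
        · simp
    have h2 : (∑ j, pderiv j p * δ j) * δ i ∈ J ^ 2 := by
      rw [pow_two]
      exact Ideal.mul_mem_mul (Ideal.sum_mem _ fun j _ => J.mul_mem_left _ (hδ j)) (hδ i)
    have key : aeval (fun j => X j - δ j) (p * X i) - (p * X i - ∑ j, pderiv j (p * X i) * δ j) =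
        (aeval (fun j => X j - δ j) p - (p - ∑ j, pderiv j p * δ j)) * (X i - δ i) +
          (∑ j, pderiv j p * δ j) * δ i := by
      rw [map_mul, aeval_X, h1]
      ring
    rw [key]
    exact add_mem (Ideal.mul_mem_right _ _ hp) h2

/-- A smooth quotient of a polynomial ring has relations `f` with `f = f P` where `P` is congruent
to a multiple of the Jacobian matrix. -/
theorem exists_relation_matrix {n m : ℕ} (f : Fin m → MvPolynomial (Fin n) R) {S : Type u}
    [CommRing S] [Algebra R S] [Algebra.FormallySmooth R S] (φ : MvPolynomial (Fin n) R →ₐ[R] S)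
    (hφ : Function.Surjective φ) (hker : RingHom.ker φ.toRingHom = Ideal.span (Set.range f)) :
    ∃ (M : Fin m → Fin n → MvPolynomial (Fin n) R) (N : Fin m → Fin m → MvPolynomial (Fin n) R),
      (∀ k, f k = ∑ l, f l * (∑ j, M l j * pderiv j (f k) + N l k)) ∧
      ∀ l k, N l k ∈ Ideal.span (Set.range f) := by
  classical
  obtain ⟨g, hg⟩ := (Algebra.FormallySmooth.iff_split_surjection φ hφ).mp inferInstance
  let J : Ideal (MvPolynomial (Fin n) R) := RingHom.ker φ.toRingHom
  have hkJ : J = Ideal.span (Set.range f) := hker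
  choose h hh using fun j : Fin n => Ideal.Quotient.mk_surjective (g (φ (X j)))
  have hcomp : (Ideal.Quotient.mkₐ R (J ^ 2)).comp (aeval h) = g.comp φ :=
    MvPolynomial.algHom_ext fun j => by
      show Ideal.Quotient.mk (J ^ 2) (aeval h (X j)) = g (φ (X j))
      rw [aeval_X]
      exact hh j
  have hδ : ∀ j, X j - h j ∈ J := fun j => by
    show φ (X j - h j) = 0
    have h1 : φ.kerSquareLift (g (φ (X j))) = φ (X j) := AlgHom.congr_fun hg (φ (X j))
    rw [← hh j] at h1
    rw [map_sub, sub_eq_zero]
    exact h1.symm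
  choose M hM using fun j => Ideal.mem_span_range_iff_exists_fun.mp (hkJ ▸ hδ j)
  have hsq : ∀ x ∈ J * J, ∃ c : Fin m → MvPolynomial (Fin n) R,
      (∀ l, c l ∈ J) ∧ x = ∑ l, f l * c l := by
    intro x hx
    refine Submodule.mul_induction_on hx (fun a ha b hb => ?_) ?_
    · obtain ⟨c, rfl⟩ := Ideal.mem_span_range_iff_exists_fun.mp (hkJ ▸ ha)
      exact ⟨fun l => c l * b, fun l => J.mul_mem_left _ hb,
        by rw [sum_mul]; exact sum_congr rfl fun l _ => by ring⟩
    · rintro a b ⟨c, hc, rfl⟩ ⟨d, hd, rfl⟩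
      exact ⟨c + d, fun l => add_mem (hc l) (hd l), by simp [mul_add, sum_add_distrib]⟩
  have hk : ∀ k, f k - ∑ l, f l * (∑ j, M j l * pderiv j (f k)) ∈ J ^ 2 := fun k => by
    have h1 : aeval h (f k) ∈ J ^ 2 := by
      rw [← Ideal.Quotient.eq_zero_iff_mem]
      have h2 := AlgHom.congr_fun hcomp (f k)
      rw [AlgHom.comp_apply, AlgHom.comp_apply,
        show φ (f k) = 0 from (hker.ge (Ideal.subset_span ⟨k, rfl⟩) : f k ∈ J), map_zero] at h2
      exact h2
    have h3 := taylor_mem_sq J (fun j => X j - h j) hδ (f k)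
    simp only [sub_sub_cancel] at h3
    have h4 := sub_mem h1 h3
    rw [sub_sub_cancel] at h4
    convert h4 using 2
    simp only [mul_sum]
    rw [sum_comm]
    refine sum_congr rfl fun j _ => ?_
    rw [← hM j, mul_sum]
    exact sum_congr rfl fun l _ => by ring
  choose c hcJ hc using fun k => hsq _ (pow_two J ▸ hk k)
  refine ⟨fun l j => M j l, fun l k => c k l, fun k => ?_, fun l k => hkJ ▸ hcJ k l⟩
  rw [sum_congr rfl fun l _ => mul_add (f l) _ _, sum_add_distrib, ← hc k, add_sub_cancel]

/-- A matrix congruent to `1` modulo an ideal in the Jacobson radical has unit determinant. -/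
theorem isUnit_det_of_map_eq_one {A : Type*} [CommRing A] {I : Ideal A} (hI : I ≤ Ideal.jacobson ⊥)
    {m : Type*} [Fintype m] [DecidableEq m] {B : Matrix m m A}
    (hB : B.map (Ideal.Quotient.mk I) = 1) : IsUnit B.det := by
  have h1 : Ideal.Quotient.mk I B.det = 1 := by
    rw [RingHom.map_det, RingHom.mapMatrix_apply, hB, Matrix.det_one]
  rw [← map_one (Ideal.Quotient.mk I), Ideal.Quotient.eq] at h1
  have h2 := Ideal.mem_jacobson_bot.mp (hI h1) 1
  rwa [mul_one, sub_add_cancel] at h2

/-- Smooth algebras lift along henselian pairs. -/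
theorem exists_smooth_lift (S : Type u) [CommRing S] [Algebra R S] [Algebra.Smooth R S] (A : Type u)
    [CommRing A] [Algebra R A] (I : Ideal A) [hI : HenselianRing A I] (σ : S →ₐ[R] A ⧸ I) :
    ∃ τ : S →ₐ[R] A, (Ideal.Quotient.mkₐ R I).comp τ = σ := by
  classical
  obtain ⟨n, φ, hφ, hfg⟩ := Algebra.FinitePresentation.out (R := R) (A := S)
  obtain ⟨m, f, hf⟩ := Submodule.fg_iff_exists_fin_generating_family.mp hfg
  obtain ⟨M, N, hfN, hN⟩ := exists_relation_matrix f φ hφ hf.symm
  choose a₀ ha₀ using fun j : Fin n => Ideal.Quotient.mk_surjective (σ (φ (X j)))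
  let mk := Ideal.Quotient.mkₐ R I
  have hσ : mk.comp (aeval a₀) = σ.comp φ := MvPolynomial.algHom_ext fun j => by simpa [mk] using ha₀ j
  have hf0 : ∀ x ∈ Ideal.span (Set.range f), mk (aeval a₀ x) = 0 := fun x hx => by
    have := AlgHom.congr_fun hσ x
    rw [AlgHom.comp_apply, AlgHom.comp_apply, show φ x = 0 from hf.le hx, map_zero] at this
    exact this
  let D : Matrix (Fin n) (Fin m) A := Matrix.of fun j k => aeval a₀ (pderiv j (f k))
  let Mv : Matrix (Fin m) (Fin n) A := Matrix.of fun l j => aeval a₀ (M l j)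
  let Pm : Matrix (Fin m) (Fin m) (A ⧸ I) := (Mv * D).map (Ideal.Quotient.mk I)
  have hmk : ∀ x : A, Ideal.Quotient.mk I x = mk x := fun _ => rfl
  have hP : ∀ l k, Pm l k = mk (aeval a₀ (∑ j, M l j * pderiv j (f k) + N l k)) := fun l k => by
    rw [map_add, map_add, hf0 _ (hN l k), add_zero]
    simp [Pm, Matrix.mul_apply, Mv, D, hmk, map_sum]
  have hidem : IsIdempotentElem Pm := by
    have hD : D.map (Ideal.Quotient.mk I) * Pm = D.map (Ideal.Quotient.mk I) := by
      ext j k
      have h1 := congrArg (fun p => mk (aeval a₀ (pderiv j p))) (hfN k)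
      simp only [map_sum, pderiv_mul, map_add, map_mul] at h1
      rw [Matrix.mul_apply, Matrix.map_apply, hmk]
      refine Eq.trans ?_ h1.symm
      refine sum_congr rfl fun l _ => ?_
      rw [hf0 (f l) (Ideal.subset_span ⟨l, rfl⟩), zero_mul, add_zero, hP, Matrix.map_apply, hmk]
      simp [D]
    show Pm * Pm = Pm
    conv_rhs => rw [show Pm = Mv.map (Ideal.Quotient.mk I) * D.map (Ideal.Quotient.mk I) from
      Matrix.map_mul, ← hD, ← Matrix.mul_assoc, ← Matrix.map_mul]
  obtain ⟨E, hE, hEP⟩ := exists_idem_matrix I hidem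
  let at' : Fin n → MvPolynomial (Fin m) A := fun j => C (a₀ j) + ∑ l, X l * C (Mv l j)
  let H : Fin m → MvPolynomial (Fin m) A := fun k =>
    aeval at' (f k) + ∑ l, X l * C ((1 - E : Matrix (Fin m) (Fin m) A) l k)
  have heval : ∀ (t : Fin m → A) (p : MvPolynomial (Fin n) R),
      eval t (aeval at' p) = aeval (fun j => a₀ j + ∑ l, t l * Mv l j) p := by
    intro t p
    induction p using MvPolynomial.induction_on with
    | C r => simp [MvPolynomial.algebraMap_apply]
    | add p q hp hq => simp [hp, hq]
    | mul_X p i hp => simp [hp, at']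
  have h0 : ∀ p : MvPolynomial (Fin n) R,
      eval (0 : Fin m → A) (aeval at' p) = aeval a₀ p := fun p => by simpa using heval 0 p
  obtain ⟨t, ht, htI⟩ := exists_root_of_jacobian I H 0 (fun k => by
      rw [← Ideal.Quotient.eq_zero_iff_mem]
      simp only [H, map_add, h0, map_sum, map_mul, eval_X, Pi.zero_apply, map_zero, zero_mul,
        sum_const_zero, add_zero]
      exact hf0 _ (Ideal.subset_span ⟨k, rfl⟩)) (by
      set J := Matrix.of fun i j => eval (0 : Fin m → A) (pderiv j (H i))
      have hJ : J.map (Ideal.Quotient.mk I) = 1 := by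
        ext k l
        have hd : ∀ j, eval (0 : Fin m → A) (pderiv l (at' j)) = Mv l j := fun j => by
          simp [at', map_sum, pderiv_X, Pi.single_apply, mul_ite, ite_mul]
        have h1 : Ideal.Quotient.mk I (∑ j, aeval a₀ (pderiv j (f k)) * Mv l j) = Pm l k := by
          simp only [Pm, Matrix.map_apply, Matrix.mul_apply, D, Matrix.of_apply]
          exact congrArg _ (sum_congr rfl fun j _ => mul_comm _ _)
        have h2 : Ideal.Quotient.mk I (E l k) = Pm l k := by rw [← hEP]; rfl
        show Ideal.Quotient.mk I (eval (0 : Fin m → A) (pderiv l (H k))) = _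
        simp only [H, map_add, pderiv_aeval, map_sum, map_mul, h0, hd, pderiv_mul, pderiv_C,
          mul_zero, add_zero, eval_C, Matrix.sub_apply]
        rw [sum_eq_single l]
        · simp only [pderiv_X_self, map_one, one_mul, map_sub]
          simp only [map_sum, map_mul] at h1
          rw [h1, h2, add_sub_cancel]
          simp [Matrix.one_apply, apply_ite (Ideal.Quotient.mk I), eq_comm]
        · intro l' _ hl'; simp [pderiv_X, hl']
        · simp
      exact isUnit_det_of_map_eq_one hI.jac hJ)
  have htm : ∀ l, mk (t l) = 0 := fun l =>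
    Ideal.Quotient.eq_zero_iff_mem.mpr (by simpa using htI l)
  let a : Fin n → A := fun j => a₀ j + ∑ l, t l * Mv l j
  have hσa : mk.comp (aeval a) = σ.comp φ := hσ ▸ MvPolynomial.algHom_ext fun j => by
    simp [a, htm, map_sum]
  let F : Fin m → A := fun k => aeval a (f k)
  have hF : F + Matrix.vecMul t (1 - E) = 0 := funext fun k => by
    have := ht k
    simp only [H, map_add, heval, map_sum, map_mul, eval_X, eval_C] at this
    exact this
  let P' : Matrix (Fin m) (Fin m) A :=
    Matrix.of fun l k => aeval a (∑ j, M l j * pderiv j (f k) + N l k)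
  have hFP : Matrix.vecMul F P' = F := funext fun k => by
    have h1 := congrArg (aeval a) (hfN k)
    simp only [map_sum, map_mul] at h1
    exact h1.symm
  have hFE : Matrix.vecMul F E = 0 := by
    rw [eq_neg_of_add_eq_zero_left hF, Matrix.neg_vecMul, Matrix.vecMul_vecMul, Matrix.sub_mul,
      Matrix.one_mul, hE.eq, sub_self, Matrix.vecMul_zero, neg_zero]
  have hF0 : F = 0 := by
    have hB : (1 - P' + E).map (Ideal.Quotient.mk I) = 1 := by
      ext l k
      simp only [Matrix.map_apply, Matrix.add_apply, Matrix.sub_apply, map_add, map_sub,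
        Matrix.one_apply, apply_ite (Ideal.Quotient.mk I), map_one, map_zero]
      rw [show Ideal.Quotient.mk I (E l k) = Pm l k by rw [← hEP]; rfl, hP]
      have := AlgHom.congr_fun (hσa.trans hσ.symm) (∑ j, M l j * pderiv j (f k) + N l k)
      rw [AlgHom.comp_apply, AlgHom.comp_apply] at this
      rw [← this, hmk, show P' l k = aeval a (∑ j, M l j * pderiv j (f k) + N l k) from rfl,
        sub_add_cancel]
    have hz : Matrix.vecMul F (1 - P' + E) = 0 := by
      rw [Matrix.vecMul_add, Matrix.vecMul_sub, Matrix.vecMul_one, hFP, hFE, sub_self, add_zero]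
    exact Matrix.vecMul_injective_of_isUnit
      ((Matrix.isUnit_iff_isUnit_det _).mpr (isUnit_det_of_map_eq_one hI.jac hB))
      (hz.trans (Matrix.zero_vecMul _).symm)
  refine ⟨AlgHom.liftOfSurjective φ hφ (aeval a) ?_, ?_⟩
  · rw [show RingHom.ker φ.toRingHom = Ideal.span (Set.range f) from hf.symm, Ideal.span_le]
    rintro _ ⟨k, rfl⟩
    exact congrFun hF0 k
  · refine AlgHom.ext fun s => ?_
    obtain ⟨p, rfl⟩ := hφ s
    rw [AlgHom.comp_apply, AlgHom.liftOfSurjective_apply, ← AlgHom.comp_apply σ φ, ← hσa]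
    rfl

end Groth.Agent.HenselLib
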