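import Groth.Agent.HenselLib.Local
import Mathlib.RingTheory.ZariskisMainTheorem
import Mathlib.RingTheory.QuasiFinite.Basic
import Mathlib.RingTheory.FiniteType

/-!
# Splitting off the finite part of a finite type algebra over a henselian local ring
-/

universe u v w

namespace Groth.Agent.HenselLib

variable {R : Type u} [CommRing R] {S : Type v} [CommRing S] [Algebra R S]

/-- A finite subalgebra isomorphic to the whole algebra away from `r ∉ q`. -/
theorem exists_finite_model_at [Algebra.FiniteType R S] (q : Ideal S) [q.IsPrime]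
    [Algebra.QuasiFiniteAt R q] :
    ∃ E : Subalgebra R S, Module.Finite R E ∧ ∃ r : E, (r : S) ∉ q ∧
      ∀ y : S, ∃ n : ℕ, (r : S) ^ n * y ∈ E := by
  classical
  obtain ⟨r, hrq, hr, hm⟩ := Algebra.zariskisMainProperty_iff.mp
    (Algebra.ZariskisMainProperty.of_finiteType (R := R) q)
  choose m hm using hm
  obtain ⟨ys, hys⟩ := Algebra.FiniteType.out (R := R) (A := S)
  set t : Finset S := insert r (ys.image fun y => r ^ m y * y)
  have ht : ∀ z ∈ t, IsIntegral R z := by
    intro z hz
    rcases Finset.mem_insert.mp hz with rfl | hz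
    · exact hr
    · obtain ⟨y, -, rfl⟩ := Finset.mem_image.mp hz
      exact hm y
  set E := Algebra.adjoin R (t : Set S)
  have hrE : r ∈ E := Algebra.subset_adjoin (Finset.mem_coe.mpr (Finset.mem_insert_self _ _))
  refine ⟨E, ⟨(Submodule.fg_top _).mpr (fg_adjoin_of_finite t.finite_toSet ht)⟩, ⟨r, hrE⟩, hrq,
    fun y => ?_⟩
  have hy : y ∈ Algebra.adjoin R (ys : Set S) := hys ▸ Algebra.mem_top
  induction hy using Algebra.adjoin_induction with
  | mem y hy =>
    exact ⟨m y, Algebra.subset_adjoin
      (Finset.mem_coe.mpr (Finset.mem_insert_of_mem (Finset.mem_image_of_mem _ hy)))⟩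
  | algebraMap a => exact ⟨0, by simp⟩
  | add y z _ _ hy hz =>
    obtain ⟨n, hn⟩ := hy
    obtain ⟨k, hk⟩ := hz
    refine ⟨n + k, ?_⟩
    show r ^ (n + k) * (y + z) ∈ E
    rw [show r ^ (n + k) * (y + z) = r ^ k * (r ^ n * y) + r ^ n * (r ^ k * z) by ring]
    exact E.add_mem (E.mul_mem (pow_mem hrE k) hn) (E.mul_mem (pow_mem hrE n) hk)
  | mul y z _ _ hy hz =>
    obtain ⟨n, hn⟩ := hy
    obtain ⟨k, hk⟩ := hz
    refine ⟨n + k, ?_⟩
    show r ^ (n + k) * (y * z) ∈ E
    rw [show r ^ (n + k) * (y * z) = (r ^ n * y) * (r ^ k * z) by ring]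
    exact E.mul_mem hn hk

variable [IsLocalRing R]

open IsLocalRing

/-- Over a henselian local ring a quasi-finite point of the closed fibre lies in the support of an
idempotent `ε` with `εS` finite. -/
theorem exists_idem_at [HenselianRing R (maximalIdeal R)] [Algebra.FiniteType R S] (q : Ideal S)
    [q.IsPrime] [Algebra.QuasiFiniteAt R q] (hq : (maximalIdeal R).map (algebraMap R S) ≤ q) :
    ∃ ε : S, IsIdempotentElem ε ∧ ε ∉ q ∧ (LinearMap.range (LinearMap.mulLeft R ε)).FG := by
  obtain ⟨E, hE, r, hrq, hsat⟩ := exists_finite_model_at (R := R) q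
  let qE : Ideal E := q.comap E.val
  haveI : qE.IsPrime := Ideal.comap_isPrime _ _
  haveI : qE.IsMaximal := by
    refine Ideal.isMaximal_of_isIntegral_of_isMaximal_comap (R := R) qE ?_
    have hle : maximalIdeal R ≤ qE.comap (algebraMap R E) := fun a ha =>
      hq (Ideal.mem_map_of_mem _ ha)
    rw [← (maximalIdeal.isMaximal R).eq_of_le (Ideal.comap_ne_top _ ‹qE.IsPrime›.ne_top) hle]
    infer_instance
  obtain ⟨e, he, heq, hother⟩ := exists_separating_idem
    (bijOn_idem (maximalIdeal R) E).surjOn qE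
  have hu : IsUnit (r * e + (1 - e)) := by
    by_contra hnu
    obtain ⟨N, hN, hmem⟩ := exists_max_ideal_of_mem_nonunits hnu
    rcases eq_or_ne N qE with rfl | hne
    · have h1 : r * (e * e) ∈ qE := by
        have := qE.mul_mem_right e hmem
        rwa [add_mul, sub_mul, one_mul, he.eq, sub_self, add_zero, mul_assoc] at this
      rw [he.eq] at h1
      exact (‹qE.IsPrime›.mem_or_mem h1).elim hrq heq
    · exact hN.ne_top ((Ideal.eq_top_iff_one _).mpr (by
        have := N.add_mem hmem (N.mul_mem_left (1 - r) (hother N hN hne))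
        ring_nf at this
        exact this))
  obtain ⟨w, hw⟩ := hu.exists_left_inv
  have hwS : (w : S) * (r : S) * (e : S) = (e : S) := by
    have h1 : w * r * e = e := by
      have h2 : w * (r * e + (1 - e)) * e = 1 * e := by rw [hw]
      rw [mul_assoc, add_mul, sub_mul, one_mul, mul_assoc r, he.eq, sub_self, add_zero,
        ← mul_assoc] at h2
      exact h2
    exact congrArg Subtype.val h1
  have heS : IsIdempotentElem (e : S) := congrArg Subtype.val he
  refine ⟨(e : S), heS, heq, ?_⟩
  have hrange : LinearMap.range (LinearMap.mulLeft R (e : S)) =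
      LinearMap.range ((LinearMap.mulLeft R (e : S)).comp E.val.toLinearMap) := by
    refine le_antisymm ?_ (LinearMap.range_comp_le_range _ _)
    rintro _ ⟨y, rfl⟩
    obtain ⟨n, hn⟩ := hsat y
    have hpow : ∀ n : ℕ, ((w : S) * (r : S)) ^ n * (e : S) = (e : S) := by
      intro n
      induction n with
      | zero => simp
      | succ n ih => rw [pow_succ, mul_assoc, hwS, ih]
    refine ⟨w ^ n * ⟨_, hn⟩, ?_⟩
    show (e : S) * ((w : S) ^ n * ((r : S) ^ n * y)) = (e : S) * y
    conv_rhs => rw [← hpow n]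
    ring
  rw [hrange, LinearMap.range_eq_map]
  exact hE.fg_top.map _

/-- The splitting of a finite type algebra over a henselian local ring. -/
theorem exists_split [HenselianRing R (maximalIdeal R)] [Algebra.FiniteType R S] :
    ∃ e : S, IsIdempotentElem e ∧ Module.Finite R (S ⧸ Ideal.span ({1 - e} : Set S)) ∧
      ∀ (q : Ideal (S ⧸ Ideal.span ({e} : Set S))) [q.IsPrime],
        q.LiesOver (maximalIdeal R) → ¬ Algebra.QuasiFiniteAt R q := by
  set J := (maximalIdeal R).map (algebraMap R S) with hJ
  set π := Ideal.Quotient.mk J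
  letI := Ideal.Quotient.field (maximalIdeal R)
  haveI : Algebra.FiniteType (R ⧸ maximalIdeal R) (S ⧸ J) :=
    Algebra.FiniteType.of_restrictScalars_finiteType R _ _
  haveI : IsNoetherianRing (S ⧸ J) := Algebra.FiniteType.isNoetherianRing (R ⧸ maximalIdeal R) _
  let T : Set S := {e | IsIdempotentElem e ∧ (LinearMap.range (LinearMap.mulLeft R e)).FG}
  obtain ⟨_, ⟨e, ⟨he, hefg⟩, rfl⟩, hmax⟩ := set_has_maximal_iff_noetherian.mpr
    (inferInstance : IsNoetherian (S ⧸ J) (S ⧸ J))
    ((fun e => Ideal.span {π e}) '' T)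
    ⟨_, 0, ⟨IsIdempotentElem.zero, by
      rw [show LinearMap.mulLeft R (0 : S) = 0 from LinearMap.mulLeft_zero_eq_zero R S,
        LinearMap.range_zero]
      exact Submodule.fg_bot⟩, rfl⟩
  refine ⟨e, he, ?_, fun q _ hqm hqf => ?_⟩
  · refine ⟨?_⟩
    have htop : (⊤ : Submodule R (S ⧸ Ideal.span ({1 - e} : Set S))) =
        (LinearMap.range (LinearMap.mulLeft R e)).map
          (Ideal.Quotient.mkₐ R (Ideal.span ({1 - e} : Set S))).toLinearMap := by
      refine (top_unique fun y _ => ?_).symm
      obtain ⟨y, rfl⟩ := Ideal.Quotient.mk_surjective y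
      refine ⟨e * y, ⟨y, rfl⟩, Ideal.Quotient.eq.mpr (Ideal.mem_span_singleton'.mpr ⟨-y, ?_⟩)⟩
      ring
    rw [htop]
    exact hefg.map _
  · set mk := Ideal.Quotient.mk (Ideal.span ({e} : Set S))
    have hqle : (maximalIdeal R).map (algebraMap R _) ≤ q :=
      Ideal.map_le_iff_le_comap.mpr (hqm.over).le
    haveI := hqf
    obtain ⟨ē, hē, hēq, hēfg⟩ := exists_idem_at (R := R) q hqle
    obtain ⟨s, rfl⟩ := Ideal.Quotient.mk_surjective ē
    obtain ⟨c, hc⟩ := Ideal.mem_span_singleton'.mp (Ideal.Quotient.eq.mp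
      (show mk (s * s) = mk s by rw [map_mul]; exact hē))
    set ε := (1 - e) * s with hε
    have he' : e * e = e := he
    have hεidem : IsIdempotentElem ε := by
      show (1 - e) * s * ((1 - e) * s) = (1 - e) * s
      linear_combination (s * s - c) * he' - (1 - e) * hc
    let ψ : (S ⧸ Ideal.span ({e} : Set S)) →ₗ[R] S :=
      (Submodule.liftQ ((Ideal.span ({e} : Set S)).restrictScalars R) (LinearMap.mulLeft R (1 - e))
        (fun x hx => by
          obtain ⟨b, rfl⟩ := Ideal.mem_span_singleton'.mp hx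
          show (1 - e) * (b * e) = 0
          linear_combination (-b) * he')) ∘ₗ
        (Submodule.Quotient.restrictScalarsEquiv R (Ideal.span ({e} : Set S))).symm.toLinearMap
    have hψ : ∀ y, ψ (mk y) = (1 - e) * y := fun y => rfl
    have hεfg : (LinearMap.range (LinearMap.mulLeft R ε)).FG := by
      have : LinearMap.range (LinearMap.mulLeft R ε) =
          (LinearMap.range (LinearMap.mulLeft R (mk s))).map ψ := by
        ext x
        constructor
        · rintro ⟨y, rfl⟩
          exact ⟨mk s * mk y, ⟨mk y, rfl⟩, by rw [← map_mul, hψ]; simp [hε, mul_assoc]⟩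
        · rintro ⟨_, ⟨z, rfl⟩, rfl⟩
          obtain ⟨y, rfl⟩ := Ideal.Quotient.mk_surjective z
          refine ⟨y, ?_⟩
          show ε * y = ψ (mk s * mk y)
          rw [← map_mul, hψ, hε]
          ring
      rw [this]
      exact hēfg.map ψ
    have hmulε : e * ε = 0 := by rw [hε]; linear_combination (-s) * he'
    have hsum : e + ε ∈ T := by
      refine ⟨?_, ?_⟩
      · show (e + ε) * (e + ε) = e + ε
        linear_combination he' + hεidem.eq + 2 * hmulε
      · have : LinearMap.range (LinearMap.mulLeft R (e + ε)) =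
            LinearMap.range (LinearMap.mulLeft R e) ⊔ LinearMap.range (LinearMap.mulLeft R ε) := by
          refine le_antisymm ?_ (sup_le ?_ ?_)
          · rintro _ ⟨y, rfl⟩
            exact Submodule.mem_sup.mpr ⟨e * y, ⟨y, rfl⟩, ε * y, ⟨y, rfl⟩, (add_mul e ε y).symm⟩
          · rintro _ ⟨y, rfl⟩
            refine ⟨e * y, ?_⟩
            show (e + ε) * (e * y) = e * y
            linear_combination y * he' + y * hmulε
          · rintro _ ⟨y, rfl⟩
            refine ⟨ε * y, ?_⟩
            show (e + ε) * (ε * y) = ε * y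
            linear_combination y * hεidem.eq + y * hmulε
        rw [this]
        exact hefg.sup hεfg
    have hle : Ideal.span {π e} ≤ Ideal.span {π (e + ε)} := by
      rw [Ideal.span_singleton_le_iff_mem, Ideal.mem_span_singleton']
      exact ⟨π e, by rw [← map_mul]; congr 1; linear_combination he' + hmulε⟩
    have heq : Ideal.span {π (e + ε)} = Ideal.span {π e} :=
      ((hle.lt_or_eq).resolve_left (hmax _ ⟨e + ε, hsum, rfl⟩)).symm
    apply hēq
    obtain ⟨b, hb⟩ := Ideal.mem_span_singleton'.mp (heq ▸ Ideal.mem_span_singleton_self (π (e + ε)))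
    obtain ⟨b, rfl⟩ := Ideal.Quotient.mk_surjective b
    rw [← map_mul, Ideal.Quotient.eq] at hb
    have hmem := Ideal.mem_map_of_mem mk hb
    rw [hJ, Ideal.map_map] at hmem
    have h2 : mk (b * e - (e + ε)) ∈ q := hqle hmem
    have hme : mk e = 0 := Ideal.Quotient.eq_zero_iff_mem.mpr (Ideal.mem_span_singleton_self e)
    simp only [map_sub, map_mul, map_add, map_one, hε, hme, mul_zero, zero_add, zero_sub, sub_zero,
      one_mul, neg_mem_iff] at h2
    exact h2

/-- In a quasi-finite algebra the closed fibre of the complementary part is empty. -/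
theorem exists_split_quasiFinite [HenselianRing R (maximalIdeal R)] [Algebra.FiniteType R S]
    [Algebra.QuasiFinite R S] :
    ∃ e : S, IsIdempotentElem e ∧ Module.Finite R (S ⧸ Ideal.span ({1 - e} : Set S)) ∧
      (maximalIdeal R).map (algebraMap R (S ⧸ Ideal.span ({e} : Set S))) = ⊤ := by
  obtain ⟨e, he, hfin, hno⟩ := exists_split (R := R) (S := S)
  refine ⟨e, he, hfin, ?_⟩
  by_contra hne
  obtain ⟨M, hM, hle⟩ := Ideal.exists_le_maximal _ hne
  haveI := hM.isPrime
  exact hno M ⟨(maximalIdeal.isMaximal R).eq_of_le (Ideal.comap_ne_top _ hM.ne_top)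
    (Ideal.map_le_iff_le_comap.mp hle)⟩ inferInstance

end Groth.Agent.HenselLib
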