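import Groth.Agent.HenselLib.Split
import Mathlib.RingTheory.Polynomial.Basic
import Mathlib.Algebra.Polynomial.Reverse
import Mathlib.RingTheory.Localization.Away.Basic
import Mathlib.RingTheory.Localization.Finiteness

/-!
# Splitting of finite type algebras characterises henselian local rings
-/

universe u

open Polynomial IsLocalRing

namespace Groth.Agent.HenselLib

/-- An integral unit has its inverse in the polynomials in it. -/
theorem exists_aeval_mul_eq_one {R F : Type*} [CommRing R] [CommRing F] [Algebra R F] {x v : F}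
    (hxv : x * v = 1) (hv : IsIntegral R v) : ∃ p : R[X], x * aeval x p = 1 := by
  obtain ⟨P, hP, hPv⟩ := hv
  letI : Invertible v := ⟨x, hxv, by rw [mul_comm, hxv]⟩
  have h : aeval x P.reverse = 0 := (eval₂_reverse_eq_zero_iff (algebraMap R F) v P).mpr hPv
  rw [← X_mul_divX_add P.reverse, map_add, map_mul, aeval_X, aeval_C, coeff_zero_reverse,
    hP.leadingCoeff, map_one] at h
  exact ⟨-P.reverse.divX, by rw [map_neg]; linear_combination -h⟩

/-- If finite type algebras split, the ring is henselian. -/
theorem henselianLocalRing_of_split (R : Type u) [CommRing R] [IsLocalRing R]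
    (h : ∀ (S : Type u) [CommRing S] [Algebra R S] [Algebra.FiniteType R S],
      ∃ e : S, IsIdempotentElem e ∧ Module.Finite R (S ⧸ Ideal.span ({1 - e} : Set S)) ∧
        ∀ (q : Ideal (S ⧸ Ideal.span ({e} : Set S))) [q.IsPrime],
          q.LiesOver (maximalIdeal R) → ¬ Algebra.QuasiFiniteAt R q) :
    HenselianLocalRing R := by
  haveI : HenselianRing R (maximalIdeal R) := by
    refine henselianRing_of_liftsIdem (maximalIdeal_le_jacobson _)
      (liftsIdem_of_surjOn (maximalIdeal_le_jacobson _) fun m p hp _ => ?_)
    haveI := hp.finite_adjoinRoot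
    set B := AdjoinRoot p
    intro ē hē
    obtain ⟨g, rfl⟩ := Ideal.Quotient.mk_surjective ē
    set J := (maximalIdeal R).map (algebraMap R B) with hJ
    set π := Ideal.Quotient.mk J
    set S := Localization.Away g
    haveI : Algebra.FiniteType B S := IsLocalization.finiteType_of_monoid_fg (Submonoid.powers g) S
    haveI : Algebra.FiniteType R S := Algebra.FiniteType.trans (S := B) inferInstance inferInstance
    obtain ⟨e, he, hfin, hno⟩ := h S
    obtain ⟨b, ⟨_, n, rfl⟩, hbe⟩ := IsLocalization.exists_mk'_eq (Submonoid.powers g) e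
    have hbe' : e * algebraMap B S (g ^ n) = algebraMap B S b := by
      rw [← hbe]; exact IsLocalization.mk'_spec _ _ _
    have hgn : IsUnit (algebraMap B S (g ^ n)) :=
      IsLocalization.map_units S (⟨g ^ n, n, rfl⟩ : Submonoid.powers g)
    set s := g * b with hs
    set F := S ⧸ Ideal.span ({1 - e} : Set S)
    let φ : B →ₐ[R] F := (Ideal.Quotient.mkₐ R _).comp (IsScalarTower.toAlgHom R B S)
    have hq1 : Ideal.Quotient.mk (Ideal.span ({1 - e} : Set S)) e = 1 := by
      rw [← map_one (Ideal.Quotient.mk (Ideal.span ({1 - e} : Set S))), eq_comm, Ideal.Quotient.eq]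
      exact Ideal.mem_span_singleton_self _
    have hus : IsUnit (φ s) := by
      show IsUnit (Ideal.Quotient.mk _ (algebraMap B S (g * b)))
      rw [map_mul, ← hbe', map_mul, map_mul, hq1, one_mul]
      exact ((IsLocalization.Away.algebraMap_isUnit (S := S) g).map _).mul (hgn.map _)
    obtain ⟨v, hv⟩ := isUnit_iff_exists_inv.mp hus
    haveI : Module.Finite R F := hfin
    obtain ⟨P, hP⟩ := exists_aeval_mul_eq_one (R := R) hv (Algebra.IsIntegral.isIntegral v)
    rw [aeval_algHom_apply, ← map_mul] at hP
    set b' := aeval s P with hb'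
    have h0 : e * algebraMap B S (s * b' - 1) = 0 := by
      have h1 : Ideal.Quotient.mk (Ideal.span ({1 - e} : Set S)) (algebraMap B S (s * b' - 1)) = 0 := by
        rw [map_sub, map_sub, map_one, map_one, sub_eq_zero]
        exact hP
      obtain ⟨c, hc⟩ := Ideal.mem_span_singleton'.mp (Ideal.Quotient.eq_zero_iff_mem.mp h1)
      rw [← hc]
      linear_combination (-c) * (he.eq)
    have h1 : algebraMap B S (b * (s * b' - 1)) = 0 := by
      rw [map_mul, ← hbe', mul_right_comm, h0, zero_mul]
    obtain ⟨⟨_, k, rfl⟩, hk⟩ := (IsLocalization.map_eq_zero_iff (Submonoid.powers g) S _).mp h1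
    have hk' : g ^ k * (b * (s * b' - 1)) = 0 := hk
    have hstep : ∀ N, s ^ (k + 1) * (s * b') ^ N = s ^ (k + 1) := by
      intro N
      induction N with
      | zero => simp
      | succ N ih =>
        have e1 : s ^ (k + 1) * (s * b' - 1) = 0 := by
          rw [show s ^ (k + 1) * (s * b' - 1) = g * b ^ k * (g ^ k * (b * (s * b' - 1))) by
            rw [hs]; ring, hk', mul_zero]
        rw [pow_succ (s * b') N, ← mul_assoc, ih]
        linear_combination e1
    set f := (s * b') ^ (k + 1) with hf
    have hfidem : IsIdempotentElem f := by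
      show f * f = f
      calc f * f = b' ^ (k + 1) * (s ^ (k + 1) * (s * b') ^ (k + 1)) := by rw [hf]; ring
        _ = f := by rw [hstep, hf]; ring
    refine ⟨f, hfidem, ?_⟩
    have hg2 : π g * π g = π g := hē
    have hgpow : ∀ j : ℕ, π g ^ (j + 1) = π g := fun j => IsIdempotentElem.pow_succ_eq j hē
    obtain ⟨c₀, hc₀⟩ : π g ∣ π f := by
      refine map_dvd π (dvd_trans (dvd_mul_right g b) ?_)
      exact (dvd_mul_right s b').trans (dvd_pow_self _ (Nat.succ_ne_zero k))
    have h₁ : π g * π f = π f := by
      rw [hc₀, ← mul_assoc, hg2]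
    have htop : (maximalIdeal R).map (algebraMap R (S ⧸ Ideal.span ({e} : Set S))) = ⊤ := by
      by_contra hne
      obtain ⟨M, hM, hle⟩ := Ideal.exists_le_maximal _ hne
      haveI := hM.isPrime
      haveI : Algebra.QuasiFinite R B := inferInstance
      haveI : Algebra.QuasiFinite R S := inferInstance
      exact hno M ⟨(maximalIdeal.isMaximal R).eq_of_le (Ideal.comap_ne_top _ hM.ne_top)
        (Ideal.map_le_iff_le_comap.mp hle)⟩ inferInstance
    have hmem : (1 : S) ∈ (J ⊔ Ideal.span {b}).map (algebraMap B S) := by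
      rw [Ideal.map_sup, hJ, Ideal.map_map, ← IsScalarTower.algebraMap_eq, Ideal.map_span,
        Set.image_singleton, ← hbe', Ideal.span_singleton_mul_right_unit hgn]
      have h2 := congrArg (Ideal.comap (Ideal.Quotient.mk (Ideal.span ({e} : Set S)))) htop
      rw [Ideal.comap_top, ← Ideal.Quotient.mk_comp_algebraMap, ← Ideal.map_map,
        Ideal.comap_map_of_surjective _ Ideal.Quotient.mk_surjective, ← RingHom.ker_eq_comap_bot,
        Ideal.mk_ker] at h2
      rw [h2]
      exact Submodule.mem_top
    rw [← map_one (algebraMap B S),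
      IsLocalization.algebraMap_mem_map_algebraMap_iff (Submonoid.powers g)] at hmem
    obtain ⟨_, ⟨j, rfl⟩, hj⟩ := hmem
    rw [mul_one] at hj
    obtain ⟨x, hx, y, hy, hxy⟩ := Submodule.mem_sup.mp hj
    obtain ⟨c, rfl⟩ := Ideal.mem_span_singleton'.mp hy
    have hgs : π g = π s * π c := by
      have e1 := congrArg π hxy
      rw [map_add, Ideal.Quotient.eq_zero_iff_mem.mpr hx, zero_add, map_pow] at e1
      rw [← hgpow j, pow_succ, ← e1, hs]
      simp only [map_mul]
      ring
    have h₂ : π g * π f = π g := by
      rw [← hgpow k, hgs, mul_pow, mul_right_comm]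
      congr 1
      rw [hf, ← map_pow, ← map_mul, hstep]
    show π f = π g
    rw [← h₁, h₂]
  exact henselianLocalRing_of_henselianRing

end Groth.Agent.HenselLib
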